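import Mathlib

/-!
Moved and fixed spaces of subgroups acting linearly.
-/

set_option autoImplicit false
set_option linter.unusedSectionVars false

namespace CfsgLib.AltLinear

open Module

variable {F : Type} [Field F] {V : Type} [AddCommGroup V] [Module F V] {G : Type} [Group G]
  (ρ : G →* Module.End F V)

theorem rho_mul_apply (g h : G) (v : V) : ρ (g * h) v = ρ g (ρ h v) := by rw [map_mul]; rfl

theorem rho_one_apply (v : V) : ρ 1 v = v := by rw [map_one]; rfl

theorem rho_inv_apply (g : G) (v : V) : ρ g⁻¹ (ρ g v) = v := by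
  rw [← rho_mul_apply, inv_mul_cancel, rho_one_apply]

theorem rho_apply_inv (g : G) (v : V) : ρ g (ρ g⁻¹ v) = v := by
  rw [← rho_mul_apply, mul_inv_cancel, rho_one_apply]

theorem rho_injective (g : G) : Function.Injective (ρ g) :=
  Function.LeftInverse.injective (g := ρ g⁻¹) (rho_inv_apply ρ g)

/-- The span of all `g v - v`, for `g` in a subgroup. -/
def moved (Q : Subgroup G) : Submodule F V :=
  Submodule.span F {w | ∃ g ∈ Q, ∃ v, ρ g v - v = w}

theorem sub_mem_moved {Q : Subgroup G} {g : G} (hg : g ∈ Q) (v : V) : ρ g v - v ∈ moved ρ Q :=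
  Submodule.subset_span ⟨g, hg, v, rfl⟩

theorem moved_le {Q : Subgroup G} {N : Submodule F V} (h : ∀ g ∈ Q, ∀ v, ρ g v - v ∈ N) : moved ρ Q ≤ N :=
  Submodule.span_le.mpr fun _ ⟨g, hg, v, e⟩ => e ▸ h g hg v

theorem moved_mono {Q R : Subgroup G} (h : Q ≤ R) : moved ρ Q ≤ moved ρ R :=
  moved_le ρ fun _ hg v => sub_mem_moved ρ (h hg) v

theorem apply_mem_moved {Q R : Subgroup G} (g : G) (h : ∀ q ∈ Q, g * q * g⁻¹ ∈ R) {v : V} (hv : v ∈ moved ρ Q) :
    ρ g v ∈ moved ρ R := by
  refine (show moved ρ Q ≤ (moved ρ R).comap (ρ g) from moved_le ρ fun q hq w => ?_) hv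
  show ρ g (ρ q w - w) ∈ moved ρ R
  have := sub_mem_moved ρ (h q hq) (ρ g w)
  rwa [rho_mul_apply, rho_mul_apply, rho_inv_apply, ← map_sub] at this

/-- The common fixed space of a subgroup. -/
def fixed (Q : Subgroup G) : Submodule F V where
  carrier := {v | ∀ g ∈ Q, ρ g v = v}
  zero_mem' := fun g _ => map_zero _
  add_mem' := fun {a b} ha hb g hg => by rw [map_add, ha g hg, hb g hg]
  smul_mem' := fun c a ha g hg => by rw [map_smul, ha g hg]

theorem mem_fixed {Q : Subgroup G} {v : V} : v ∈ fixed ρ Q ↔ ∀ g ∈ Q, ρ g v = v := Iff.rfl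

theorem fixed_mono {Q R : Subgroup G} (h : Q ≤ R) : fixed ρ R ≤ fixed ρ Q := fun _ hv g hg => hv g (h hg)

/-- The elements fixing a subspace pointwise. -/
def fixer (N : Submodule F V) : Subgroup G where
  carrier := {g | ∀ v ∈ N, ρ g v = v}
  one_mem' := fun v _ => rho_one_apply ρ v
  mul_mem' := fun {a b} ha hb v hv => by rw [rho_mul_apply, hb v hv, ha v hv]
  inv_mem' := fun {a} ha v hv => by
    have := rho_inv_apply ρ a v
    rwa [ha v hv] at this

theorem mem_fixer {N : Submodule F V} {g : G} : g ∈ fixer ρ N ↔ ∀ v ∈ N, ρ g v = v := Iff.rfl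

theorem le_fixed_iff {Q : Subgroup G} {N : Submodule F V} : N ≤ fixed ρ Q ↔ Q ≤ fixer ρ N :=
  ⟨fun h _ hg _ hv => h hv _ hg, fun h _ hv _ hg => h hg _ hv⟩

/-- The elements stabilising a subspace. -/
def stab (N : Submodule F V) : Subgroup G where
  carrier := {g | ∀ v ∈ N, ρ g v ∈ N ∧ ρ g⁻¹ v ∈ N}
  one_mem' := fun v hv => by rw [inv_one, rho_one_apply]; exact ⟨hv, hv⟩
  mul_mem' := fun {a b} ha hb v hv => by
    rw [mul_inv_rev, rho_mul_apply, rho_mul_apply]
    exact ⟨(ha _ (hb v hv).1).1, (hb _ (ha v hv).2).2⟩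
  inv_mem' := fun {a} ha v hv => by rw [inv_inv]; exact (ha v hv).symm

theorem fixer_le_stab (N : Submodule F V) : fixer ρ N ≤ stab ρ N := fun g hg v hv =>
  ⟨(hg v hv).symm ▸ hv, ((fixer ρ N).inv_mem hg v hv).symm ▸ hv⟩

/-- The elements acting trivially on the quotient by a subspace. -/
def trivQuot (N : Submodule F V) : Subgroup G where
  carrier := {g | ∀ v, ρ g v - v ∈ N}
  one_mem' := fun v => by rw [rho_one_apply, sub_self]; exact N.zero_mem
  mul_mem' := fun {a b} ha hb v => by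
    rw [rho_mul_apply, show ρ a (ρ b v) - v = (ρ a (ρ b v) - ρ b v) + (ρ b v - v) by abel]
    exact N.add_mem (ha _) (hb v)
  inv_mem' := fun {a} ha v => by
    have := N.neg_mem (ha (ρ a⁻¹ v))
    rwa [rho_apply_inv, neg_sub] at this

theorem le_trivQuot_moved (Q : Subgroup G) : Q ≤ trivQuot ρ (moved ρ Q) := fun _ hg v => sub_mem_moved ρ hg v

theorem moved_le_iff {Q : Subgroup G} {N : Submodule F V} : moved ρ Q ≤ N ↔ Q ≤ trivQuot ρ N :=
  ⟨fun h _ hg v => h (sub_mem_moved ρ hg v), fun h => moved_le ρ fun _ hg v => h hg v⟩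

theorem le_stab_moved {Q R : Subgroup G} (h : ∀ g ∈ R, ∀ q ∈ Q, g * q * g⁻¹ ∈ Q) : R ≤ stab ρ (moved ρ Q) :=
  fun g hg _ hv => ⟨apply_mem_moved ρ g (h g hg) hv, apply_mem_moved ρ g⁻¹ (h g⁻¹ (inv_mem hg)) hv⟩

/-- Averaging. -/
theorem isCompl_fixed_moved (Q : Subgroup G) [Finite Q] (hQ : (Nat.card Q : F) ≠ 0) :
    IsCompl (fixed ρ Q) (moved ρ Q) := by
  haveI := Fintype.ofFinite Q
  rw [Nat.card_eq_fintype_card] at hQ
  let P : V →ₗ[F] V := ((Fintype.card Q : F))⁻¹ • ∑ q : Q, (ρ (q : G) : V →ₗ[F] V)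
  have hP : ∀ v, P v = ((Fintype.card Q : F))⁻¹ • ∑ q : Q, ρ (q : G) v := fun v => by simp [P]
  have hfix : ∀ v ∈ fixed ρ Q, P v = v := fun v hv => by
    rw [hP, Finset.sum_congr rfl fun (q : Q) _ => hv (q : G) q.2, Finset.sum_const, Finset.card_univ,
      ← Nat.cast_smul_eq_nsmul F, smul_smul, inv_mul_cancel₀ hQ, one_smul]
  have hmv : moved ρ Q ≤ LinearMap.ker P := moved_le ρ fun g hg v => by
    rw [LinearMap.mem_ker, map_sub, hP, hP, ← smul_sub, sub_eq_zero.mpr, smul_zero]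
    exact Fintype.sum_equiv (Equiv.mulRight (⟨g, hg⟩ : Q)) _ _ fun q => (rho_mul_apply ρ (q : G) g v).symm
  refine ⟨disjoint_iff.mpr (eq_bot_iff.mpr fun v ⟨h₁, h₂⟩ => ?_), codisjoint_iff.mpr (eq_top_iff.mpr fun v _ => ?_)⟩
  · rw [Submodule.mem_bot, ← hfix v h₁]
    exact hmv h₂
  · refine Submodule.mem_sup.mpr ⟨P v, fun g hg => ?_, v - P v, ?_, by abel⟩
    · rw [hP, map_smul, map_sum]
      congr 1
      exact Fintype.sum_equiv (Equiv.mulLeft (⟨g, hg⟩ : Q)) _ _ fun q => (rho_mul_apply ρ g (q : G) v).symm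
    · have e : v - P v = -(((Fintype.card Q : F))⁻¹ • ∑ q : Q, (ρ (q : G) v - v)) := by
        rw [Finset.sum_sub_distrib, smul_sub, ← hP, Finset.sum_const, Finset.card_univ,
          ← Nat.cast_smul_eq_nsmul F, smul_smul, inv_mul_cancel₀ hQ, one_smul, neg_sub]
      rw [e]
      exact (moved ρ Q).neg_mem ((moved ρ Q).smul_mem _ (Submodule.sum_mem _ fun q _ => sub_mem_moved ρ q.2 v))

/-- Two subspaces carried into each other by a pair of mutually inverse maps have one dimension. -/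
theorem finrank_le_of_mapsTo [FiniteDimensional F V] {A B : Submodule F V} (g : G) (h : ∀ v ∈ A, ρ g v ∈ B) :
    finrank F A ≤ finrank F B := by
  refine LinearMap.finrank_le_finrank_of_injective (f := (ρ g).restrict (p := A) (q := B) h) fun a b e => Subtype.ext ?_
  exact rho_injective ρ g (congrArg Subtype.val e)

theorem finrank_moved_conj [FiniteDimensional F V] {Q R : Subgroup G} (g : G) (h : ∀ q ∈ Q, g * q * g⁻¹ ∈ R)
    (h' : ∀ q ∈ R, g⁻¹ * q * g⁻¹⁻¹ ∈ Q) : finrank F (moved ρ Q) = finrank F (moved ρ R) :=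
  le_antisymm (finrank_le_of_mapsTo ρ g fun _ hv => apply_mem_moved ρ g h hv)
    (finrank_le_of_mapsTo ρ g⁻¹ fun _ hv => apply_mem_moved ρ g⁻¹ h' hv)

/-- A lower bound for all nontrivial modules applies to every stable subspace moved by the image. -/
theorem bound_sub [FiniteDimensional F V] {H : Type} [Group H] (φ : H →* G) {b : ℕ}
    (low : ∀ (W : Type) [AddCommGroup W] [Module F W] [FiniteDimensional F W] (σ : H →* Module.End F W),
      (∃ x, σ x ≠ 1) → b ≤ finrank F W)
    (N : Submodule F V) (hN : ∀ x, ∀ v ∈ N, ρ (φ x) v ∈ N) (hx : ∃ x, ∃ v ∈ N, ρ (φ x) v ≠ v) :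
    b ≤ finrank F N := by
  let σ : H →* Module.End F N :=
    { toFun := fun x => (ρ (φ x)).restrict (hN x)
      map_one' := LinearMap.ext fun v => Subtype.ext (by simp)
      map_mul' := fun a c => LinearMap.ext fun v => Subtype.ext (by simp) }
  obtain ⟨x, v, hv, hne⟩ := hx
  exact low N σ ⟨x, fun h => hne (congrArg Subtype.val (LinearMap.congr_fun h ⟨v, hv⟩))⟩

theorem finrank_sup_of_inf [FiniteDimensional F V] {A B : Submodule F V} (h : A ⊓ B = ⊥) :
    finrank F ↥(A ⊔ B) = finrank F A + finrank F B := by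
  have := Submodule.finrank_sup_add_finrank_inf_eq A B
  rw [h, finrank_bot] at this
  omega

/-- Three independent eigenspaces. -/
theorem three_eigen [FiniteDimensional F V] (f : Module.End F V) {a b c : F} (hab : a ≠ b) (hac : a ≠ c) (hbc : b ≠ c) :
    finrank F (f.eigenspace a) + finrank F (f.eigenspace b) + finrank F (f.eigenspace c) ≤ finrank F V := by
  have key : ∀ u v w : V, u ∈ f.eigenspace a → v ∈ f.eigenspace b → w ∈ f.eigenspace c → u + v + w = 0 → w = 0 := by
    intro u v w hu hv hw h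
    rw [Module.End.mem_eigenspace_iff] at hu hv hw
    have h1 : a • u + b • v + c • w = 0 := by
      have := congrArg f h
      rwa [map_add, map_add, map_zero, hu, hv, hw] at this
    have h2 : a • a • u + b • b • v + c • c • w = 0 := by
      have := congrArg f h1
      rwa [map_add, map_add, map_zero, map_smul, map_smul, map_smul, hu, hv, hw] at this
    have : ((c - a) * (c - b)) • w = 0 := by
      linear_combination (norm := module) h2 - (a + b) • h1 + (a * b) • h
    exact (smul_eq_zero.mp this).resolve_left (mul_ne_zero (sub_ne_zero.mpr hac.symm) (sub_ne_zero.mpr hbc.symm))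
  have i1 : f.eigenspace a ⊓ f.eigenspace b = ⊥ :=
    disjoint_iff.mp (Module.End.eigenspaces_iSupIndep f |>.pairwiseDisjoint hab)
  have i2 : (f.eigenspace a ⊔ f.eigenspace b) ⊓ f.eigenspace c = ⊥ := by
    refine eq_bot_iff.mpr fun w ⟨hw, hwc⟩ => ?_
    obtain ⟨u, hu, v, hv, e⟩ := Submodule.mem_sup.mp hw
    rw [Submodule.mem_bot, ← neg_eq_zero]
    exact key u v (-w) hu hv ((f.eigenspace c).neg_mem hwc) (by rw [e, add_neg_cancel])
  rw [← finrank_sup_of_inf i1, ← finrank_sup_of_inf i2]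
  exact Submodule.finrank_le _

end CfsgLib.AltLinear
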