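import Cfsg.Agent.Lib.AltLinear.Perm
import Cfsg.Agent.Lib.AltLinear.Eigen

/-!
Modules for an alternating group in which the moved space of a small supported subgroup is fixed by the supported
subgroup of the complement.
-/

set_option autoImplicit false
set_option linter.unusedSectionVars false

namespace CfsgLib.AltLinear

open Module Equiv

variable {r : ℕ} {F : Type} [Field F] {V : Type} [AddCommGroup V] [Module F V] [FiniteDimensional F V]
  (ρ : Alt r →* Module.End F V)

/-- The hypotheses on the supported subgroups of the sets of one size. -/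
structure Frame (s d : ℕ) (Q : Finset (Fin r) → Subgroup (Alt r)) : Prop where
  three : 3 ≤ s
  le : ∀ X, X.card = s → Q X ≤ fixOut X
  conj : ∀ X, X.card = s → ∀ g : Alt r, ∀ q ∈ Q X, g * q * g⁻¹ ∈ Q (X.image g.1)
  card : ∀ X, X.card = s → (Nat.card (Q X) : F) ≠ 0
  triv : ∀ X, X.card = s → fixOut Xᶜ ≤ fixer ρ (moved ρ (Q X))
  dim : ∀ X, X.card = s → finrank F (moved ρ (Q X)) = d
  pos : 0 < d

/-- The sum of the moved spaces inside a set. -/
def W (s : ℕ) (Q : Finset (Fin r) → Subgroup (Alt r)) (S : Finset (Fin r)) : Submodule F V :=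
  ⨆ X, ⨆ (_ : X ∈ S.powersetCard s), moved ρ (Q X)

variable {ρ} {s d : ℕ} {Q : Finset (Fin r) → Subgroup (Alt r)}

theorem le_W {S X : Finset (Fin r)} (hX : X ⊆ S) (hc : X.card = s) : moved ρ (Q X) ≤ W ρ s Q S :=
  le_iSup₂_of_le (f := fun X (_ : X ∈ S.powersetCard s) => moved ρ (Q X)) X (Finset.mem_powersetCard.mpr ⟨hX, hc⟩) le_rfl

theorem W_le {S : Finset (Fin r)} {N : Submodule F V} (h : ∀ X, X ⊆ S → X.card = s → moved ρ (Q X) ≤ N) :
    W ρ s Q S ≤ N :=
  iSup₂_le fun X hX => h X (Finset.mem_powersetCard.mp hX).1 (Finset.mem_powersetCard.mp hX).2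

theorem W_mono {S T : Finset (Fin r)} (h : S ⊆ T) : W ρ s Q S ≤ W ρ s Q T :=
  W_le fun _ hX hc => le_W (hX.trans h) hc

theorem Frame.fixer_W (h : Frame ρ s d Q) (S : Finset (Fin r)) : fixOut Sᶜ ≤ fixer ρ (W ρ s Q S) := by
  rw [← le_fixed_iff]
  refine W_le fun X hX hc => ?_
  rw [le_fixed_iff]
  exact (fixOut_mono (Finset.compl_subset_compl.mpr hX)).trans (h.triv X hc)

theorem Frame.map_W (h : Frame ρ s d Q) (S : Finset (Fin r)) (g : Alt r) {v : V} (hv : v ∈ W ρ s Q S) :
    ρ g v ∈ W ρ s Q (S.image g.1) := by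
  refine (show W ρ s Q S ≤ (W ρ s Q (S.image g.1)).comap (ρ g) from W_le fun X hX hc u hu => ?_) hv
  exact le_W (Finset.image_subset_image hX) (by rw [card_image_alt, hc]) (apply_mem_moved ρ g (h.conj X hc g) hu)

theorem Frame.stab_W (h : Frame ρ s d Q) (S : Finset (Fin r)) : fixOut S ≤ stab ρ (W ρ s Q S) := by
  have hS : ∀ g ∈ fixOut S, S.image g.1 = S := fun g hg =>
    Finset.eq_of_subset_of_card_le (Finset.image_subset_iff.mpr fun x hx => fixOut_apply_mem hg hx)
      (by rw [card_image_alt])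
  intro g hg v hv
  have h1 := h.map_W S g hv
  have h2 := h.map_W S g⁻¹ hv
  rw [hS g hg] at h1
  rw [hS _ (inv_mem hg)] at h2
  exact ⟨h1, h2⟩

theorem Frame.image_eq (h : Frame ρ s d Q) {X Y : Finset (Fin r)} (hX : X.card = s) (hY : Y.card = s)
    (hr : s + 2 ≤ r) {v : V} (hv : v ∈ moved ρ (Q Y)) :
    ∃ g : Alt r, ∃ u ∈ moved ρ (Q X), ρ g u = v := by
  obtain ⟨g, hg⟩ := exists_image (hY.trans hX.symm) (hY.symm ▸ hr)
  refine ⟨g⁻¹, ρ g v, ?_, rho_inv_apply ρ g v⟩
  have := apply_mem_moved ρ g (h.conj Y hY g) hv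
  rwa [hg] at this

theorem Frame.grow (h : Frame ρ s d Q) {S : Finset (Fin r)} (hS : s ≤ S.card) {t : Fin r} (ht : t ∉ S)
    (hr : S.card + s < r) : W ρ s Q S < W ρ s Q (insert t S) := by
  refine lt_of_le_of_ne (W_mono (Finset.subset_insert _ _)) fun e => ?_
  have hs := h.three
  have hc : Sᶜ.card = r - S.card := by rw [Finset.card_compl, Fintype.card_fin]
  have hall : ∀ g, g ∈ stab ρ (W ρ s Q S) := by
    refine top_le_of_join (S := insert t S) (T := Sᶜ) ?_ (by omega) (Finset.mem_insert_self _ _)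
      (Finset.mem_compl.mpr ht) (fun x => ?_) ?_ ((h.fixer_W S).trans (fixer_le_stab ρ _))
    · rw [Finset.card_insert_of_notMem ht]; omega
    · by_cases hx : x ∈ S
      · exact Or.inl (Finset.mem_insert_of_mem hx)
      · exact Or.inr (Finset.mem_compl.mpr hx)
    · rw [e]
      exact h.stab_W _
  obtain ⟨X, hXS, hX⟩ := Finset.exists_subset_card_eq hS
  obtain ⟨Y, hYS, hY⟩ := Finset.exists_subset_card_eq (show s ≤ Sᶜ.card by omega)
  have hle : moved ρ (Q Y) ≤ W ρ s Q S := fun v hv => by
    obtain ⟨g, u, hu, rfl⟩ := h.image_eq hX hY (by omega) hv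
    exact (hall g u (le_W hXS hX hu)).1
  have hfix : moved ρ (Q Y) ≤ fixed ρ (Q Y) :=
    hle.trans ((le_fixed_iff ρ).mpr (((h.le Y hY).trans (fixOut_mono hYS)).trans (h.fixer_W S)))
  have hbot : moved ρ (Q Y) = ⊥ :=
    le_bot_iff.mp ((le_inf hfix le_rfl).trans (disjoint_iff.mp (isCompl_fixed_moved ρ _ (h.card Y hY)).disjoint).le)
  have := h.dim Y hY
  rw [hbot, finrank_bot] at this
  exact absurd this h.pos.ne

theorem Frame.chain (h : Frame ρ s d Q) {S : Finset (Fin r)} (hS : s ≤ S.card) :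
    ∀ D : Finset (Fin r), Disjoint S D → S.card + D.card + s ≤ r →
      finrank F (W ρ s Q S) + D.card ≤ finrank F (W ρ s Q (S ∪ D)) := by
  intro D
  induction D using Finset.induction_on with
  | empty => intro _ _; rw [Finset.union_empty]; simp
  | @insert t D ht ih =>
    intro hd hr
    rw [Finset.card_insert_of_notMem ht] at hr ⊢
    rw [Finset.disjoint_insert_right] at hd
    have := ih hd.2 (by omega)
    have htS : t ∉ S ∪ D := by simp [hd.1, ht]
    have hc := Finset.card_union_of_disjoint hd.2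
    have := Submodule.finrank_lt_finrank_of_lt (h.grow (S := S ∪ D) (by omega) htS (by omega))
    rw [Finset.union_insert]
    omega

theorem Frame.chain' (h : Frame ρ s d Q) {S S' : Finset (Fin r)} (hS : s ≤ S.card) (hSS : S ⊆ S')
    (hr : S'.card + s ≤ r) : finrank F (W ρ s Q S) + (S'.card - S.card) ≤ finrank F (W ρ s Q S') := by
  have hc : (S' \ S).card = S'.card - S.card := Finset.card_sdiff_of_subset hSS
  have := Finset.card_le_card hSS
  have := h.chain hS (S' \ S) Finset.disjoint_sdiff (by omega)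
  rw [Finset.union_sdiff_of_subset hSS, hc] at this
  exact this

theorem Frame.W_le_fixed (h : Frame ρ s d Q) {Y : Finset (Fin r)} (hY : Y.card = s) :
    W ρ s Q Yᶜ ≤ fixed ρ (Q Y) := by
  rw [le_fixed_iff]
  have := h.fixer_W Yᶜ
  rw [compl_compl] at this
  exact (h.le Y hY).trans this

theorem Frame.finrank_eq (h : Frame ρ s d Q) {Y : Finset (Fin r)} (hY : Y.card = s) :
    finrank F V = finrank F (fixed ρ (Q Y)) + d := by
  rw [← h.dim Y hY, Submodule.finrank_add_eq_of_isCompl (isCompl_fixed_moved ρ _ (h.card Y hY))]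

theorem Frame.lower (h : Frame ρ s d Q) (hr : 2 * s ≤ r) {Y : Finset (Fin r)} (hY : Y.card = s) :
    d + (r - 2 * s) ≤ finrank F (W ρ s Q Yᶜ) := by
  have hc : Yᶜ.card = r - s := by rw [Finset.card_compl, Fintype.card_fin, hY]
  obtain ⟨X, hXY, hX⟩ := Finset.exists_subset_card_eq (show s ≤ Yᶜ.card by omega)
  have := h.chain' (S := X) (by omega) hXY (by omega)
  have := Submodule.finrank_mono (le_W (ρ := ρ) (Q := Q) (le_refl X) hX)
  have := h.dim X hX
  omega

theorem Frame.bound (h : Frame ρ s d Q) (hr : 2 * s ≤ r) : 2 * d + r ≤ finrank F V + 2 * s := by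
  obtain ⟨Y, -, hY⟩ := Finset.exists_subset_card_eq (s := (Finset.univ : Finset (Fin r))) (n := s)
    (by rw [Finset.card_univ, Fintype.card_fin]; omega)
  have := h.lower hr hY
  have := Submodule.finrank_mono (h.W_le_fixed hY)
  have := h.finrank_eq hY
  omega

/-- In the extremal case the supported subgroup acts on the moved space only. -/
theorem Frame.extremal (h : Frame ρ s d Q) (hr : 2 * s ≤ r) (hn : finrank F V + 2 * s ≤ 2 * d + r)
    {Y : Finset (Fin r)} (hY : Y.card = s) :
    fixOut Y ≤ fixer ρ (fixed ρ (Q Y)) ∧ moved ρ (fixOut Y) = moved ρ (Q Y) := by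
  have := h.lower hr hY
  have := h.finrank_eq hY
  have e : W ρ s Q Yᶜ = fixed ρ (Q Y) := Submodule.eq_of_le_of_finrank_le (h.W_le_fixed hY) (by omega)
  have h1 : fixOut Y ≤ fixer ρ (fixed ρ (Q Y)) := by
    have := h.fixer_W Yᶜ
    rwa [compl_compl, e] at this
  refine ⟨h1, le_antisymm (moved_le ρ fun g hg v => ?_) (moved_mono ρ (h.le Y hY))⟩
  obtain ⟨f, hf, u, hu, rfl⟩ := Submodule.mem_sup.mp
    ((isCompl_fixed_moved ρ _ (h.card Y hY)).sup_eq_top ▸ Submodule.mem_top (x := v))
  have him : Y.image g.1 = Y :=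
    Finset.eq_of_subset_of_card_le (Finset.image_subset_iff.mpr fun x hx => fixOut_apply_mem hg hx)
      (by rw [card_image_alt])
  have hgu : ρ g u ∈ moved ρ (Q Y) := apply_mem_moved ρ g (fun q hq => him ▸ h.conj Y hY g q hq) hu
  rw [map_add, h1 hg f hf, add_sub_add_left_eq_sub]
  exact (moved ρ (Q Y)).sub_mem hgu hu

/-- In the extremal case the sums over sets one larger have dimension one more. -/
theorem Frame.extremal_succ (h : Frame ρ s d Q) (hr : 2 * s + 1 ≤ r) (hn : finrank F V + 2 * s ≤ 2 * d + r)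
    {X : Finset (Fin r)} (hX : X.card = s + 1) : finrank F (W ρ s Q X) = d + 1 := by
  obtain ⟨Y, hYX, hY⟩ := Finset.exists_subset_card_eq (s := Xᶜ) (n := s)
    (by rw [Finset.card_compl, Fintype.card_fin, hX]; omega)
  have hc : Yᶜ.card = r - s := by rw [Finset.card_compl, Fintype.card_fin, hY]
  have := h.chain' (S := X) (by omega) (Finset.subset_compl_comm.mp hYX) (by omega)
  have := Submodule.finrank_mono (h.W_le_fixed hY)
  have := h.finrank_eq hY
  obtain ⟨Z, hZX, hZ⟩ := Finset.exists_subset_card_eq (show s ≤ X.card by omega)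
  have := h.chain' (S := Z) (by omega) hZX (by omega)
  have := Submodule.finrank_mono (le_W (ρ := ρ) (Q := Q) (le_refl Z) hZ)
  have := h.dim Z hZ
  omega

theorem fixOut_three_elems : ∀ x c : Alt 3, c ≠ 1 → (x = 1 ∨ x = c ∨ x = c * c) ∧ c * c * c = 1 := by
  decide +kernel

/-- The supported subgroup of three points. -/
theorem fixOut_three {T : Finset (Fin r)} (hT : T.card = 3) {c : Alt r} (hc : c ∈ fixOut T) (hc1 : c ≠ 1) :
    (∀ g ∈ fixOut T, g = 1 ∨ g = c ∨ g = c * c) ∧ c * c * c = 1 := by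
  obtain ⟨φ, -, hφ⟩ := exists_emb T hT
  rw [← hφ] at hc ⊢
  obtain ⟨c', rfl⟩ := hc
  have hc' : c' ≠ 1 := fun e => hc1 (by rw [e, map_one])
  refine ⟨?_, by rw [← map_mul, ← map_mul, (fixOut_three_elems 1 c' hc').2, map_one]⟩
  rintro _ ⟨x, rfl⟩
  rcases (fixOut_three_elems x c' hc').1 with rfl | rfl | rfl
  · exact Or.inl (map_one φ)
  · exact Or.inr (Or.inl rfl)
  · exact Or.inr (Or.inr (map_mul φ c' c'))

variable (ρ) in
/-- What the extremal modules have in common. -/
structure Tight : Prop where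
  two : ∀ T, T.card = 3 → finrank F (moved ρ (fixOut T)) = 2
  three : ∀ X, X.card = 4 → finrank F (moved ρ (fixOut X)) = 3
  triv : ∀ T, T.card = 3 → fixOut Tᶜ ≤ fixer ρ (moved ρ (fixOut T))
  nofix : ∀ T, T.card = 3 → ∀ v ∈ moved ρ (fixOut T), (∀ g, ρ g v = v) → v = 0

set_option maxHeartbeats 1600000 in
/-- An extremal module below dimension `r - 1` forces the characteristic to divide the degree. -/
theorem Tight.cast_eq_zero (h : Tight ρ) (hr : 7 ≤ r) (hn : finrank F V + 1 < r) : (r : F) = 0 := by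
  classical
  let a : Fin 5 → Fin r := fun i => ⟨i.1, by omega⟩
  have ha : Function.Injective a := fun i j e => Fin.ext (congrArg (Fin.val : Fin r → ℕ) e)
  have h01 : a 0 ≠ a 1 := ha.ne (by decide)
  have h02 : a 0 ≠ a 2 := ha.ne (by decide)
  have h03 : a 0 ≠ a 3 := ha.ne (by decide)
  have h12 : a 1 ≠ a 2 := ha.ne (by decide)
  have h13 : a 1 ≠ a 3 := ha.ne (by decide)
  have h23 : a 2 ≠ a 3 := ha.ne (by decide)
  have h34 : a 3 ≠ a 4 := ha.ne (by decide)
  let T₂ : Finset (Fin r) := {a 0, a 1, a 2}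
  let T₃ : Finset (Fin r) := {a 0, a 1, a 3}
  let X : Finset (Fin r) := {a 0, a 1, a 2, a 3}
  let P : Finset (Fin r) := {a 0, a 1}
  have cT₂ : T₂.card = 3 := Finset.card_eq_three.mpr ⟨_, _, _, h01, h02, h12, rfl⟩
  have cT₃ : T₃.card = 3 := Finset.card_eq_three.mpr ⟨_, _, _, h01, h03, h13, rfl⟩
  have cX : X.card = 4 := Finset.card_eq_four.mpr ⟨_, _, _, _, h01, h02, h03, h12, h13, h23, rfl⟩
  set M₂ := moved ρ (fixOut T₂) with hM₂
  set M₃ := moved ρ (fixOut T₃) with hM₃
  have hne : M₂ ≠ M₃ := fun e => by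
    have h2 : fixOut T₂ ≤ trivQuot ρ M₂ := le_trivQuot_moved ρ _
    have h3 : fixOut T₃ ≤ trivQuot ρ M₂ := by rw [e]; exact le_trivQuot_moved ρ _
    have hj := join_le (by rw [cT₂]) (by rw [cT₃]) (o := a 0) (by simp [T₂]) (by simp [T₃]) h2 h3
    rw [show T₂ ∪ T₃ = X from by ext x; simp only [T₂, T₃, X, Finset.mem_union, Finset.mem_insert, Finset.mem_singleton]; tauto, ← moved_le_iff] at hj
    have := Submodule.finrank_mono hj
    rw [h.three X cX, hM₂, h.two T₂ cT₂] at this
    omega
  obtain ⟨v, ⟨hv₂, hv₃⟩, hv0⟩ : ∃ v ∈ M₂ ⊓ M₃, v ≠ 0 := by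
    refine Submodule.exists_mem_ne_zero_of_ne_bot fun e => ?_
    have hle : M₂ ⊔ M₃ ≤ moved ρ (fixOut X) := sup_le
      (moved_mono ρ (fixOut_mono (by intro x; simp [T₂, X]; tauto)))
      (moved_mono ρ (fixOut_mono (by intro x; simp [T₃, X]; tauto)))
    have := Submodule.finrank_mono hle
    rw [finrank_sup_of_inf e, h.three X cX, hM₂, hM₃, h.two T₂ cT₂, h.two T₃ cT₃] at this
    omega
  have hvP : ∀ g ∈ fixOut Pᶜ, ρ g v = v := by
    intro g hg
    have hj := join_le (K := fixer ρ (M₂ ⊓ M₃)) (S := T₂ᶜ) (T := T₃ᶜ) (o := a 4)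
      (by rw [Finset.card_compl, Fintype.card_fin, cT₂]; omega)
      (by rw [Finset.card_compl, Fintype.card_fin, cT₃]; omega)
      (by simp [T₂, ha.eq_iff]) (by simp [T₃, ha.eq_iff])
      (fun q hq w hw => h.triv T₂ cT₂ hq w hw.1) (fun q hq w hw => h.triv T₃ cT₃ hq w hw.2)
    refine hj ?_ v ⟨hv₂, hv₃⟩
    rw [show T₂ᶜ ∪ T₃ᶜ = Pᶜ from ?_]
    · exact hg
    ext x
    simp only [T₂, T₃, P, Finset.mem_union, Finset.mem_compl, Finset.mem_insert, Finset.mem_singleton]
    constructor
    · tauto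
    · intro hx
      by_cases e : x = a 2
      · subst e; right; simp [h02.symm, h12.symm, h23]
      · left; tauto
  -- the fixed line
  have hline : ∀ u ∈ M₂, (∀ g ∈ fixOut Pᶜ, ρ g u = u) → ∃ c : F, u = c • v := by
    intro u hu hfu
    let N : Submodule F V := M₂ ⊓ fixed ρ (fixOut Pᶜ)
    have hN : finrank F N ≤ 1 := by
      by_contra hlt
      have e : N = M₂ := Submodule.eq_of_le_of_finrank_le inf_le_left (by rw [hM₂, h.two T₂ cT₂]; omega)
      obtain ⟨g, hg⟩ := exists_move (k := 3) (by omega) (f := ![a 0, a 1, a 2]) (g := ![a 0, a 1, a 3])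
        (by intro i j; fin_cases i <;> fin_cases j <;> simp [ha.eq_iff])
        (by intro i j; fin_cases i <;> fin_cases j <;> simp [ha.eq_iff])
      have g0 : g.1 (a 0) = a 0 := hg 0
      have g1 : g.1 (a 1) = a 1 := hg 1
      have g2 : g.1 (a 2) = a 3 := hg 2
      have hgP : g ∈ fixOut Pᶜ := fun x hx => by
        simp only [P, Finset.mem_compl, Finset.mem_insert, Finset.mem_singleton, not_not] at hx
        rcases hx with rfl | rfl
        · exact g0
        · exact g1
      refine hne (Submodule.eq_of_le_of_finrank_le (fun w hw => ?_) (by rw [hM₂, hM₃, h.two T₂ cT₂, h.two T₃ cT₃]))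
      have hwf : w ∈ fixed ρ (fixOut Pᶜ) := (e.symm ▸ hw : w ∈ N).2
      have himg : T₂.image g.1 = T₃ := by simp [T₂, T₃, Finset.image_insert, g0, g1, g2]
      have := apply_mem_moved ρ g (R := fixOut T₃) (fun q hq => himg ▸ conj_mem g hq) hw
      rwa [hwf g hgP] at this
    have hvN : v ∈ N := ⟨hv₂, hvP⟩
    have hsp : N = Submodule.span F {v} := (Submodule.eq_of_le_of_finrank_le
      (Submodule.span_le.mpr (by simpa using hvN)) (by rw [finrank_span_singleton hv0]; exact hN)).symm
    have huN : u ∈ N := ⟨hu, hfu⟩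
    rw [hsp, Submodule.mem_span_singleton] at huN
    obtain ⟨c, hc⟩ := huN
    exact ⟨c, hc.symm⟩
  -- the vectors indexed by ordered pairs
  have hmove : ∀ i j : Fin r, i ≠ j → ∃ g : Alt r, g.1 (a 0) = i ∧ g.1 (a 1) = j := fun i j hij => by
    obtain ⟨g, hg⟩ := exists_move (k := 2) (by omega) (f := ![a 0, a 1]) (g := ![i, j])
      (by intro x y; fin_cases x <;> fin_cases y <;> simp [ha.eq_iff])
      (by intro x y; fin_cases x <;> fin_cases y <;> simp [hij, hij.symm])
    exact ⟨g, hg 0, hg 1⟩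
  let vv : Fin r → Fin r → V := fun i j => if hij : i ≠ j then ρ (hmove i j hij).choose v else 0
  have hvv : ∀ g : Alt r, ρ g v = vv (g.1 (a 0)) (g.1 (a 1)) := by
    intro g
    have hij : g.1 (a 0) ≠ g.1 (a 1) := g.1.injective.ne h01
    simp only [vv, dif_pos hij]
    obtain ⟨e0, e1⟩ := (hmove _ _ hij).choose_spec
    set k := (hmove _ _ hij).choose
    have hk : k⁻¹ * g ∈ fixOut Pᶜ := fun x hx => by
      simp only [P, Finset.mem_compl, Finset.mem_insert, Finset.mem_singleton, not_not] at hx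
      show k.1⁻¹ (g.1 x) = x
      rw [Perm.inv_eq_iff_eq]
      rcases hx with rfl | rfl
      · exact e0.symm
      · exact e1.symm
    conv_lhs => rw [← mul_inv_cancel_left k g, rho_mul_apply, hvP _ hk]
  have h00 : ∀ i, vv i i = 0 := fun i => by simp [vv]
  have hequi : ∀ (g : Alt r) i j, ρ g (vv i j) = vv (g.1 i) (g.1 j) := by
    intro g i j
    by_cases hij : i = j
    · rw [hij, h00, h00, map_zero]
    · obtain ⟨k, hk0, hk1⟩ := hmove i j hij
      rw [← hk0, ← hk1, ← hvv, ← rho_mul_apply, hvv]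
      rfl
  have hv01 : vv (a 0) (a 1) = v := by
    have := hvv 1
    rw [rho_one_apply] at this
    exact this.symm
  have hfixvv : ∀ i j, i ≠ j → ∀ g ∈ fixOut ({i, j} : Finset (Fin r))ᶜ, ρ g (vv i j) = vv i j := by
    intro i j _ g hg
    rw [hequi, hg i (by simp), hg j (by simp)]
  -- no vector fixed by everything
  have hno : ¬ ∀ g, ρ g v = v := fun hall => hv0 (h.nofix T₂ cT₂ v hv₂ hall)
  let c : Alt r := sw (a 0) (a 1) (a 1) (a 2) h01 h12
  have hc : c ∈ fixOut T₂ := sw_mem _ _ (by simp [T₂]) (by simp [T₂]) (by simp [T₂]) (by simp [T₂])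
  have c0 : c.1 (a 0) = a 1 := by rw [sw_apply, swap_apply_of_ne_of_ne h01 h02, swap_apply_left]
  have c1 : c.1 (a 1) = a 2 := by rw [sw_apply, swap_apply_left, swap_apply_of_ne_of_ne h02.symm h12.symm]
  have c2 : c.1 (a 2) = a 0 := by rw [sw_apply, swap_apply_right, swap_apply_right]
  have hc1 : c ≠ 1 := fun e => h01 (by rw [← c0, e]; rfl)
  have htri0 : vv (a 0) (a 1) + vv (a 1) (a 2) + vv (a 2) (a 0) = 0 := by
    obtain ⟨hel, hc3⟩ := fixOut_three cT₂ hc hc1
    have key : M₂ ≤ LinearMap.ker (LinearMap.id + ρ c + ρ (c * c) : V →ₗ[F] V) := by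
      refine moved_le ρ fun g hg w => ?_
      simp only [LinearMap.mem_ker, LinearMap.add_apply, LinearMap.id_apply, map_sub]
      rcases hel g hg with rfl | rfl | rfl
      · rw [rho_one_apply]; abel
      · rw [← rho_mul_apply ρ (c * c) c, hc3, rho_one_apply, ← rho_mul_apply ρ c c]; abel
      · rw [← rho_mul_apply ρ c (c * c), ← rho_mul_apply ρ (c * c) (c * c),
          show c * c * (c * c) = c * c * c * c by group, show c * (c * c) = c * c * c by group, hc3, one_mul,
          rho_one_apply]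
        abel
    have := key hv₂
    rw [LinearMap.mem_ker, LinearMap.add_apply, LinearMap.add_apply, LinearMap.id_apply, rho_mul_apply, ← hv01,
      hequi, hequi, c0, c1, c2] at this
    exact this
  have hmove3 : ∀ i j k : Fin r, i ≠ j → j ≠ k → i ≠ k →
      ∃ g : Alt r, g.1 (a 0) = i ∧ g.1 (a 1) = j ∧ g.1 (a 2) = k := fun i j k hij hjk hik => by
    obtain ⟨g, hg⟩ := exists_move (k := 3) (by omega) (f := ![a 0, a 1, a 2]) (g := ![i, j, k])
      (by intro x y; fin_cases x <;> fin_cases y <;> simp [ha.eq_iff])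
      (by intro x y; fin_cases x <;> fin_cases y <;> simp [hij, hij.symm, hjk, hjk.symm, hik, hik.symm])
    exact ⟨g, hg 0, hg 1, hg 2⟩
  have htri : ∀ i j k, i ≠ j → j ≠ k → i ≠ k → vv i j + vv j k + vv k i = 0 := fun i j k hij hjk hik => by
    obtain ⟨g, e0, e1, e2⟩ := hmove3 i j k hij hjk hik
    have := congrArg (ρ g) htri0
    rwa [map_add, map_add, map_zero, hequi, hequi, hequi, e0, e1, e2] at this
  -- antisymmetry
  let w : Alt r := sw (a 0) (a 1) (a 3) (a 4) h01 h34
  have w0 : w.1 (a 0) = a 1 := by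
    rw [sw_apply, swap_apply_of_ne_of_ne h03 (ha.ne (by decide)), swap_apply_left]
  have w1 : w.1 (a 1) = a 0 := by
    rw [sw_apply, swap_apply_of_ne_of_ne h13 (ha.ne (by decide)), swap_apply_right]
  have w2 : w.1 (a 2) = a 2 := by
    rw [sw_apply, swap_apply_of_ne_of_ne h23 (ha.ne (by decide)), swap_apply_of_ne_of_ne h02.symm h12.symm]
  obtain ⟨μ, hμ⟩ : ∃ μ : F, ρ w v = μ • v := by
    refine hline _ ?_ fun g hg => ?_
    · have himg : T₂.image w.1 = T₂ := by
        simp only [T₂, Finset.image_insert, Finset.image_singleton, w0, w1, w2]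
        exact Finset.insert_comm _ _ _
      exact apply_mem_moved ρ w (fun q hq => himg ▸ conj_mem w hq) hv₂
    · have hq : w⁻¹ * g * w ∈ fixOut Pᶜ := by
        intro x hx
        simp only [P, Finset.mem_compl, Finset.mem_insert, Finset.mem_singleton, not_not] at hx
        show w.1⁻¹ (g.1 (w.1 x)) = x
        rw [Perm.inv_eq_iff_eq]
        rcases hx with rfl | rfl
        · rw [w0, hg (a 1) (by simp [P])]
        · rw [w1, hg (a 0) (by simp [P])]
      have := congrArg (ρ w) (hvP _ hq)
      rwa [← rho_mul_apply, show w * (w⁻¹ * g * w) = g * w by group, rho_mul_apply] at this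
  have hμ2 : μ * μ = 1 := by
    have e : ρ w (ρ w v) = v := by
      rw [← hv01, hequi, hequi, w0, w1, w0]
    rw [hμ, map_smul, hμ, smul_smul] at e
    by_contra hne'
    have : (μ * μ - 1) • v = 0 := by rw [sub_smul, one_smul, e, sub_self]
    exact hv0 ((smul_eq_zero.mp this).resolve_left (sub_ne_zero.mpr hne'))
  have hsym : ∀ i j, vv j i = μ • vv i j := by
    intro i j
    by_cases hij : i = j
    · rw [hij, h00, smul_zero]
    obtain ⟨g, e0, e1⟩ := hmove i j hij
    have := congrArg (ρ g) hμ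
    rw [← hv01, map_smul, hequi, hequi, hequi, w0, w1, e0, e1] at this
    exact this
  have hneg : ∀ i j, vv j i = - vv i j := by
    rcases mul_self_eq_one_iff.mp hμ2 with hμ1 | hμ1
    · by_cases h2 : (2 : F) = 0
      · intro i j
        rw [hsym, hμ1, one_smul]
        refine eq_neg_of_add_eq_zero_left ?_
        rw [← two_smul F, h2, zero_smul]
      · exfalso
        have e1 := htri (a 0) (a 1) (a 2) h01 h12 h02
        have e2 := htri (a 0) (a 1) (a 3) h01 h13 h03
        have e3 := htri (a 0) (a 2) (a 3) h02 h23 h03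
        have e4 := htri (a 1) (a 2) (a 3) h12 h23 h13
        rw [hsym (a 0) (a 2), hμ1, one_smul] at e1
        rw [hsym (a 0) (a 3), hμ1, one_smul] at e2
        rw [hsym (a 0) (a 3), hμ1, one_smul] at e3
        rw [hsym (a 1) (a 3), hμ1, one_smul] at e4
        have e5 : (2 : F) • (vv (a 0) (a 1) - vv (a 2) (a 3)) = 0 := by
          linear_combination (norm := module) e1 + e2 - e3 - e4
        have e6 : vv (a 2) (a 3) = v := by
          rw [← hv01]; exact (sub_eq_zero.mp ((smul_eq_zero.mp e5).resolve_left h2)).symm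
        refine hno fun g => top_le_of_join (K := fixer ρ (Submodule.span F {v})) (S := Pᶜ) (T := ({a 2, a 3} : Finset (Fin r))ᶜ) (o := a 4)
          ?_ ?_ ?_ ?_ (fun x => ?_) ?_ ?_ g v (Submodule.mem_span_singleton_self v)
        · rw [Finset.card_compl, Fintype.card_fin, Finset.card_pair h01]; omega
        · rw [Finset.card_compl, Fintype.card_fin, Finset.card_pair h23]; omega
        · simp [P, ha.eq_iff]
        · simp [ha.eq_iff]
        · simp only [P, Finset.mem_compl, Finset.mem_insert, Finset.mem_singleton]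
          by_cases hx0 : x = a 0
          · right; rw [hx0]; simp [h02, h03]
          by_cases hx1 : x = a 1
          · right; rw [hx1]; simp [h12, h13]
          left; tauto
        · rw [← le_fixed_iff, Submodule.span_le, Set.singleton_subset_iff]
          exact hvP
        · rw [← le_fixed_iff, Submodule.span_le, Set.singleton_subset_iff]
          intro q hq
          rw [← e6]
          exact hfixvv _ _ h23 q hq
    · intro i j
      rw [hsym, hμ1, neg_one_smul]
  -- base change
  have hbase : ∀ k j i, vv k i = vv k j + vv j i := by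
    intro k j i
    by_cases h1 : k = j
    · rw [h1, h00, zero_add]
    by_cases h2 : j = i
    · rw [h2, h00, add_zero]
    by_cases h3 : k = i
    · rw [h3, h00, hneg i j, add_neg_cancel]
    have := htri k j i h1 h2 h3
    rw [hneg k i] at this
    rw [← sub_eq_zero, ← neg_eq_zero, ← this]
    abel
  -- independence
  have hind : ∀ i j k, i ≠ j → j ≠ k → i ≠ k → ∀ x y : F, x • vv i j + y • vv i k = 0 → x = 0 ∧ y = 0 := by
    intro i j k hij hjk hik x y hxy
    obtain ⟨g, e0, e1, e2⟩ := hmove3 i j k hij hjk hik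
    have hxy' : x • v + y • vv (a 0) (a 2) = 0 := by
      refine rho_injective ρ g ?_
      rw [map_zero, map_add, map_smul, map_smul, ← hv01, hequi, hequi, e0, e1, e2, hxy]
    by_cases hy : y = 0
    · rw [hy, zero_smul, add_zero] at hxy'
      exact ⟨(smul_eq_zero.mp hxy').resolve_right hv0, hy⟩
    exfalso
    have hspan : ∀ q, q ∈ fixOut ({a 0, a 2} : Finset (Fin r))ᶜ → ρ q v = v := by
      intro q hq
      have hx0 : x ≠ 0 := fun e => by
        rw [e, zero_smul, zero_add] at hxy'
        have h02' := (smul_eq_zero.mp hxy').resolve_left hy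
        obtain ⟨g', e0', e2'⟩ := hmove (a 0) (a 2) h02
        have := hvv g'
        rw [e0', e2', h02'] at this
        exact hv0 (rho_injective ρ g' (this.trans (map_zero _).symm))
      have hv' : v = -(x⁻¹ * y) • vv (a 0) (a 2) := by
        calc v = x⁻¹ • (x • v) := by rw [smul_smul, inv_mul_cancel₀ hx0, one_smul]
          _ = _ := by rw [eq_neg_of_add_eq_zero_left hxy', smul_neg, smul_smul, neg_smul]
      rw [hv', map_smul, hfixvv _ _ h02 q hq]
    have hspan' : ∀ q, q ∈ fixOut ({a 1, a 2} : Finset (Fin r))ᶜ → ρ q v = v := by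
      intro q hq
      have h12' : vv (a 1) (a 2) = (-(1 : F) - y⁻¹ * x) • v := by
        have e := hbase (a 1) (a 0) (a 2)
        rw [hneg (a 0) (a 1), hv01] at e
        have e' : vv (a 0) (a 2) = -(y⁻¹ * x) • v := by
          have := congrArg (fun u => y⁻¹ • u) hxy'
          simp only [smul_add, smul_zero, smul_smul, inv_mul_cancel₀ hy, one_smul] at this
          rw [eq_neg_of_add_eq_zero_right this, neg_smul]
        rw [e, e']
        module
      have hne0 : (-(1 : F) - y⁻¹ * x) ≠ 0 := fun e => by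
        rw [e, zero_smul] at h12'
        obtain ⟨g', e0', e2'⟩ := hmove (a 1) (a 2) h12
        have := hvv g'
        rw [e0', e2', h12'] at this
        exact hv0 (rho_injective ρ g' (this.trans (map_zero _).symm))
      have := hfixvv _ _ h12 q hq
      rw [h12', map_smul] at this
      exact smul_right_injective V hne0 this
    refine hno fun g' => ?_
    let K := fixer ρ (Submodule.span F {v})
    have hK : ∀ S : Finset (Fin r), (∀ q ∈ fixOut S, ρ q v = v) → fixOut S ≤ K := fun S hS => by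
      rw [← le_fixed_iff, Submodule.span_le, Set.singleton_subset_iff]
      exact hS
    have hU : fixOut ({a 0} : Finset (Fin r))ᶜ ≤ K := by
      have hj := join_le (S := Pᶜ) (T := ({a 0, a 2} : Finset (Fin r))ᶜ) (o := a 4) ?_ ?_ ?_ ?_ (hK _ hvP) (hK _ hspan)
      · refine (fixOut_mono fun z hz => ?_).trans hj
        simp only [P, Finset.mem_compl, Finset.mem_insert, Finset.mem_singleton, Finset.mem_union] at hz ⊢
        by_cases hz1 : z = a 1
        · right; rw [hz1]; simp [h12, h01.symm]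
        · left; tauto
      · rw [Finset.card_compl, Fintype.card_fin, Finset.card_pair h01]; omega
      · rw [Finset.card_compl, Fintype.card_fin, Finset.card_pair h02]; omega
      · simp [P, ha.eq_iff]
      · simp [ha.eq_iff]
    refine top_le_of_join (S := ({a 0} : Finset (Fin r))ᶜ) (T := ({a 1, a 2} : Finset (Fin r))ᶜ) (o := a 4)
      ?_ ?_ ?_ ?_ (fun z => ?_) hU (hK _ hspan') g' v (Submodule.mem_span_singleton_self v)
    · rw [Finset.card_compl, Fintype.card_fin, Finset.card_singleton]; omega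
    · rw [Finset.card_compl, Fintype.card_fin, Finset.card_pair h12]; omega
    · simp [ha.eq_iff]
    · simp [ha.eq_iff]
    · by_cases hz : z = a 0
      · right; rw [hz]; simp [h01, h02]
      · left; simp [hz]
  -- a relation
  obtain ⟨f, hf0, hf1, hfne⟩ : ∃ f : Fin r → F, ∑ i, f i = 0 ∧ ∑ i, f i • vv (a 0) i = 0 ∧ ∃ i, f i ≠ 0 := by
    have hli : ¬ LinearIndependent F (fun i : {i // i ≠ a 0} => vv (a 0) i) := fun hli => by
      have := hli.fintype_card_le_finrank
      rw [Fintype.card_subtype_compl, Fintype.card_subtype_eq, Fintype.card_fin] at this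
      omega
    obtain ⟨f, hf, i, hi⟩ := Fintype.not_linearIndependent_iff.mp hli
    let f' : Fin r → F := fun j => if hj : j ≠ a 0 then f ⟨j, hj⟩ else -∑ k, f k
    have hsplit : ∀ (M : Type) [AddCommGroup M] (φ : Fin r → M),
        ∑ j, φ j = φ (a 0) + ∑ k : {i // i ≠ a 0}, φ k.1 := fun M _ φ => by
      rw [← Finset.add_sum_erase _ _ (Finset.mem_univ (a 0))]
      congr 1
      rw [Finset.sum_subtype]
      simp
    refine ⟨f', ?_, ?_, i.1, ?_⟩
    · rw [hsplit F f', show ∑ k : {i // i ≠ a 0}, f' k.1 = ∑ k, f k from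
        Finset.sum_congr rfl fun k _ => by simp [f', k.2]]
      simp [f']
    · rw [hsplit V fun j => f' j • vv (a 0) j, h00, smul_zero, zero_add]
      rw [← hf]
      exact Finset.sum_congr rfl fun k _ => by simp [f', k.2]
    · simp only [f', dif_pos i.2]
      exact hi
  have hrel : ∀ (f : Fin r → F), ∑ i, f i = 0 → ∑ i, f i • vv (a 0) i = 0 → ∀ j, ∑ i, f i • vv j i = 0 := by
    intro f h0 h1 j
    calc ∑ i, f i • vv j i = ∑ i, (f i • vv j (a 0) + f i • vv (a 0) i) :=
          Finset.sum_congr rfl fun i _ => by rw [← smul_add, ← hbase]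
      _ = 0 := by rw [Finset.sum_add_distrib, ← Finset.sum_smul, h0, h1, zero_smul, add_zero]
  by_cases hconst : ∀ i j, f i = f j
  · obtain ⟨i, hi⟩ := hfne
    rw [Finset.sum_congr rfl fun j _ => hconst j i, Finset.sum_const, Finset.card_univ, Fintype.card_fin,
      nsmul_eq_mul] at hf0
    exact (mul_eq_zero.mp hf0).resolve_right hi
  exfalso
  simp only [not_forall] at hconst
  obtain ⟨i, j, hij⟩ := hconst
  have hij' : i ≠ j := fun e => hij (by rw [e])
  obtain ⟨k, hk⟩ : (({i, j} : Finset (Fin r))ᶜ).Nonempty := by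
    rw [← Finset.card_pos, Finset.card_compl, Fintype.card_fin, Finset.card_pair hij']; omega
  simp only [Finset.mem_compl, Finset.mem_insert, Finset.mem_singleton, not_or] at hk
  let q : Alt r := sw i j j k hij' (Ne.symm hk.2)
  have qi : q.1 i = j := by rw [sw_apply, swap_apply_of_ne_of_ne hij' (Ne.symm hk.1), swap_apply_left]
  have hsupp : ∀ z, z ∉ ({i, j, k} : Finset (Fin r)) → q.1 z = z := by
    have : q ∈ fixOut ({i, j, k} : Finset (Fin r)) := sw_mem _ _ (by simp) (by simp) (by simp) (by simp)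
    exact this
  have hfk := hrel f hf0 hf1 k
  have hfq : ∑ z, f (q.1 z) • vv k z = 0 := by
    have := congrArg (ρ q⁻¹) (hrel f hf0 hf1 (q.1 k))
    rw [map_sum, map_zero] at this
    rw [← this]
    refine Fintype.sum_equiv q.1 _ _ fun z => ?_
    rw [map_smul, hequi]
    simp
  have hdiff : ∑ z, (f z - f (q.1 z)) • vv k z = 0 := by
    simp only [sub_smul, Finset.sum_sub_distrib, hfk, hfq, sub_zero]
  rw [← Finset.sum_subset (Finset.subset_univ ({i, j} : Finset (Fin r))) (fun z _ hz => ?_),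
    Finset.sum_pair hij'] at hdiff
  · have := (hind k i j hk.1 hij' hk.2 _ _ hdiff).1
    rw [qi, sub_eq_zero] at this
    exact hij this
  · by_cases hzk : z = k
    · rw [hzk, h00, smul_zero]
    · rw [hsupp z (by simp only [Finset.mem_insert, Finset.mem_singleton] at hz ⊢; tauto), sub_self, zero_smul]

end CfsgLib.AltLinear
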