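import Cfsg.Agent.Lib.AltLinear.OddChar

/-!
Linear representations of alternating groups in characteristic two.
-/

set_option autoImplicit false
set_option linter.unusedSectionVars false

namespace CfsgLib.AltLinear

open Module Equiv

variable {r : ℕ} {F : Type} [Field F] {V : Type} [AddCommGroup V] [Module F V] [FiniteDimensional F V]
  (ρ : Alt r →* Module.End F V)

theorem three_cycle_apply {a b e : Fin r} (h₁ : a ≠ b) (h₂ : b ≠ e) (h₃ : a ≠ e) :
    (sw a b b e h₁ h₂).1 a = b ∧ (sw a b b e h₁ h₂).1 b = e ∧ (sw a b b e h₁ h₂).1 e = a := by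
  refine ⟨?_, ?_, ?_⟩
  · rw [sw_apply, swap_apply_of_ne_of_ne h₁ h₃, swap_apply_left]
  · rw [sw_apply, swap_apply_left, swap_apply_of_ne_of_ne h₃.symm h₂.symm]
  · rw [sw_apply, swap_apply_right, swap_apply_right]

/-- A three-cycle and an element inverting it. -/
theorem flip_eq {a b e : Fin r} (h₁ : a ≠ b) (h₂ : b ≠ e) (h₃ : a ≠ e) (g : Alt r) (ga : g.1 a = b)
    (gb : g.1 b = a) (ge : g.1 e = e) :
    g * sw a b b e h₁ h₂ * g⁻¹ = sw a b b e h₁ h₂ * sw a b b e h₁ h₂ := by
  set c := sw a b b e h₁ h₂ with hc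
  obtain ⟨ca, cb, ce⟩ := three_cycle_apply h₁ h₂ h₃
  rw [← hc] at ca cb ce
  let T : Finset (Fin r) := {a, b, e}
  have hT : T.card = 3 := Finset.card_eq_three.mpr ⟨_, _, _, h₁, h₃, h₂, rfl⟩
  have hcT : c ∈ fixOut T := sw_mem _ _ (by simp [T]) (by simp [T]) (by simp [T]) (by simp [T])
  have hc1 : c ≠ 1 := fun h => h₁ (by rw [← ca, h]; rfl)
  have himg : T.image g.1 = T := by
    simp only [T, Finset.image_insert, Finset.image_singleton, ga, gb, ge]
    exact Finset.insert_comm _ _ _
  have hmem : g * c * g⁻¹ ∈ fixOut T := himg ▸ conj_mem g hcT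
  have hb : (g * c * g⁻¹).1 b = a → False → False := fun _ h => h
  have key : (g * c * g⁻¹).1 a = e := by
    show g.1 (c.1 (g.1⁻¹ a)) = e
    rw [show g.1⁻¹ a = b from by rw [Perm.inv_eq_iff_eq, gb], cb, ge]
  rcases (fixOut_three hT hcT hc1).1 _ hmem with h | h | h
  · rw [h] at key; exact absurd key h₃
  · rw [h, ca] at key; exact absurd key h₂
  · exact h

theorem exists_omega [IsAlgClosed F] : ∃ w : F, w * w + w + 1 = 0 := by
  obtain ⟨w, hw⟩ := IsAlgClosed.exists_root (Polynomial.X * Polynomial.X + Polynomial.X + 1 : Polynomial F) (by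
    have e : (Polynomial.X * Polynomial.X + Polynomial.X + 1 : Polynomial F).degree = 2 := by compute_degree!
    rw [e]; decide)
  exact ⟨w, by simpa using hw⟩

/-- A cube root of unity other than one, in characteristic two. -/
structure Omega (w : F) : Prop where
  eq : w * w + w + 1 = 0
  two : (2 : F) = 0

theorem Omega.ne_one {w : F} (h : Omega w) : w ≠ 1 := fun e => one_ne_zero (α := F) (by
  linear_combination h.eq - h.two - (w + 2) * (sub_eq_zero.mpr e : w - 1 = 0) + 0)

theorem Omega.cube {w : F} (h : Omega w) : w * w * w = 1 := by linear_combination (w - 1) * h.eq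

theorem Omega.sq_ne_one {w : F} (h : Omega w) : w * w ≠ 1 := fun e => h.ne_one (by
  have := h.cube; rw [e, one_mul] at this; exact this)

theorem Omega.sq_ne {w : F} (h : Omega w) : w * w ≠ w := fun e => h.ne_one (by
  have h0 : w ≠ 0 := fun z => by simpa [z] using h.eq
  exact mul_right_cancel₀ h0 (e.trans (one_mul w).symm))

theorem Omega.roots {w : F} (h : Omega w) {μ : F} (hμ : μ * μ * μ = 1) : μ = 1 ∨ μ = w ∨ μ = w * w := by
  have : (μ - 1) * ((μ - w) * (μ - w * w)) = 0 := by
    linear_combination hμ - (μ * μ - μ) * h.eq + (μ - 1) * h.cube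
  rcases mul_eq_zero.mp this with e | e
  · exact Or.inl (sub_eq_zero.mp e)
  · rcases mul_eq_zero.mp e with e | e
    · exact Or.inr (Or.inl (sub_eq_zero.mp e))
    · exact Or.inr (Or.inr (sub_eq_zero.mp e))

theorem Omega.three {w : F} (h : Omega w) : (3 : F) ≠ 0 := fun e => one_ne_zero (α := F) (by
  linear_combination e - h.two)

/-- The eigenspace decomposition of the moved space of a three-cycle. -/
theorem triple_eigen {w : F} (hw : Omega w) {T : Finset (Fin r)} (hT : T.card = 3) {c g : Alt r}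
    (hc : c ∈ fixOut T) (hc1 : c ≠ 1) (hg : g * c * g⁻¹ = c * c) :
    moved ρ (fixOut T) = (ρ c).eigenspace w ⊔ (ρ c).eigenspace (w * w) ∧
    finrank F ((ρ c).eigenspace (w * w)) = finrank F ((ρ c).eigenspace w) ∧
    finrank F (moved ρ (fixOut T)) = 2 * finrank F ((ρ c).eigenspace w) := by
  obtain ⟨hel, hc3⟩ := fixOut_three hT hc hc1
  set N := (ρ c).eigenspace w ⊔ (ρ c).eigenspace (w * w) with hN
  have hd : w - w * w ≠ 0 := sub_ne_zero.mpr hw.sq_ne.symm
  have hcN : c ∈ trivQuot ρ N := fun v => by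
    obtain ⟨x, hx⟩ : ∃ x, x = ρ c v - v := ⟨_, rfl⟩
    rw [← hx]
    have e : ρ c (ρ c x) = -(ρ c x) - x := by
      rw [hx, map_sub, map_sub, ← rho_mul_apply ρ c c v, ← rho_mul_apply ρ c (c * c) v, ← mul_assoc, hc3,
        rho_one_apply]
      abel
    have e1 : ρ c x - (w * w) • x ∈ (ρ c).eigenspace w := by
      rw [Module.End.mem_eigenspace_iff, map_sub, map_smul, e]
      linear_combination (norm := module) (-(hw.eq)) • (ρ c x) + (hw.cube) • x
    have e2 : w • x - ρ c x ∈ (ρ c).eigenspace (w * w) := by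
      rw [Module.End.mem_eigenspace_iff, map_sub, map_smul, e]
      linear_combination (norm := module) (hw.eq) • (ρ c x) - (hw.cube) • x
    have ex : x = (w - w * w)⁻¹ • ((ρ c x - (w * w) • x) + (w • x - ρ c x)) := by
      rw [show (ρ c x - (w * w) • x) + (w • x - ρ c x) = (w - w * w) • x by module, inv_smul_smul₀ hd]
    rw [ex]
    exact N.smul_mem _ (N.add_mem (Submodule.mem_sup_left e1) (Submodule.mem_sup_right e2))
  have hev : ∀ z : F, z ≠ 1 → (ρ c).eigenspace z ≤ moved ρ (fixOut T) := fun z hz v hv => by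
    rw [Module.End.mem_eigenspace_iff] at hv
    have := (moved ρ (fixOut T)).smul_mem (z - 1)⁻¹ (sub_mem_moved ρ hc v)
    rwa [hv, show z • v - v = (z - 1) • v by module, inv_smul_smul₀ (sub_ne_zero.mpr hz)] at this
  have heq : moved ρ (fixOut T) = N := by
    refine le_antisymm ((moved_le_iff ρ).mpr fun q hq => ?_) (sup_le (hev w hw.ne_one) (hev _ hw.sq_ne_one))
    rcases hel q hq with rfl | rfl | rfl
    · exact one_mem _
    · exact hcN
    · exact mul_mem hcN hcN
  have hswap : ∀ z : F, ∀ v ∈ (ρ c).eigenspace z, ρ g v ∈ (ρ c).eigenspace (z * z) := fun z v hv => by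
    rw [Module.End.mem_eigenspace_iff] at hv ⊢
    have hgc : c * g = g * (c * c) := by
      have h4 : g * (c * c) * g⁻¹ = c := by
        calc g * (c * c) * g⁻¹ = (g * c * g⁻¹) * (g * c * g⁻¹) := by group
          _ = (c * c * c) * c := by rw [hg]; group
          _ = c := by rw [hc3, one_mul]
      calc c * g = (g * (c * c) * g⁻¹) * g := by rw [h4]
        _ = g * (c * c) := by group
    rw [← rho_mul_apply, hgc, rho_mul_apply, rho_mul_apply, hv, map_smul, hv, map_smul, map_smul, smul_smul]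
  have d1 := finrank_le_of_mapsTo ρ g (hswap w)
  have d2 := finrank_le_of_mapsTo ρ g (hswap (w * w))
  rw [show w * w * (w * w) = w by linear_combination w * hw.cube] at d2
  refine ⟨heq, by omega, ?_⟩
  rw [heq, hN, finrank_sup_of_inf (disjoint_iff.mp ((Module.End.eigenspaces_iSupIndep _).pairwiseDisjoint hw.sq_ne.symm))]
  omega

theorem fixOut_ne_zero {w : F} (hw : Omega w) {T : Finset (Fin r)} (hT : T.card = 3) :
    (Nat.card (fixOut T) : F) ≠ 0 := by
  obtain ⟨φ, hinj, hφ⟩ := exists_emb T hT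
  rw [← hφ, Nat.card_congr (MonoidHom.ofInjective hinj).toEquiv.symm,
    show Nat.card (Alt 3) = 3 from by rw [Nat.card_eq_fintype_card]; decide]
  exact_mod_cast hw.three

theorem exists_triple (hr : 5 ≤ r) {T : Finset (Fin r)} (hT : T.card = 3) :
    ∃ c g : Alt r, c ∈ fixOut T ∧ c ≠ 1 ∧ g * c * g⁻¹ = c * c := by
  obtain ⟨a, b, e, h₁, h₃, h₂, rfl⟩ := Finset.card_eq_three.mp hT
  obtain ⟨p, hp, q, hq, hpq⟩ := Finset.one_lt_card.mp
    (show 1 < ({a, b, e} : Finset (Fin r))ᶜ.card by rw [Finset.card_compl, Fintype.card_fin, hT]; omega)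
  simp only [Finset.mem_compl, Finset.mem_insert, Finset.mem_singleton, not_or] at hp hq
  refine ⟨sw a b b e h₁ h₂, sw a b p q h₁ hpq, sw_mem _ _ (by simp) (by simp) (by simp) (by simp), fun h => h₁ ?_,
    flip_eq h₁ h₂ h₃ _ ?_ ?_ ?_⟩
  · rw [← (three_cycle_apply h₁ h₂ h₃).1, h]; rfl
  · rw [sw_apply, swap_apply_of_ne_of_ne (Ne.symm hp.1) (Ne.symm hq.1), swap_apply_left]
  · rw [sw_apply, swap_apply_of_ne_of_ne (Ne.symm hp.2.1) (Ne.symm hq.2.1), swap_apply_right]
  · rw [sw_apply, swap_apply_of_ne_of_ne (Ne.symm hp.2.2) (Ne.symm hq.2.2),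
      swap_apply_of_ne_of_ne h₃.symm h₂.symm]

theorem triple_conj (hr : 5 ≤ r) {T S : Finset (Fin r)} (hT : T.card = 3) (hS : S.card = 3) :
    finrank F (moved ρ (fixOut S)) = finrank F (moved ρ (fixOut T)) := by
  obtain ⟨g, hg⟩ := exists_image (hT.trans hS.symm) (by omega)
  refine (finrank_moved_conj ρ g (fun q hq => hg ▸ conj_mem g hq) fun q hq => ?_).symm
  have := conj_mem g⁻¹ hq
  rwa [← hg, Finset.image_image, show ((g⁻¹ : Alt r).1 ∘ g.1) = id from funext fun z => by simp,
    Finset.image_id] at this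

theorem exists_three_set {S : Finset (Fin r)} (h : 3 ≤ S.card) : ∃ T ⊆ S, T.card = 3 :=
  Finset.exists_subset_card_eq h

theorem triple_pos (hinj : Function.Injective ρ) {T : Finset (Fin r)} {c : Alt r} (hc : c ∈ fixOut T) (hc1 : c ≠ 1) :
    moved ρ (fixOut T) ≠ ⊥ := fun e => by
  refine hc1 (hinj ?_)
  rw [map_one]
  refine LinearMap.ext fun v => sub_eq_zero.mp ?_
  have := sub_mem_moved ρ hc v
  rwa [e, Submodule.mem_bot] at this

theorem low_six {w : F} (hw : Omega w) {k : ℕ} (hk : 6 ≤ k) : Low F k 4 := by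
  intro W _ _ _ σ ⟨x, hx⟩
  have hinj := injective_of_ne_one (by omega) σ hx
  by_contra hlt
  let a : Fin 6 → Fin k := fun i => ⟨i.1, by omega⟩
  have ha : Function.Injective a := fun i j e => Fin.ext (congrArg (Fin.val : Fin k → ℕ) e)
  have d : ∀ i j : Fin 6, i ≠ j → a i ≠ a j := fun i j h => ha.ne h
  let T : Finset (Fin k) := {a 0, a 1, a 2}
  let S : Finset (Fin k) := {a 3, a 4, a 5}
  have hT : T.card = 3 := Finset.card_eq_three.mpr ⟨_, _, _, d 0 1 (by decide), d 0 2 (by decide), d 1 2 (by decide), rfl⟩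
  have hS : S.card = 3 := Finset.card_eq_three.mpr ⟨_, _, _, d 3 4 (by decide), d 3 5 (by decide), d 4 5 (by decide), rfl⟩
  let c : Alt k := sw (a 0) (a 1) (a 1) (a 2) (d 0 1 (by decide)) (d 1 2 (by decide))
  let e : Alt k := sw (a 3) (a 4) (a 4) (a 5) (d 3 4 (by decide)) (d 4 5 (by decide))
  let g : Alt k := sw (a 0) (a 1) (a 3) (a 4) (d 0 1 (by decide)) (d 3 4 (by decide))
  have hgv : ∀ i : Fin 6, g.1 (a i) = a (swap (0 : Fin 6) 1 (swap 3 4 i)) := fun i => by
    show swap (a 0) (a 1) (swap (a 3) (a 4) (a i)) = _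
    rw [ha.swap_apply, ha.swap_apply]
  have hgc : g * c * g⁻¹ = c * c := flip_eq _ _ (d 0 2 (by decide)) g
    ((hgv 0).trans (congrArg a (by decide))) ((hgv 1).trans (congrArg a (by decide))) ((hgv 2).trans (congrArg a (by decide)))
  have hge : g * e * g⁻¹ = e * e := flip_eq _ _ (d 3 5 (by decide)) g
    ((hgv 3).trans (congrArg a (by decide))) ((hgv 4).trans (congrArg a (by decide))) ((hgv 5).trans (congrArg a (by decide)))
  have hc : c ∈ fixOut T := sw_mem _ _ (by simp [T]) (by simp [T]) (by simp [T]) (by simp [T])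
  have he : e ∈ fixOut S := sw_mem _ _ (by simp [S]) (by simp [S]) (by simp [S]) (by simp [S])
  have hce : Commute c e := commute_of_disjoint (by
    simp only [T, S, Finset.disjoint_insert_left, Finset.disjoint_singleton_left, Finset.mem_insert,
      Finset.mem_singleton, ha.eq_iff]
    decide) hc he
  have hc0 : c.1 (a 0) = a 1 := (three_cycle_apply _ _ (d 0 2 (by decide))).1
  have hc1 : c ≠ 1 := fun h => d 0 1 (by decide) (by rw [← hc0, h]; rfl)
  have he0 : e.1 (a 0) = a 0 := he _ (by simp [S, ha.eq_iff])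
  have he1 : e ≠ 1 := fun h => d 3 4 (by decide) (by
    rw [← (three_cycle_apply (d 3 4 (by decide)) (d 4 5 (by decide)) (d 3 5 (by decide))).1]
    show a 3 = e.1 (a 3)
    rw [h]; rfl)
  obtain ⟨heq, hm2, hdim⟩ := triple_eigen σ hw hT hc hc1 hgc
  have hpos : 0 < finrank F (moved σ (fixOut T)) :=
    Nat.pos_of_ne_zero fun h => triple_pos σ hinj hc hc1 (Submodule.finrank_eq_zero.mp h)
  have := Submodule.finrank_le (moved σ (fixOut T))
  have hm : finrank F ((σ c).eigenspace w) = 1 := by omega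
  have hcompl := isCompl_fixed_moved σ (fixOut T) (fixOut_ne_zero hw hT)
  have hfd := Submodule.finrank_add_eq_of_isCompl hcompl
  have hS2 : finrank F (moved σ (fixOut S)) = 2 := by rw [triple_conj σ (by omega) hT hS]; omega
  have hefix : ∀ v ∈ fixed σ (fixOut T), σ e v ∈ fixed σ (fixOut T) := fun v hv q hq => by
    rw [← rho_mul_apply, (commute_of_disjoint ?_ hq he).eq, rho_mul_apply, hv q hq]
    simp only [T, S, Finset.disjoint_insert_left, Finset.disjoint_singleton_left, Finset.mem_insert,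
      Finset.mem_singleton, ha.eq_iff]
    decide
  obtain ⟨u, hu, hu0⟩ : ∃ u ∈ (σ c).eigenspace w, u ≠ 0 := by
    refine Submodule.exists_mem_ne_zero_of_ne_bot fun h => ?_
    rw [h, finrank_bot] at hm
    omega
  have hline : (σ c).eigenspace w = Submodule.span F {u} :=
    (Submodule.eq_of_le_of_finrank_le (Submodule.span_le.mpr (by simpa using hu))
      (by rw [finrank_span_singleton hu0, hm])).symm
  rw [Module.End.mem_eigenspace_iff] at hu
  obtain ⟨μ, hμ⟩ : ∃ μ : F, σ e u = μ • u := by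
    have : σ e u ∈ (σ c).eigenspace w := by
      rw [Module.End.mem_eigenspace_iff, ← rho_mul_apply, hce.eq, rho_mul_apply, hu, map_smul]
    rw [hline, Submodule.mem_span_singleton] at this
    obtain ⟨μ, hμ⟩ := this
    exact ⟨μ, hμ.symm⟩
  obtain ⟨-, hc3⟩ := fixOut_three hT hc hc1
  obtain ⟨hel, he3⟩ := fixOut_three hS he he1
  have hμ3 : μ * μ * μ = 1 := by
    have h : σ (e * e * e) u = (μ * μ * μ) • u := by
      rw [rho_mul_apply, rho_mul_apply, hμ, map_smul, hμ, map_smul, map_smul, hμ, smul_smul, smul_smul]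
    rw [he3, rho_one_apply] at h
    by_contra hne
    exact hu0 ((smul_eq_zero.mp (show (μ * μ * μ - 1) • u = 0 by rw [sub_smul, one_smul, ← h, sub_self])).resolve_left
      (sub_ne_zero.mpr hne))
  have hconj : ∀ q : Alt k, q * q * q = 1 → g * q * g⁻¹ = q * q → q * g = g * (q * q) := by
    intro q h3 h
    have h4 : g * (q * q) * g⁻¹ = q := by
      calc g * (q * q) * g⁻¹ = (g * q * g⁻¹) * (g * q * g⁻¹) := by group
        _ = (q * q * q) * q := by rw [h]; group
        _ = q := by rw [h3, one_mul]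
    calc q * g = (g * (q * q) * g⁻¹) * g := by rw [h4]
      _ = g * (q * q) := by group
  have hu' : σ c (σ g u) = (w * w) • σ g u := by
    rw [← rho_mul_apply, hconj c hc3 hgc, rho_mul_apply, rho_mul_apply, hu, map_smul, hu, map_smul, map_smul,
      smul_smul]
  have hμ' : σ e (σ g u) = (μ * μ) • σ g u := by
    rw [← rho_mul_apply, hconj e he3 hge, rho_mul_apply, rho_mul_apply, hμ, map_smul, hμ, map_smul, map_smul,
      smul_smul]
  have hline' : (σ c).eigenspace (w * w) = Submodule.span F {σ g u} := by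
    refine (Submodule.eq_of_le_of_finrank_le (Submodule.span_le.mpr ?_) ?_).symm
    · simpa [Module.End.mem_eigenspace_iff] using hu'
    · rw [finrank_span_singleton (fun h => hu0 (rho_injective σ g (h.trans (map_zero _).symm)))]
      omega
  have hdec : ∀ v : W, ∃ f ∈ fixed σ (fixOut T), ∃ x y : F, v = f + (x • u + y • σ g u) := by
    intro v
    have hv := hcompl.sup_eq_top ▸ Submodule.mem_top (x := v)
    rw [heq, hline, hline'] at hv
    obtain ⟨f, hf, z, hz, rfl⟩ := Submodule.mem_sup.mp hv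
    obtain ⟨p, hp, q, hq, rfl⟩ := Submodule.mem_sup.mp hz
    rw [Submodule.mem_span_singleton] at hp hq
    obtain ⟨x, rfl⟩ := hp
    obtain ⟨y, rfl⟩ := hq
    exact ⟨f, hf, x, y, rfl⟩
  by_cases hμ1 : μ = 1
  · have hle : moved σ (fixOut S) ≤ fixed σ (fixOut T) := by
      refine (moved_le_iff σ).mpr fun q hq => ?_
      have het : e ∈ trivQuot σ (fixed σ (fixOut T)) := fun v => by
        obtain ⟨f, hf, x, y, rfl⟩ := hdec v
        simp only [map_add, map_smul, hμ, hμ', hμ1, one_mul, one_smul, add_sub_add_right_eq_sub]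
        exact (fixed σ (fixOut T)).sub_mem (hefix f hf) hf
      rcases hel q hq with rfl | rfl | rfl
      · exact one_mem _
      · exact het
      · exact mul_mem het het
    have := Submodule.finrank_mono hle
    omega
  have hUle : moved σ (fixOut T) ≤ moved σ (fixOut S) := by
    have hmem : ∀ (z : F) (v : W), z ≠ 1 → σ e v = z • v → v ∈ moved σ (fixOut S) := fun z v hz hv => by
      have := (moved σ (fixOut S)).smul_mem (z - 1)⁻¹ (sub_mem_moved σ he v)
      rwa [hv, show z • v - v = (z - 1) • v by module, inv_smul_smul₀ (sub_ne_zero.mpr hz)] at this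
    rw [heq, hline, hline', sup_le_iff, Submodule.span_le, Submodule.span_le, Set.singleton_subset_iff,
      Set.singleton_subset_iff]
    refine ⟨hmem μ u hμ1 hμ, hmem (μ * μ) _ (fun h => hμ1 ?_) hμ'⟩
    rw [h, one_mul] at hμ3
    exact hμ3
  have hUeq : moved σ (fixOut T) = moved σ (fixOut S) := Submodule.eq_of_le_of_finrank_le hUle (by omega)
  have hef : ∀ f ∈ fixed σ (fixOut T), σ e f = f := fun f hf => sub_eq_zero.mp <| (Submodule.mem_bot F).mp <|
    hcompl.disjoint.le_bot ⟨(fixed σ (fixOut T)).sub_mem (hefix f hf) hf, hUeq ▸ sub_mem_moved σ he f⟩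
  rcases hw.roots hμ3 with h | h | h
  · exact hμ1 h
  · have : e = c := hinj (LinearMap.ext fun v => by
      obtain ⟨f, hf, x, y, rfl⟩ := hdec v
      simp only [map_add, map_smul, hμ, hμ', hu, hu', hef f hf, hf c hc, h])
    rw [this, hc0] at he0
    exact d 1 0 (by decide) he0
  · have : e = c * c := hinj (LinearMap.ext fun v => by
      obtain ⟨f, hf, x, y, rfl⟩ := hdec v
      simp only [map_add, map_smul, hμ, hμ', hu, hu', hef f hf, hf c hc, h, rho_mul_apply, smul_smul])
    have : (c * c).1 (a 0) = a 0 := this ▸ he0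
    have hc1' : c.1 (a 1) = a 2 := (three_cycle_apply _ _ (d 0 2 (by decide))).2.1
    exact d 2 0 (by decide) (by rw [← hc1', ← hc0]; exact this)

theorem five_cycle (a : Fin 5 → Fin r) (ha : Function.Injective a) :
    ∃ y ∈ fixOut (Finset.univ.image a), ∀ i, y.1 (a i) = a (i + 1) := by
  have d : ∀ i j : Fin 5, i ≠ j → a i ≠ a j := fun i j h => ha.ne h
  have hm : ∀ i, a i ∈ Finset.univ.image a := fun i => Finset.mem_image_of_mem a (Finset.mem_univ i)
  refine ⟨sw (a 0) (a 1) (a 1) (a 2) (d 0 1 (by decide)) (d 1 2 (by decide)) *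
    sw (a 2) (a 3) (a 3) (a 4) (d 2 3 (by decide)) (d 3 4 (by decide)),
    mul_mem (sw_mem _ _ (hm _) (hm _) (hm _) (hm _)) (sw_mem _ _ (hm _) (hm _) (hm _) (hm _)), fun i => ?_⟩
  rw [Subgroup.coe_mul, Perm.mul_apply, sw_apply, sw_apply, ha.swap_apply, ha.swap_apply, ha.swap_apply,
    ha.swap_apply]
  exact congrArg a (by revert i; decide)

/-- An element of order five and an element squaring it. -/
theorem exists_five (hr : 7 ≤ r) {P : Finset (Fin r)} (hP : P.card = 5) :
    ∃ y s : Alt r, y ∈ fixOut P ∧ y ≠ 1 ∧ y * y * y * y * y = 1 ∧ s * y * s⁻¹ = y * y := by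
  obtain ⟨a, ha, rfl⟩ : ∃ a : Fin 5 → Fin r, Function.Injective a ∧ Finset.univ.image a = P := by
    refine ⟨fun i => ((P.equivFin.trans (finCongr hP)).symm i : ↥P),
      Subtype.val_injective.comp (Equiv.injective _), ?_⟩
    ext p
    constructor
    · intro h
      obtain ⟨i, -, rfl⟩ := Finset.mem_image.mp h
      exact Subtype.coe_prop _
    · intro h
      exact Finset.mem_image.mpr ⟨(P.equivFin.trans (finCongr hP)) ⟨p, h⟩, Finset.mem_univ _, by simp⟩
  obtain ⟨y, hyP, hya⟩ := five_cycle a ha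
  obtain ⟨s, hs⟩ := exists_move (k := 5) (by omega) (f := a) (g := fun i => a (2 * i)) ha
    (ha.comp (by decide))
  have hext : ∀ u v : Alt r, u ∈ fixOut (Finset.univ.image a) → v ∈ fixOut (Finset.univ.image a) →
      (∀ i, u.1 (a i) = v.1 (a i)) → u = v := by
    intro u v hu hv h
    refine Subtype.ext (Perm.ext fun p => ?_)
    by_cases hp : p ∈ Finset.univ.image a
    · obtain ⟨i, -, rfl⟩ := Finset.mem_image.mp hp
      exact h i
    · rw [hu p hp, hv p hp]
  have himg : (Finset.univ.image a).image s.1 = Finset.univ.image a := by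
    refine Finset.eq_of_subset_of_card_le (Finset.image_subset_iff.mpr fun p hp => ?_) (by rw [card_image_alt])
    obtain ⟨i, -, rfl⟩ := Finset.mem_image.mp hp
    rw [hs i]
    exact Finset.mem_image_of_mem a (Finset.mem_univ _)
  refine ⟨y, s, hyP, fun h => ?_, ?_, hext _ _ (himg ▸ conj_mem s hyP) (mul_mem hyP hyP) fun i => ?_⟩
  · have := hya 0
    rw [h] at this
    exact absurd (ha this) (by decide)
  · refine hext _ _ (mul_mem (mul_mem (mul_mem (mul_mem hyP hyP) hyP) hyP) hyP) (one_mem _) fun i => ?_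
    simp only [Subgroup.coe_mul, Perm.mul_apply, hya, OneMemClass.coe_one, Perm.one_apply]
    exact congrArg a (by revert i; decide)
  · obtain ⟨j, rfl⟩ : ∃ j, 2 * j = i := ⟨3 * i, by revert i; decide⟩
    simp only [Subgroup.coe_mul, Subgroup.coe_inv, Perm.mul_apply]
    rw [show s.1⁻¹ (a (2 * j)) = a j from by rw [Perm.inv_eq_iff_eq, hs j], hya, hs, hya, hya]
    exact congrArg a (by revert j; decide)

set_option maxHeartbeats 1000000 in
/-- The step of the induction. -/
theorem even_step [IsAlgClosed F] (h2 : (2 : F) = 0) (hr : 9 ≤ r) (ih : ∀ k, 9 ≤ k → k < r → LinBound F k)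
    (hρ : ∃ x, ρ x ≠ 1) : r ≤ finrank F V + 2 ∧ ((r : F) ≠ 0 → r ≤ finrank F V + 1) := by
  classical
  obtain ⟨w, hw'⟩ := exists_omega (F := F)
  have hw : Omega w := ⟨hw', h2⟩
  obtain ⟨x, hx⟩ := hρ
  have hinj := injective_of_ne_one (by omega) ρ hx
  by_cases htriv : ∀ X, X.card = 3 → fixOut Xᶜ ≤ fixer ρ (moved ρ (fixOut X))
  · obtain ⟨T₀, -, hT₀⟩ := exists_three_set (S := (Finset.univ : Finset (Fin r)))
      (by rw [Finset.card_univ, Fintype.card_fin]; omega)
    obtain ⟨c, g, hc, hc1, hg⟩ := exists_triple (by omega) hT₀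
    obtain ⟨-, -, hd₀⟩ := triple_eigen ρ hw hT₀ hc hc1 hg
    set m := finrank F ((ρ c).eigenspace w) with hm
    have hne := triple_pos ρ hinj hc hc1
    have hm0 : 0 < m := Nat.pos_of_ne_zero fun h => hne (Submodule.finrank_eq_zero.mp (by rw [hd₀, h]))
    have hdim : ∀ X, X.card = 3 → finrank F (moved ρ (fixOut X)) = 2 * m := fun X hX => by
      rw [triple_conj ρ (by omega) hT₀ hX, hd₀]
    have fr : Frame ρ 3 (2 * m) fixOut :=
      { three := le_rfl
        le := fun X _ => le_rfl
        conj := fun X _ g q hq => conj_mem g hq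
        card := fun X hX => fixOut_ne_zero hw hX
        triv := htriv
        dim := hdim
        pos := by omega }
    have hb := fr.bound (by omega)
    refine ⟨by omega, fun hr0 => ?_⟩
    by_contra hlt
    have hm1 : m = 1 := by omega
    have hn : finrank F V + 2 * 3 ≤ 2 * (2 * m) + r := by omega
    refine hr0 (Tight.cast_eq_zero (ρ := ρ) ⟨fun T hT => by rw [hdim T hT, hm1], fun X hX => ?_, htriv,
      fun T hT v hv hall => (Submodule.mem_bot F).mp
        ((isCompl_fixed_moved ρ _ (fixOut_ne_zero hw hT)).disjoint.le_bot ⟨fun g _ => hall g, hv⟩)⟩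
      (by omega) (by omega))
    rw [show moved ρ (fixOut X) = W ρ 3 fixOut X from ?_, fr.extremal_succ (by omega) hn hX, hm1]
    obtain ⟨p, hp, q, hq, hpq⟩ := Finset.one_lt_card.mp (show 1 < X.card by omega)
    have hsub : ∀ z ∈ X, (X.erase z).card = 3 ∧ fixOut (X.erase z) ≤ trivQuot ρ (W ρ 3 fixOut X) := fun z hz => by
      have hc : (X.erase z).card = 3 := by rw [Finset.card_erase_of_mem hz, hX]
      exact ⟨hc, (moved_le_iff ρ).mp (le_W (Finset.erase_subset _ _) hc)⟩
    refine le_antisymm ((moved_le_iff ρ).mpr ?_) (W_le fun T hT _ => moved_mono ρ (fixOut_mono hT))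
    obtain ⟨o, ho⟩ : ((X.erase p) ∩ (X.erase q)).Nonempty := by
      rw [← Finset.card_pos]
      have : (X.erase p ∩ X.erase q) = (X.erase p).erase q := by ext z; simp; tauto
      rw [this, Finset.card_erase_of_mem (Finset.mem_erase.mpr ⟨Ne.symm hpq, hq⟩), Finset.card_erase_of_mem hp, hX]
      omega
    rw [Finset.mem_inter] at ho
    refine le_trans (fixOut_mono fun z hz => ?_)
      (join_le (hsub p hp).1.ge (hsub q hq).1.ge ho.1 ho.2 (hsub p hp).2 (hsub q hq).2)
    simp only [Finset.mem_union, Finset.mem_erase]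
    by_cases hzp : z = p
    · exact Or.inr ⟨hzp ▸ hpq, hz⟩
    · exact Or.inl ⟨hzp, hz⟩
  simp only [not_forall] at htriv
  obtain ⟨T, hT, hnle⟩ := htriv
  obtain ⟨q, hq, hqne⟩ := SetLike.not_le_iff_exists.mp hnle
  obtain ⟨c, g, hc, hc1, hg⟩ := exists_triple (by omega) hT
  obtain ⟨heq, hm2, hd⟩ := triple_eigen ρ hw hT hc hc1 hg
  have hc3' : Tᶜ.card = r - 3 := by rw [Finset.card_compl, Fintype.card_fin, hT]
  obtain ⟨z, hz, hNe⟩ : ∃ z : F, finrank F ((ρ c).eigenspace z) = finrank F ((ρ c).eigenspace w) ∧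
      ∃ q ∈ fixOut Tᶜ, ∃ v ∈ (ρ c).eigenspace z, ρ q v ≠ v := by
    by_contra h
    simp only [not_exists, not_and, not_not] at h
    refine hqne fun v hv => ?_
    rw [heq] at hv
    obtain ⟨a, ha, b, hb, rfl⟩ := Submodule.mem_sup.mp hv
    rw [map_add, h w rfl q hq a ha, h (w * w) hm2 q hq b hb]
  have hstab : ∀ q ∈ fixOut Tᶜ, ∀ v ∈ (ρ c).eigenspace z, ρ q v ∈ (ρ c).eigenspace z := fun q hq v hv => by
    rw [Module.End.mem_eigenspace_iff] at hv ⊢
    rw [← rho_mul_apply, (commute_of_compl hc hq).eq, rho_mul_apply, hv, map_smul]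
  have hlow : ∀ b : ℕ, Low F (r - 3) b → b ≤ finrank F ((ρ c).eigenspace w) ∧ 2 * b ≤ finrank F V := fun b hlow => by
    have := bound_fixOut ρ hlow hc3' _ hstab hNe
    have := Submodule.finrank_le (moved ρ (fixOut T))
    omega
  by_cases h10 : r ≤ 10
  · obtain ⟨-, h8⟩ := hlow 4 (low_six hw (by omega))
    refine ⟨by omega, fun hr0 => ?_⟩
    by_contra hlt
    have : r = 10 := by omega
    subst this
    exact hr0 (by rw [show ((10 : ℕ) : F) = 2 * 5 by norm_num, h2, zero_mul])
  by_cases h11 : r = 11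
  · obtain ⟨hm4, -⟩ := hlow 4 (low_six hw (by omega))
    suffices h : ¬ finrank F V ≤ 9 by omega
    intro hn9
    have hcompl := isCompl_fixed_moved ρ (fixOut T) (fixOut_ne_zero hw hT)
    have hfd := Submodule.finrank_add_eq_of_isCompl hcompl
    have hfix1 : finrank F (fixed ρ (fixOut T)) ≤ 1 := by omega
    obtain ⟨P, hPT, hP⟩ := Finset.exists_subset_card_eq (show 5 ≤ Tᶜ.card by omega)
    obtain ⟨y, s, hyP, hy1, hy5, hsy⟩ := exists_five (by omega) hP
    have hys : y * s = s * (y * y * y) := by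
      have h : s * (y * y * y) * s⁻¹ = y := by
        calc s * (y * y * y) * s⁻¹ = (s * y * s⁻¹) * (s * y * s⁻¹) * (s * y * s⁻¹) := by group
          _ = (y * y * y * y * y) * y := by rw [hsy]; group
          _ = y := by rw [hy5, one_mul]
      calc y * s = (s * (y * y * y) * s⁻¹) * s := by rw [h]
        _ = s * (y * y * y) := by group
    have hmap : ∀ μ : F, ∀ v ∈ (ρ y).eigenspace μ, ρ s v ∈ (ρ y).eigenspace (μ * μ * μ) := fun μ v hv => by
      rw [Module.End.mem_eigenspace_iff] at hv ⊢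
      rw [← rho_mul_apply, hys, rho_mul_apply, rho_mul_apply, rho_mul_apply]
      simp only [hv, map_smul, smul_smul, mul_assoc]
    have h5 : (5 : F) ≠ 0 := fun h => one_ne_zero (α := F) (by linear_combination h - 2 * h2)
    -- a nontrivial eigenvalue
    obtain ⟨μ, hμ1, hμ5, hμne⟩ : ∃ μ : F, μ ≠ 1 ∧ μ ^ 5 = 1 ∧ 0 < finrank F ((ρ y).eigenspace μ) := by
      let L : V →ₗ[F] V := (ρ y : V →ₗ[F] V) - LinearMap.id
      have hL : ∀ v, L v = ρ y v - v := fun v => rfl
      let R : Submodule F V := LinearMap.range L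
      have hR : ∀ v ∈ R, ρ y v ∈ R := by
        rintro _ ⟨u, rfl⟩
        exact ⟨ρ y u, by simp only [hL, map_sub]⟩
      haveI : Nontrivial R := by
        rw [Submodule.nontrivial_iff_ne_bot]
        intro h
        refine hy1 (hinj ?_)
        rw [map_one]
        refine LinearMap.ext fun v => sub_eq_zero.mp ?_
        have : ρ y v - v ∈ R := ⟨v, hL v⟩
        rwa [h, Submodule.mem_bot] at this
      obtain ⟨μ, hμ⟩ := Module.End.exists_eigenvalue ((ρ y).restrict hR)
      obtain ⟨⟨v, hv⟩, hev, hne⟩ := hμ.exists_hasEigenvector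
      rw [Module.End.mem_eigenspace_iff] at hev
      have hev' : ρ y v = μ • v := congrArg Subtype.val hev
      have hv0 : v ≠ 0 := fun h => hne (Subtype.ext h)
      refine ⟨μ, fun h1 => ?_, ?_, ?_⟩
      · obtain ⟨u, hu⟩ := hv
        rw [h1, one_smul] at hev'
        have hu' : ρ y u = u + v := by
          rw [← hu, hL]; abel
        have e : ρ (y * y * y * y * y) u = u + (5 : F) • v := by
          simp only [rho_mul_apply, hu', map_add, hev']
          module
        rw [hy5, rho_one_apply, left_eq_add] at e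
        exact hv0 ((smul_eq_zero.mp e).resolve_left h5)
      · have e : ρ (y * y * y * y * y) v = (μ ^ 5) • v := by
          simp only [rho_mul_apply, hev', map_smul, smul_smul]
          ring_nf
        rw [hy5, rho_one_apply] at e
        by_contra hne'
        exact hv0 ((smul_eq_zero.mp (show (μ ^ 5 - 1) • v = 0 by rw [sub_smul, one_smul, ← e, sub_self])).resolve_left
          (sub_ne_zero.mpr hne'))
      · rw [pos_iff_ne_zero, ne_eq, Submodule.finrank_eq_zero]
        intro h
        exact hv0 ((Submodule.mem_bot F).mp (h ▸ (Module.End.mem_eigenspace_iff.mpr hev' : v ∈ (ρ y).eigenspace μ)))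
    have q1 := finrank_le_of_mapsTo ρ s (hmap μ)
    have q2 := finrank_le_of_mapsTo ρ s (hmap (μ * μ * μ))
    rw [show μ * μ * μ * (μ * μ * μ) * (μ * μ * μ) = μ ^ 4 by linear_combination μ ^ 4 * hμ5] at q2
    have q3 := finrank_le_of_mapsTo ρ s (hmap (μ ^ 4))
    rw [show μ ^ 4 * μ ^ 4 * μ ^ 4 = μ ^ 2 by linear_combination (μ ^ 7 + μ ^ 2) * hμ5] at q3
    have q4 := finrank_le_of_mapsTo ρ s (hmap (μ ^ 2))
    rw [show μ ^ 2 * μ ^ 2 * μ ^ 2 = μ by linear_combination μ * hμ5] at q4
    have hμ0 : μ ≠ 0 := fun h => by simp [h] at hμ5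
    have n13 : μ ≠ μ * μ * μ := fun h => hμ1 <| by
      have h2' : μ ^ 2 = 1 := mul_left_cancel₀ hμ0 (by linear_combination -h)
      linear_combination hμ5 - (μ ^ 3 + μ) * h2'
    have n14 : μ ≠ μ ^ 4 := fun h => hμ1 <| by
      have h3' : μ ^ 3 = 1 := mul_left_cancel₀ hμ0 (by linear_combination -h)
      have h2' : μ ^ 2 = 1 := by linear_combination hμ5 - μ ^ 2 * h3'
      linear_combination h3' - μ * h2'
    have n34 : μ * μ * μ ≠ μ ^ 4 := fun h => hμ1 <| by
      exact mul_left_cancel₀ (pow_ne_zero 3 hμ0) (by linear_combination -h)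
    have hsum := three_eigen (ρ y) n13 n14 n34
    have hPc : Pᶜ.card = 6 := by rw [Finset.card_compl, Fintype.card_fin, hP, h11]
    have hcP : c ∈ fixOut Pᶜ := fixOut_mono (fun p hp => Finset.mem_compl.mpr fun h =>
      Finset.mem_compl.mp (hPT h) hp) hc
    have hkill : ∀ ν : F, finrank F ((ρ y).eigenspace ν) ≤ 3 → (ρ y).eigenspace ν ≤ fixed ρ (fixOut T) := by
      intro ν hν v hv q hq
      by_contra hne
      have := bound_fixOut ρ (low_six hw le_rfl) hPc ((ρ y).eigenspace ν) (fun q hq u hu => by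
          rw [Module.End.mem_eigenspace_iff] at hu ⊢
          rw [← rho_mul_apply, (commute_of_compl hyP hq).eq, rho_mul_apply, hu, map_smul])
        ⟨q, fixOut_mono (fun p hp => Finset.mem_compl.mpr fun h => Finset.mem_compl.mp (hPT h) hp) hq, v, hv, hne⟩
      omega
    have h1 := Submodule.finrank_mono (sup_le (hkill μ (by omega)) (hkill (μ * μ * μ) (by omega)))
    rw [finrank_sup_of_inf (disjoint_iff.mp ((Module.End.eigenspaces_iSupIndep _).pairwiseDisjoint n13))] at h1
    omega
  have hlo : Low F (r - 3) (r - 5) := fun W _ _ _ σ hσ => by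
    have := (ih (r - 3) (by omega) (by omega) W σ hσ).1
    omega
  obtain ⟨-, h⟩ := hlow _ hlo
  omega

/-- Nontrivial linear representations of the alternating group of degree `r`, over an algebraically closed field. -/
theorem linear_bound (F : Type) [Field F] [IsAlgClosed F] : ∀ r, 9 ≤ r → LinBound F r := by
  intro r
  induction r using Nat.strong_induction_on with
  | _ r ih =>
    intro hr W _ _ _ σ hσ
    by_cases h2 : (2 : F) = 0
    · exact even_step σ h2 hr (fun k hk hkr => ih k hkr hk) hσ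
    · exact odd_step h2 hr (fun k hk hkr => ih k hkr hk) hσ

end CfsgLib.AltLinear
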