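import Cfsg.Agent.Lib.AltLinear.Core

/-!
Linear representations of alternating groups in characteristic different from two.
-/

set_option autoImplicit false
set_option linter.unusedSectionVars false

namespace CfsgLib.AltLinear

open Module Equiv

/-- A lower bound for the dimension of the nontrivial modules of an alternating group. -/
def Low (F : Type) [Field F] (k b : ℕ) : Prop :=
  ∀ (W : Type) [AddCommGroup W] [Module F W] [FiniteDimensional F W] (σ : Alt k →* Module.End F W),
    (∃ x, σ x ≠ 1) → b ≤ finrank F W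

/-- The bound to be proved for the linear representations of the alternating group of degree `r`. -/
def LinBound (F : Type) [Field F] (r : ℕ) : Prop :=
  ∀ (W : Type) [AddCommGroup W] [Module F W] [FiniteDimensional F W] (σ : Alt r →* Module.End F W),
    (∃ x, σ x ≠ 1) → r ≤ finrank F W + 2 ∧ ((r : F) ≠ 0 → r ≤ finrank F W + 1)

variable {r : ℕ} {F : Type} [Field F] {V : Type} [AddCommGroup V] [Module F V] [FiniteDimensional F V]
  (ρ : Alt r →* Module.End F V)

/-- A lower bound applies to a stable subspace moved by a supported subgroup. -/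
theorem bound_fixOut {k b : ℕ} (low : Low F k b) {S : Finset (Fin r)} (hS : S.card = k) (N : Submodule F V)
    (hN : ∀ g ∈ fixOut S, ∀ v ∈ N, ρ g v ∈ N) (hx : ∃ g ∈ fixOut S, ∃ v ∈ N, ρ g v ≠ v) : b ≤ finrank F N := by
  obtain ⟨φ, -, hφ⟩ := exists_emb S hS
  refine bound_sub ρ φ low N (fun x => hN _ (hφ ▸ ⟨x, rfl⟩)) ?_
  obtain ⟨g, hg, h⟩ := hx
  rw [← hφ] at hg
  obtain ⟨x, rfl⟩ := hg
  exact ⟨x, h⟩

theorem exists_not_commute (hr : 5 ≤ r) {S : Finset (Fin r)} (hS : 2 ≤ Sᶜ.card) {x : Alt r} (hx : x ∈ fixOut S)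
    (hx1 : x ≠ 1) : ∃ g : Alt r, g * x ≠ x * g := by
  obtain ⟨a, ha⟩ : ∃ a, x.1 a ≠ a := by
    by_contra h
    simp only [not_exists, not_not] at h
    exact hx1 (Subtype.ext (Perm.ext h))
  obtain ⟨d, hd⟩ : Sᶜ.Nonempty := Finset.card_pos.mp (by omega)
  rw [Finset.mem_compl] at hd
  obtain ⟨g, hg⟩ := exists_move (k := 1) (by omega) (f := fun _ => a) (g := fun _ => d)
    (Function.injective_of_subsingleton _) (Function.injective_of_subsingleton _)
  refine ⟨g, fun e => ha (g.1.injective ?_)⟩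
  have := congrArg (fun q : Alt r => q.1 a) e
  show g.1 (x.1 a) = g.1 a
  exact this.trans (by show x.1 (g.1 a) = g.1 a; rw [hg 0, hx d hd])

/-- The four group on a set of four points. -/
def four (X : Finset (Fin r)) : Subgroup (Alt r) := Subgroup.closure {g | g ∈ fixOut X ∧ g * g = 1}

theorem four_le (X : Finset (Fin r)) : four X ≤ fixOut X := (Subgroup.closure_le _).mpr fun _ h => h.1

theorem four_conj (X : Finset (Fin r)) (g : Alt r) {q : Alt r} (hq : q ∈ four X) :
    g * q * g⁻¹ ∈ four (X.image g.1) := by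
  refine (show four X ≤ (four (X.image g.1)).comap (MulAut.conj g).toMonoidHom from
    (Subgroup.closure_le _).mpr fun x hx => Subgroup.subset_closure ⟨conj_mem g hx.1, ?_⟩) hq
  show g * x * g⁻¹ * (g * x * g⁻¹) = 1
  rw [conj_mul, hx.2, mul_one, mul_inv_cancel]

/-- The involutions of the alternating group of degree four, with the identity. -/
def klein4 : Subgroup (Alt 4) where
  carrier := {x | x * x = 1}
  one_mem' := one_mul 1
  mul_mem' := fun {a b} ha hb => by
    revert a b
    decide +kernel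
  inv_mem' := fun {a} ha => by
    revert a
    decide +kernel

theorem four_facts : ∃ a b : Alt 4, a * a = 1 ∧ b * b = 1 ∧ a * b = b * a ∧ a ≠ 1 ∧ b ≠ 1 ∧
    (∀ x : Alt 4, x * x = 1 → x = 1 ∨ x = a ∨ x = b ∨ x = a * b) ∧
    (∀ c : Alt 4, c * c * c = 1 → c ≠ 1 → (c * a = b * c ∧ c * b = a * b * c) ∨
      (c * c * a = b * (c * c) ∧ c * c * b = a * b * (c * c))) ∧
    (∃ c : Alt 4, c * c * c = 1 ∧ c ≠ 1) ∧ Fintype.card {x : Alt 4 // x * x = 1} = 4 := by
  refine ⟨sw 0 1 2 3 (by decide) (by decide), sw 0 2 1 3 (by decide) (by decide), ?_, ?_, ?_, ?_, ?_, ?_, ?_,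
    ⟨sw 0 1 1 2 (by decide) (by decide), ?_, ?_⟩, ?_⟩ <;> decide +kernel

/-- What is used about the four group of four points. -/
structure Quad (X : Finset (Fin r)) (A B : Alt r) : Prop where
  aX : A ∈ four X
  bX : B ∈ four X
  aa : A * A = 1
  bb : B * B = 1
  ab : A * B = B * A
  a1 : A ≠ 1
  elems : ∀ g ∈ four X, g = 1 ∨ g = A ∨ g = B ∨ g = A * B
  card : Nat.card (four X) = 4
  cyc : ∀ c ∈ fixOut X, c * c * c = 1 → c ≠ 1 → (c * A = B * c ∧ c * B = A * B * c) ∨
      (c * c * A = B * (c * c) ∧ c * c * B = A * B * (c * c))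
  ex : ∃ c ∈ fixOut X, c * A = B * c ∧ c * B = A * B * c

theorem exists_quad {X : Finset (Fin r)} (hX : X.card = 4) : ∃ A B, Quad X A B := by
  obtain ⟨φ, hinj, hφ⟩ := exists_emb X hX
  obtain ⟨a, b, haa, hbb, hab, ha1, -, hel, hcyc, ⟨c, hc3, hc1⟩, hcard⟩ := four_facts
  have hmap : four X = klein4.map φ := by
    refine le_antisymm ((Subgroup.closure_le _).mpr ?_) ?_
    · rintro g ⟨hg, hg2⟩
      rw [← hφ] at hg
      obtain ⟨x, rfl⟩ := hg
      exact ⟨x, show x * x = 1 from hinj (by rw [map_mul, hg2, map_one]), rfl⟩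
    · rintro _ ⟨x, hx, rfl⟩
      exact Subgroup.subset_closure ⟨hφ ▸ ⟨x, rfl⟩, by rw [← map_mul, show x * x = 1 from hx, map_one]⟩
  refine ⟨φ a, φ b, hmap ▸ Subgroup.mem_map_of_mem φ (show a ∈ klein4 from haa),
    hmap ▸ Subgroup.mem_map_of_mem φ (show b ∈ klein4 from hbb), by rw [← map_mul, haa, map_one],
    by rw [← map_mul, hbb, map_one], by rw [← map_mul, hab, map_mul], fun e => ha1 (hinj (by rw [e, map_one])),
    ?_, ?_, ?_, ?_⟩
  · rw [hmap]
    rintro _ ⟨x, hx, rfl⟩
    rcases hel x hx with rfl | rfl | rfl | rfl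
    · exact Or.inl (map_one φ)
    · exact Or.inr (Or.inl rfl)
    · exact Or.inr (Or.inr (Or.inl rfl))
    · exact Or.inr (Or.inr (Or.inr (map_mul φ _ _)))
  · rw [hmap, Nat.card_congr (klein4.equivMapOfInjective φ hinj).toEquiv.symm]
    exact (Nat.card_congr (Equiv.subtypeEquivRight fun x => Iff.rfl)).trans
      (show Nat.card {x : Alt 4 // x * x = 1} = 4 from Nat.card_eq_fintype_card.trans hcard)
  · intro g hg hg3 hg1
    rw [← hφ] at hg
    obtain ⟨x, rfl⟩ := hg
    have := hcyc x (hinj (by rw [map_mul, map_mul, hg3, map_one])) (fun e => hg1 (by rw [e, map_one]))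
    rcases this with ⟨u, v⟩ | ⟨u, v⟩
    · exact Or.inl ⟨by rw [← map_mul, u, map_mul], by rw [← map_mul, v, map_mul, map_mul]⟩
    · refine Or.inr ⟨?_, ?_⟩
      · rw [← map_mul φ x x, ← map_mul, u, map_mul]
      · rw [← map_mul φ x x, ← map_mul, v, map_mul, map_mul]
  · rcases hcyc c hc3 hc1 with ⟨u, v⟩ | ⟨u, v⟩
    · exact ⟨φ c, hφ ▸ ⟨c, rfl⟩, by rw [← map_mul, u, map_mul], by rw [← map_mul, v, map_mul, map_mul]⟩
    · exact ⟨φ (c * c), hφ ▸ ⟨c * c, rfl⟩, by rw [← map_mul, u, map_mul], by rw [← map_mul, v, map_mul, map_mul]⟩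

/-- A joint eigenspace. -/
def wt (A B : Alt r) (x y : F) : Submodule F V := (ρ A).eigenspace x ⊓ (ρ B).eigenspace y

variable {ρ}

theorem mem_wt {A B : Alt r} {x y : F} {v : V} : v ∈ wt ρ A B x y ↔ ρ A v = x • v ∧ ρ B v = y • v := by
  simp [wt, Module.End.mem_eigenspace_iff]

theorem wt_commute {A B g : Alt r} (ha : Commute g A) (hb : Commute g B) {x y : F} {v : V}
    (hv : v ∈ wt ρ A B x y) : ρ g v ∈ wt ρ A B x y := by
  rw [mem_wt] at hv ⊢
  rw [← rho_mul_apply, ← rho_mul_apply, ← ha.eq, ← hb.eq, rho_mul_apply, rho_mul_apply, hv.1, hv.2, map_smul,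
    map_smul]
  exact ⟨rfl, rfl⟩

theorem wt_indep (h2 : (2 : F) ≠ 0) {A B : Alt r} {x y z : V} (hx : x ∈ wt ρ A B 1 (-1))
    (hy : y ∈ wt ρ A B (-1) 1) (hz : z ∈ wt ρ A B (-1) (-1)) (h : x + y + z = 0) : x = 0 ∧ y = 0 ∧ z = 0 := by
  rw [mem_wt] at hx hy hz
  have h1 := congrArg (ρ A) h
  have h3 := congrArg (ρ B) h
  rw [map_add, map_add, map_zero, hx.1, hy.1, hz.1] at h1
  rw [map_add, map_add, map_zero, hx.2, hy.2, hz.2] at h3
  have ex : x = 0 := (smul_eq_zero.mp (show (2 : F) • x = 0 by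
    linear_combination (norm := module) h + h1)).resolve_left h2
  have ey : y = 0 := (smul_eq_zero.mp (show (2 : F) • y = 0 by
    linear_combination (norm := module) h + h3)).resolve_left h2
  exact ⟨ex, ey, by rwa [ex, ey, add_zero, zero_add] at h⟩

/-- The moved space of the four group and its three weight spaces. -/
theorem Quad.weights (h2 : (2 : F) ≠ 0) {X : Finset (Fin r)} {A B : Alt r} (q : Quad X A B) :
    let a := wt ρ A B 1 (-1)
    let b := wt ρ A B (-1) 1
    let c := wt ρ A B (-1) (-1)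
    moved ρ (four X) = a ⊔ b ⊔ c ∧ finrank F b = finrank F a ∧ finrank F c = finrank F a ∧
      finrank F (moved ρ (four X)) = 3 * finrank F a := by
  intro a b c
  have hAA : ∀ v, ρ A (ρ A v) = v := fun v => by rw [← rho_mul_apply, q.aa, rho_one_apply]
  have hBB : ∀ v, ρ B (ρ B v) = v := fun v => by rw [← rho_mul_apply, q.bb, rho_one_apply]
  have hAB : ∀ v, ρ A (ρ B v) = ρ B (ρ A v) := fun v => by rw [← rho_mul_apply, q.ab, rho_mul_apply]
  have hA : ∀ v, ρ A v - v ∈ a ⊔ b ⊔ c := fun v => by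
    obtain ⟨x, hx⟩ : ∃ x, x = ρ A v - v := ⟨_, rfl⟩
    rw [← hx]
    have ex : ρ A x = -x := by rw [hx, map_sub, hAA, neg_sub]
    have e1 : x + ρ B x ∈ b := by
      rw [mem_wt, map_add, map_add, hAB, hBB, ex, map_neg]
      exact ⟨by module, by module⟩
    have e2 : x - ρ B x ∈ c := by
      rw [mem_wt, map_sub, map_sub, hAB, hBB, ex, map_neg]
      exact ⟨by module, by module⟩
    have e : x = (2 : F)⁻¹ • ((x + ρ B x) + (x - ρ B x)) := by
      rw [show (x + ρ B x) + (x - ρ B x) = (2 : F) • x by module, inv_smul_smul₀ h2]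
    rw [e]
    exact (a ⊔ b ⊔ c).smul_mem _ ((a ⊔ b ⊔ c).add_mem (Submodule.mem_sup_left (Submodule.mem_sup_right e1))
      (Submodule.mem_sup_right e2))
  have hB : ∀ v, ρ B v - v ∈ a ⊔ b ⊔ c := fun v => by
    obtain ⟨x, hx⟩ : ∃ x, x = ρ B v - v := ⟨_, rfl⟩
    rw [← hx]
    have ex : ρ B x = -x := by rw [hx, map_sub, hBB, neg_sub]
    have e1 : x + ρ A x ∈ a := by
      rw [mem_wt, map_add, map_add, ← hAB, hAA, ex, map_neg]
      exact ⟨by module, by module⟩
    have e2 : x - ρ A x ∈ c := by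
      rw [mem_wt, map_sub, map_sub, ← hAB, hAA, ex, map_neg]
      exact ⟨by module, by module⟩
    have e : x = (2 : F)⁻¹ • ((x + ρ A x) + (x - ρ A x)) := by
      rw [show (x + ρ A x) + (x - ρ A x) = (2 : F) • x by module, inv_smul_smul₀ h2]
    rw [e]
    exact (a ⊔ b ⊔ c).smul_mem _ ((a ⊔ b ⊔ c).add_mem (Submodule.mem_sup_left (Submodule.mem_sup_left e1))
      (Submodule.mem_sup_right e2))
  have hle : moved ρ (four X) ≤ a ⊔ b ⊔ c := moved_le ρ fun g hg v => by
    rcases q.elems g hg with rfl | rfl | rfl | rfl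
    · rw [rho_one_apply, sub_self]; exact zero_mem _
    · exact hA v
    · exact hB v
    · rw [rho_mul_apply, show ρ A (ρ B v) - v = (ρ A (ρ B v) - ρ B v) + (ρ B v - v) by abel]
      exact add_mem (hA _) (hB _)
  have hge : ∀ g ∈ four X, ∀ v : V, ρ g v = (-1 : F) • v → v ∈ moved ρ (four X) := fun g hg v hv => by
    have := (moved ρ (four X)).smul_mem (-(2 : F)⁻¹) (sub_mem_moved ρ hg v)
    rwa [hv, show (-1 : F) • v - v = -((2 : F) • v) by module, smul_neg, neg_smul, neg_neg, inv_smul_smul₀ h2] at this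
  have heq : moved ρ (four X) = a ⊔ b ⊔ c := le_antisymm hle <| sup_le (sup_le
    (fun v hv => hge B q.bX v (mem_wt.mp hv).2) (fun v hv => hge A q.aX v (mem_wt.mp hv).1))
    (fun v hv => hge A q.aX v (mem_wt.mp hv).1)
  obtain ⟨C, -, hCA, hCB⟩ := q.ex
  have hC1 : ∀ u, ρ B (ρ C u) = ρ C (ρ A u) := fun u => by rw [← rho_mul_apply, ← hCA, rho_mul_apply]
  have hC2 : ∀ u, ρ A (ρ B (ρ C u)) = ρ C (ρ B u) := fun u => by
    rw [← rho_mul_apply, ← rho_mul_apply, ← hCB, rho_mul_apply]
  have hC3 : ∀ u, ρ A (ρ C u) = ρ C (ρ B (ρ A u)) := fun u => by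
    rw [← hC2, hC1, hAA]
  have m1 : ∀ v ∈ a, ρ C v ∈ b := fun v hv => by
    obtain ⟨e1, e2⟩ := mem_wt.mp hv
    exact mem_wt.mpr ⟨by simp [hC3, e1, e2], by simp [hC1, e1, e2]⟩
  have m2 : ∀ v ∈ b, ρ C v ∈ c := fun v hv => by
    obtain ⟨e1, e2⟩ := mem_wt.mp hv
    exact mem_wt.mpr ⟨by simp [hC3, e1, e2], by simp [hC1, e1, e2]⟩
  have m3 : ∀ v ∈ c, ρ C v ∈ a := fun v hv => by
    obtain ⟨e1, e2⟩ := mem_wt.mp hv
    exact mem_wt.mpr ⟨by simp [hC3, e1, e2], by simp [hC1, e1, e2]⟩
  have d1 := finrank_le_of_mapsTo ρ C m1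
  have d2 := finrank_le_of_mapsTo ρ C m2
  have d3 := finrank_le_of_mapsTo ρ C m3
  refine ⟨heq, by omega, by omega, ?_⟩
  have i1 : a ⊓ b = ⊥ := eq_bot_iff.mpr fun v hv =>
    (wt_indep h2 hv.1 ((b.neg_mem hv.2)) (zero_mem _) (by abel)).1
  have i2 : (a ⊔ b) ⊓ c = ⊥ := eq_bot_iff.mpr fun v hv => by
    obtain ⟨x, hx, y, hy, rfl⟩ := Submodule.mem_sup.mp hv.1
    obtain ⟨ex, ey, -⟩ := wt_indep h2 hx hy (c.neg_mem hv.2) (add_neg_cancel (x + y))
    simp [ex, ey]
  rw [heq, finrank_sup_of_inf i2, finrank_sup_of_inf i1]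
  omega

/-- The weight spaces of the four group of a set of four points are stable under the group of the complement. -/
theorem Quad.stable {X : Finset (Fin r)} {A B : Alt r} (q : Quad X A B) {g : Alt r} (hg : g ∈ fixOut Xᶜ) (x y : F)
    {v : V} (hv : v ∈ wt ρ A B x y) : ρ g v ∈ wt ρ A B x y :=
  wt_commute (commute_of_compl (four_le X q.aX) hg).symm (commute_of_compl (four_le X q.bX) hg).symm hv

theorem exists_card_eq (hr : 4 ≤ r) : ∃ X : Finset (Fin r), X.card = 4 := by
  obtain ⟨X, -, hX⟩ := Finset.exists_subset_card_eq (s := (Finset.univ : Finset (Fin r))) (n := 4)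
    (by rw [Finset.card_univ, Fintype.card_fin]; exact hr)
  exact ⟨X, hX⟩

theorem Quad.pos (h2 : (2 : F) ≠ 0) (hρ : Function.Injective ρ) {X : Finset (Fin r)} {A B : Alt r}
    (q : Quad X A B) : 0 < finrank F (wt ρ A B 1 (-1)) := by
  by_contra h
  have e : moved ρ (four X) = ⊥ := Submodule.finrank_eq_zero.mp (by rw [(q.weights h2).2.2.2]; omega)
  refine q.a1 (hρ ?_)
  rw [map_one]
  refine LinearMap.ext fun v => sub_eq_zero.mp ?_
  have := sub_mem_moved ρ q.aX v
  rwa [e, Submodule.mem_bot] at this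

theorem low_five (h2 : (2 : F) ≠ 0) {k : ℕ} (hk : 5 ≤ k) : Low F k 3 := by
  intro W _ _ _ σ ⟨x, hx⟩
  obtain ⟨X, hX⟩ := exists_card_eq (r := k) (by omega)
  obtain ⟨A, B, q⟩ := exists_quad hX
  have := q.pos h2 (injective_of_ne_one hk σ hx)
  have := (q.weights (ρ := σ) h2).2.2.2
  have := Submodule.finrank_le (moved σ (four X))
  omega

theorem low_seven (h2 : (2 : F) ≠ 0) {k : ℕ} (hk : 7 ≤ k) : Low F k 4 := by
  intro W _ _ _ σ ⟨x, hx⟩
  have hinj := injective_of_ne_one (by omega) σ hx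
  obtain ⟨X, hX⟩ := exists_card_eq (r := k) (by omega)
  obtain ⟨A, B, q⟩ := exists_quad hX
  have hpos := q.pos h2 hinj
  obtain ⟨heq, hb, hc, hdim⟩ := q.weights (ρ := σ) h2
  have := Submodule.finrank_le (moved σ (four X))
  by_contra hlt
  have hV : moved σ (four X) = ⊤ := Submodule.eq_top_of_finrank_eq (by omega)
  obtain ⟨T, hTX, hT⟩ := Finset.exists_subset_card_eq (s := Xᶜ) (n := 3)
    (by rw [Finset.card_compl, Fintype.card_fin, hX]; omega)
  obtain ⟨a₁, a₂, a₃, n12, n13, n23, rfl⟩ := Finset.card_eq_three.mp hT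
  let y : Alt k := sw a₁ a₂ a₂ a₃ n12 n23
  have hy : y ∈ fixOut Xᶜ := sw_mem _ _ (hTX (by simp)) (hTX (by simp)) (hTX (by simp)) (hTX (by simp))
  have hy1 : y ≠ 1 := fun e => n12 <| by
    have := congrArg (fun q : Alt k => q.1 a₁) e
    simp only [y, sw_apply, swap_apply_of_ne_of_ne n12 n13, swap_apply_left] at this
    exact this.symm
  obtain ⟨u, hu, hu0⟩ : ∃ u ∈ wt σ A B (1 : F) (-1), u ≠ 0 := by
    refine Submodule.exists_mem_ne_zero_of_ne_bot fun e => ?_
    rw [e, finrank_bot] at hpos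
    omega
  have hline : ∀ (x z : F) (w : W), w ∈ wt σ A B x z → w ≠ 0 → finrank F (wt σ A B x z) = 1 →
      wt σ A B x z = Submodule.span F {w} := fun x z w hw hw0 h1 =>
    (Submodule.eq_of_le_of_finrank_le (Submodule.span_le.mpr (by simpa using hw))
      (by rw [finrank_span_singleton hw0, h1])).symm
  have h1 : finrank F (wt σ A B (1 : F) (-1)) = 1 := by omega
  obtain ⟨l, hl⟩ : ∃ l : F, σ y u = l • u := by
    have := q.stable (ρ := σ) hy (1 : F) (-1) hu
    rw [hline _ _ u hu hu0 h1, Submodule.mem_span_singleton] at this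
    obtain ⟨l, hl⟩ := this
    exact ⟨l, hl.symm⟩
  obtain ⟨C, hC, hCA, hCB⟩ := q.ex
  have hyC : Commute y C := (commute_of_compl hC hy).symm
  have hscal : ∀ w, σ y w = l • w := by
    let N : Submodule F W :=
      { carrier := {w | σ y w = l • w}
        zero_mem' := by simp
        add_mem' := fun {p q} hp hq => by simp only [Set.mem_setOf_eq] at *; rw [map_add, hp, hq, smul_add]
        smul_mem' := fun t p hp => by simp only [Set.mem_setOf_eq] at *; rw [map_smul, hp, smul_comm] }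
    have hCN : ∀ w ∈ N, σ C w ∈ N := fun w (hw : σ y w = l • w) => by
      show σ y (σ C w) = l • σ C w
      rw [← rho_mul_apply, hyC.eq, rho_mul_apply, hw, map_smul]
    have hAA : ∀ w, σ A (σ A w) = w := fun w => by rw [← rho_mul_apply, q.aa, rho_one_apply]
    have hC1 : ∀ w, σ B (σ C w) = σ C (σ A w) := fun w => by rw [← rho_mul_apply, ← hCA, rho_mul_apply]
    have hC2 : ∀ w, σ A (σ B (σ C w)) = σ C (σ B w) := fun w => by
      rw [← rho_mul_apply, ← rho_mul_apply, ← hCB, rho_mul_apply]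
    have hC3 : ∀ w, σ A (σ C w) = σ C (σ B (σ A w)) := fun w => by rw [← hC2, hC1, hAA]
    obtain ⟨e1, e2⟩ := mem_wt.mp hu
    have hu2 : σ C u ∈ wt σ A B (-1 : F) 1 := by
      exact mem_wt.mpr ⟨by simp [hC3, e1, e2], by simp [hC1, e1, e2]⟩
    obtain ⟨f1, f2⟩ := mem_wt.mp hu2
    have hu3 : σ C (σ C u) ∈ wt σ A B (-1 : F) (-1) := by
      exact mem_wt.mpr ⟨by rw [hC3, f1, map_smul, f2]; simp, by rw [hC1, f1]; simp⟩
    have hne : σ C u ≠ 0 := fun e => hu0 (rho_injective σ C (e.trans (map_zero _).symm))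
    have hne' : σ C (σ C u) ≠ 0 := fun e => hne (rho_injective σ C (e.trans (map_zero _).symm))
    have hle : (⊤ : Submodule F W) ≤ N := by
      rw [← hV, heq, hline _ _ u hu hu0 h1, hline _ _ _ hu2 hne (by omega), hline _ _ _ hu3 hne' (by omega)]
      simp only [sup_le_iff, Submodule.span_le, Set.singleton_subset_iff]
      exact ⟨⟨hl, hCN _ hl⟩, hCN _ (hCN _ hl)⟩
    exact fun w => hle (Submodule.mem_top (x := w))
  obtain ⟨g, hg⟩ := exists_not_commute (by omega) (S := Xᶜ) (by rw [compl_compl, hX]; omega) hy hy1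
  refine hg (hinj ?_)
  rw [map_mul, map_mul]
  exact LinearMap.ext fun w => by
    show σ g (σ y w) = σ y (σ g w)
    rw [hscal, hscal, map_smul]

/-- The step of the induction. -/
theorem odd_step (h2 : (2 : F) ≠ 0) (hr : 9 ≤ r) (ih : ∀ k, 9 ≤ k → k < r → LinBound F k)
    (hρ : ∃ x, ρ x ≠ 1) : r ≤ finrank F V + 2 ∧ ((r : F) ≠ 0 → r ≤ finrank F V + 1) := by
  classical
  obtain ⟨x, hx⟩ := hρ
  have hinj := injective_of_ne_one (by omega) ρ hx
  by_cases htriv : ∀ X, X.card = 4 → fixOut Xᶜ ≤ fixer ρ (moved ρ (four X))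
  · obtain ⟨X₀, hX₀⟩ := exists_card_eq (r := r) (by omega)
    obtain ⟨A₀, B₀, q₀⟩ := exists_quad hX₀
    have hpos := q₀.pos h2 hinj
    obtain ⟨-, -, -, hd₀⟩ := q₀.weights (ρ := ρ) h2
    set e := finrank F (wt ρ A₀ B₀ (1 : F) (-1)) with he
    have h4 : (4 : F) ≠ 0 := by
      rw [show (4 : F) = 2 * 2 by norm_num]; exact mul_ne_zero h2 h2
    have hdim : ∀ X, X.card = 4 → finrank F (moved ρ (four X)) = 3 * e := fun X hX => by
      obtain ⟨g, hg⟩ := exists_image (hX₀.trans hX.symm) (by omega)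
      rw [← hd₀]
      refine (finrank_moved_conj ρ g (fun q hq => hg ▸ four_conj X₀ g hq) fun q hq => ?_).symm
      have := four_conj X g⁻¹ hq
      rwa [← hg, Finset.image_image, show ((g⁻¹ : Alt r).1 ∘ g.1) = id from funext fun z => by simp,
        Finset.image_id] at this
    have fr : Frame ρ 4 (3 * e) four :=
      { three := by omega
        le := fun X _ => four_le X
        conj := fun X _ g q hq => four_conj X g hq
        card := fun X hX => by
          obtain ⟨A, B, q⟩ := exists_quad hX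
          rw [q.card]
          exact_mod_cast h4
        triv := htriv
        dim := hdim
        pos := by omega }
    have hb := fr.bound (by omega)
    refine ⟨by omega, fun hr0 => ?_⟩
    by_contra hlt
    have he1 : e = 1 := by omega
    have hn : finrank F V + 2 * 4 ≤ 2 * (3 * e) + r := by omega
    refine hr0 (Tight.cast_eq_zero (ρ := ρ) ⟨?_, ?_, ?_, ?_⟩ (by omega) (by omega))
    · intro T hT
      obtain ⟨y, hy⟩ : Tᶜ.Nonempty := Finset.card_pos.mp (by rw [Finset.card_compl, Fintype.card_fin, hT]; omega)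
      rw [Finset.mem_compl] at hy
      have hX : (insert y T).card = 4 := by rw [Finset.card_insert_of_notMem hy, hT]
      obtain ⟨a₁, a₂, a₃, n12, n13, n23, hTe⟩ := Finset.card_eq_three.mp hT
      let c : Alt r := sw a₁ a₂ a₂ a₃ n12 n23
      have hcT : c ∈ fixOut T := by
        rw [hTe]; exact sw_mem _ _ (by simp) (by simp) (by simp) (by simp)
      have hc1 : c ≠ 1 := fun e => n12 <| by
        have := congrArg (fun q : Alt r => q.1 a₁) e
        simp only [c, sw_apply, swap_apply_of_ne_of_ne n12 n13, swap_apply_left] at this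
        exact this.symm
      obtain ⟨hel, hc3⟩ := fixOut_three hT hcT hc1
      obtain ⟨A, B, q⟩ := exists_quad hX
      obtain ⟨C, hCT, hC1, hC3, hCA, hCB⟩ : ∃ C, C ∈ fixOut T ∧ C ≠ 1 ∧ C * C * C = 1 ∧
          C * A = B * C ∧ C * B = A * B * C := by
        rcases q.cyc c (fixOut_mono (Finset.subset_insert _ _) hcT) hc3 hc1 with ⟨u, v⟩ | ⟨u, v⟩
        · exact ⟨c, hcT, hc1, hc3, u, v⟩
        · refine ⟨c * c, mul_mem hcT hcT, fun e => hc1 ?_, ?_, u, v⟩
          · calc c = c * c * c := by rw [e, one_mul]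
              _ = 1 := hc3
          · calc c * c * (c * c) * (c * c) = (c * c * c) * (c * c * c) := by group
              _ = 1 := by rw [hc3, one_mul]
      obtain ⟨hel', -⟩ := fixOut_three hT hCT hC1
      obtain ⟨hfix, -⟩ := fr.extremal (by omega) hn hX
      obtain ⟨heq, hwb, hwc, hwd⟩ := q.weights (ρ := ρ) h2
      have hwa : finrank F (wt ρ A B (1 : F) (-1)) = 1 := by
        have := hdim _ hX
        omega
      obtain ⟨u, hu, hu0⟩ : ∃ u ∈ wt ρ A B (1 : F) (-1), u ≠ 0 := by
        refine Submodule.exists_mem_ne_zero_of_ne_bot fun h => ?_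
        rw [h, finrank_bot] at hwa
        omega
      have hAA : ∀ w, ρ A (ρ A w) = w := fun w => by rw [← rho_mul_apply, q.aa, rho_one_apply]
      have r1 : ∀ w, ρ B (ρ C w) = ρ C (ρ A w) := fun w => by rw [← rho_mul_apply, ← hCA, rho_mul_apply]
      have r2 : ∀ w, ρ A (ρ B (ρ C w)) = ρ C (ρ B w) := fun w => by
        rw [← rho_mul_apply, ← rho_mul_apply, ← hCB, rho_mul_apply]
      have r3 : ∀ w, ρ A (ρ C w) = ρ C (ρ B (ρ A w)) := fun w => by rw [← r2, r1, hAA]
      obtain ⟨e1, e2⟩ := mem_wt.mp hu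
      have hu2 : ρ C u ∈ wt ρ A B (-1 : F) 1 := by
        exact mem_wt.mpr ⟨by simp [r3, e1, e2], by simp [r1, e1, e2]⟩
      obtain ⟨f1, f2⟩ := mem_wt.mp hu2
      have hu3 : ρ C (ρ C u) ∈ wt ρ A B (-1 : F) (-1) := by
        exact mem_wt.mpr ⟨by rw [r3, f1, map_smul, f2]; simp, by rw [r1, f1]; simp⟩
      have hne : ρ C u ≠ 0 := fun e => hu0 (rho_injective ρ C (e.trans (map_zero _).symm))
      have hne' : ρ C (ρ C u) ≠ 0 := fun e => hne (rho_injective ρ C (e.trans (map_zero _).symm))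
      have hline : ∀ (x z : F) (w : V), w ∈ wt ρ A B x z → w ≠ 0 → finrank F (wt ρ A B x z) = 1 →
          wt ρ A B x z = Submodule.span F {w} := fun x z w hw hw0 h1 =>
        (Submodule.eq_of_le_of_finrank_le (Submodule.span_le.mpr (by simpa using hw))
          (by rw [finrank_span_singleton hw0, h1])).symm
      have hCCC : ρ C (ρ C (ρ C u)) = u := by
        rw [← rho_mul_apply, ← rho_mul_apply, hC3, rho_one_apply]
      let N : Submodule F V := Submodule.span F (Set.range ![ρ C u - u, ρ C (ρ C u) - ρ C u])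
      have hN : finrank F N = 2 := by
        have li : LinearIndependent F ![ρ C u - u, ρ C (ρ C u) - ρ C u] := by
          rw [LinearIndependent.pair_iff]
          intro s t hst
          obtain ⟨z1, -, z3⟩ := wt_indep h2 (Submodule.smul_mem _ (-s) hu) (Submodule.smul_mem _ (s - t) hu2)
            (Submodule.smul_mem _ t hu3) (by linear_combination (norm := module) hst)
          exact ⟨neg_eq_zero.mp ((smul_eq_zero.mp z1).resolve_right hu0), (smul_eq_zero.mp z3).resolve_right hne'⟩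
        rw [finrank_span_eq_card li, Fintype.card_fin]
      have n1 : ρ C u - u ∈ N := Submodule.subset_span ⟨0, rfl⟩
      have n2 : ρ C (ρ C u) - ρ C u ∈ N := Submodule.subset_span ⟨1, rfl⟩
      have hCN : C ∈ trivQuot ρ N := by
        intro v
        have hv := (isCompl_fixed_moved ρ (four (insert y T)) (fr.card _ hX)).sup_eq_top ▸ Submodule.mem_top (x := v)
        rw [heq, hline _ _ u hu hu0 hwa, hline _ _ _ hu2 hne (by omega), hline _ _ _ hu3 hne' (by omega)] at hv
        obtain ⟨f, hf, w, hw, rfl⟩ := Submodule.mem_sup.mp hv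
        obtain ⟨w', hw', z, hz, rfl⟩ := Submodule.mem_sup.mp hw
        obtain ⟨a', ha', b', hb', rfl⟩ := Submodule.mem_sup.mp hw'
        rw [Submodule.mem_span_singleton] at ha' hb' hz
        obtain ⟨α, rfl⟩ := ha'
        obtain ⟨β, rfl⟩ := hb'
        obtain ⟨γ, rfl⟩ := hz
        rw [show ρ C (f + (α • u + β • ρ C u + γ • ρ C (ρ C u))) - (f + (α • u + β • ρ C u + γ • ρ C (ρ C u)))
            = (α - γ) • (ρ C u - u) + (β - γ) • (ρ C (ρ C u) - ρ C u) by
          simp only [map_add, map_smul, hfix (fixOut_mono (Finset.subset_insert _ _) hCT) f hf, hCCC]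
          module]
        exact add_mem (N.smul_mem _ n1) (N.smul_mem _ n2)
      rw [show moved ρ (fixOut T) = N from ?_, hN]
      refine le_antisymm ((moved_le_iff ρ).mpr fun g hg => ?_) (Submodule.span_le.mpr ?_)
      · rcases hel' g hg with rfl | rfl | rfl
        · exact one_mem _
        · exact hCN
        · exact mul_mem hCN hCN
      · rintro _ ⟨i, rfl⟩
        fin_cases i
        · exact sub_mem_moved ρ hCT u
        · exact sub_mem_moved ρ hCT _
    · intro X hX
      rw [(fr.extremal (by omega) hn hX).2, hdim X hX, he1]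
    · intro T hT
      have hc : Tᶜ.card = r - 3 := by rw [Finset.card_compl, Fintype.card_fin, hT]
      obtain ⟨y, hy, y', hy', hyy⟩ := Finset.one_lt_card.mp (show 1 < Tᶜ.card by omega)
      rw [Finset.mem_compl] at hy hy'
      have hsub : ∀ z, z ∉ T → fixOut (insert z T)ᶜ ≤ fixer ρ (moved ρ (fixOut T)) := fun z hz g hg v hv => by
        have hX : (insert z T).card = 4 := by rw [Finset.card_insert_of_notMem hz, hT]
        refine htriv _ hX hg v ?_
        rw [← (fr.extremal (by omega) hn hX).2]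
        exact moved_mono ρ (fixOut_mono (Finset.subset_insert _ _)) hv
      obtain ⟨o, ho⟩ : ((insert y T)ᶜ ∩ (insert y' T)ᶜ).Nonempty := by
        rw [← Finset.compl_union, ← Finset.card_pos, Finset.card_compl, Fintype.card_fin]
        have := Finset.card_union_le (insert y T) (insert y' T)
        rw [Finset.card_insert_of_notMem hy, Finset.card_insert_of_notMem hy', hT] at this
        omega
      rw [Finset.mem_inter] at ho
      refine le_trans (fixOut_mono ?_) (join_le
        (by rw [Finset.card_compl, Fintype.card_fin, Finset.card_insert_of_notMem hy, hT]; omega)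
        (by rw [Finset.card_compl, Fintype.card_fin, Finset.card_insert_of_notMem hy', hT]; omega)
        ho.1 ho.2 (hsub y hy) (hsub y' hy'))
      intro z hz
      simp only [Finset.mem_union, Finset.mem_compl, Finset.mem_insert] at hz ⊢
      by_cases hzy : z = y
      · right; subst hzy; tauto
      · left; tauto
    · intro T hT v hv hall
      obtain ⟨y, hy⟩ : Tᶜ.Nonempty := Finset.card_pos.mp (by rw [Finset.card_compl, Fintype.card_fin, hT]; omega)
      rw [Finset.mem_compl] at hy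
      have hX : (insert y T).card = 4 := by rw [Finset.card_insert_of_notMem hy, hT]
      have hv' : v ∈ moved ρ (four (insert y T)) := by
        rw [← (fr.extremal (by omega) hn hX).2]
        exact moved_mono ρ (fixOut_mono (Finset.subset_insert _ _)) hv
      exact (Submodule.mem_bot F).mp
        ((isCompl_fixed_moved ρ _ (fr.card _ hX)).disjoint.le_bot ⟨fun g _ => hall g, hv'⟩)
  · simp only [not_forall] at htriv
    obtain ⟨X, hX, hnle⟩ := htriv
    obtain ⟨g, hg, hgne⟩ := SetLike.not_le_iff_exists.mp hnle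
    obtain ⟨A, B, q⟩ := exists_quad hX
    obtain ⟨heq, hb, hc, hd⟩ := q.weights (ρ := ρ) h2
    have hc4 : Xᶜ.card = r - 4 := by rw [Finset.card_compl, Fintype.card_fin, hX]
    obtain ⟨xx, zz, hdimN, hNe⟩ : ∃ xx zz : F, finrank F (wt ρ A B xx zz) = finrank F (wt ρ A B (1 : F) (-1)) ∧
        ∃ g ∈ fixOut Xᶜ, ∃ v ∈ wt ρ A B xx zz, ρ g v ≠ v := by
      by_contra h
      simp only [not_exists, not_and, not_not] at h
      refine hgne fun v hv => ?_
      rw [heq] at hv
      obtain ⟨w, hw, z, hz, rfl⟩ := Submodule.mem_sup.mp hv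
      obtain ⟨a, ha, b, hb', rfl⟩ := Submodule.mem_sup.mp hw
      rw [map_add, map_add, h 1 (-1) rfl g hg a ha, h (-1) 1 hb g hg b hb', h (-1) (-1) hc g hg z hz]
    have hlow : ∀ b : ℕ, Low F (r - 4) b → 3 * b ≤ finrank F V := fun b hlow => by
      have := bound_fixOut ρ hlow hc4 _ (fun g hg v hv => q.stable hg xx zz hv) hNe
      have := Submodule.finrank_le (moved ρ (four X))
      omega
    by_cases h10 : r ≤ 10
    · have := hlow 3 (low_five h2 (by omega))
      omega
    by_cases h12 : r ≤ 12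
    · have := hlow 4 (low_seven h2 (by omega))
      omega
    have hlo : Low F (r - 4) (r - 6) := fun W _ _ _ σ hσ => by
      have := (ih (r - 4) (by omega) (by omega) W σ hσ).1
      omega
    have := hlow _ hlo
    omega

end CfsgLib.AltLinear
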