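import Mathlib

/-!
Subgroups of an alternating group moving only the points of a given finite set.
-/

set_option autoImplicit false

namespace CfsgLib.AltLinear

open Equiv

variable {r : ℕ}

/-- The alternating group of degree `r`. -/
abbrev Alt (r : ℕ) := ↥(alternatingGroup (Fin r))

/-- The even permutations fixing each point outside `S`. -/
def fixOut (S : Finset (Fin r)) : Subgroup (Alt r) where
  carrier := {g | ∀ x, x ∉ S → g.1 x = x}
  one_mem' := fun x _ => rfl
  mul_mem' := fun {g h} hg hh x hx => by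
    show g.1 (h.1 x) = x
    rw [hh x hx, hg x hx]
  inv_mem' := fun {g} hg x hx => by
    show g.1⁻¹ x = x
    rw [Perm.inv_eq_iff_eq, hg x hx]

theorem mem_fixOut {S : Finset (Fin r)} {g : Alt r} : g ∈ fixOut S ↔ ∀ x, x ∉ S → g.1 x = x := Iff.rfl

theorem fixOut_mono {S T : Finset (Fin r)} (h : S ⊆ T) : fixOut S ≤ fixOut T :=
  fun _ hg x hx => hg x fun hS => hx (h hS)

theorem fixOut_univ : fixOut (Finset.univ : Finset (Fin r)) = ⊤ :=
  top_le_iff.mp fun _ _ x hx => absurd (Finset.mem_univ x) hx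

theorem fixOut_apply_mem {S : Finset (Fin r)} {g : Alt r} (hg : g ∈ fixOut S) {x : Fin r} (hx : x ∈ S) :
    g.1 x ∈ S := by
  by_contra h
  exact h (by rw [g.1.injective (hg _ h)]; exact hx)

theorem commute_of_disjoint {S T : Finset (Fin r)} (h : Disjoint S T) {g k : Alt r} (hg : g ∈ fixOut S)
    (hk : k ∈ fixOut T) : Commute g k := by
  refine Subtype.ext (Perm.Disjoint.commute (f := g.1) (g := k.1) fun x => ?_).eq
  by_cases hx : x ∈ S
  · exact Or.inr (hk x (Finset.disjoint_left.mp h hx))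
  · exact Or.inl (hg x hx)

theorem commute_of_compl {S : Finset (Fin r)} {g k : Alt r} (hg : g ∈ fixOut S) (hk : k ∈ fixOut Sᶜ) : Commute g k :=
  commute_of_disjoint disjoint_compl_right hg hk

theorem conj_mem {S : Finset (Fin r)} (g : Alt r) {k : Alt r} (hk : k ∈ fixOut S) :
    g * k * g⁻¹ ∈ fixOut (S.image g.1) := by
  intro x hx
  show g.1 (k.1 (g.1⁻¹ x)) = x
  rw [hk (g.1⁻¹ x) fun h => hx (Finset.mem_image.mpr ⟨_, h, by simp⟩)]
  simp

theorem image_compl (g : Alt r) (S : Finset (Fin r)) : Sᶜ.image g.1 = (S.image g.1)ᶜ := by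
  ext x
  simp only [Finset.mem_image, Finset.mem_compl]
  constructor
  · rintro ⟨y, hy, rfl⟩ ⟨z, hz, e⟩
    exact hy (g.1.injective e ▸ hz)
  · intro h
    exact ⟨g.1⁻¹ x, fun hh => h ⟨_, hh, by simp⟩, by simp⟩

theorem image_image_inv (g : Alt r) (S : Finset (Fin r)) : (S.image (g⁻¹).1).image g.1 = S := by
  ext x
  simp

theorem card_image_alt (g : Alt r) (S : Finset (Fin r)) : (S.image g.1).card = S.card :=
  Finset.card_image_of_injective _ g.1.injective

/-- An even permutation extending a partial injection with two points to spare. -/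
theorem exists_move {k : ℕ} (hk : k + 2 ≤ r) {f g : Fin k → Fin r} (hf : Function.Injective f)
    (hg : Function.Injective g) : ∃ h : Alt r, ∀ i, h.1 (f i) = g i := by
  classical
  let e : {x // ∃ i, f i = x} ≃ {x // ∃ i, g i = x} :=
    ((Equiv.ofInjective f hf).symm.trans (Equiv.ofInjective g hg))
  let σ : Perm (Fin r) := e.extendSubtype
  have hσ : ∀ i, σ (f i) = g i := fun i => by
    show e.extendSubtype (f i) = g i
    rw [Equiv.extendSubtype_apply_of_mem e (f i) ⟨i, rfl⟩]
    show ((Equiv.ofInjective g hg) ((Equiv.ofInjective f hf).symm ⟨f i, i, rfl⟩) : Fin r) = g i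
    rw [Equiv.ofInjective_symm_apply]
    rfl
  rcases Int.units_eq_one_or (Perm.sign σ) with h | h
  · exact ⟨⟨σ, h⟩, hσ⟩
  · obtain ⟨x, hx, y, hy, hxy⟩ : ∃ x ∈ (Finset.univ.image f)ᶜ, ∃ y ∈ (Finset.univ.image f)ᶜ, x ≠ y := by
      refine Finset.one_lt_card.mp ?_
      rw [Finset.card_compl, Finset.card_image_of_injective _ hf, Finset.card_univ, Fintype.card_fin, Fintype.card_fin]
      omega
    simp only [Finset.mem_compl, Finset.mem_image, Finset.mem_univ, true_and, not_exists] at hx hy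
    refine ⟨⟨σ * swap x y, ?_⟩, fun i => ?_⟩
    · rw [Perm.mem_alternatingGroup, map_mul, h, Perm.sign_swap hxy]; rfl
    · show σ (swap x y (f i)) = g i
      rw [swap_apply_of_ne_of_ne (hx i) (hy i), hσ]

theorem exists_image {S T : Finset (Fin r)} (h : S.card = T.card) (hr : S.card + 2 ≤ r) :
    ∃ g : Alt r, S.image g.1 = T := by
  obtain ⟨g, hg⟩ := exists_move hr (f := fun i => ((S.equivFin.symm i : ↥S) : Fin r))
    (g := fun i => ((T.equivFin.symm (Fin.cast h i) : ↥T) : Fin r))
    (Subtype.val_injective.comp S.equivFin.symm.injective)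
    (Subtype.val_injective.comp (T.equivFin.symm.injective.comp (Fin.cast_injective h)))
  refine ⟨g, Finset.eq_of_subset_of_card_le ?_ (by rw [card_image_alt, h])⟩
  intro x hx
  obtain ⟨y, hy, rfl⟩ := Finset.mem_image.mp hx
  have := hg (S.equivFin ⟨y, hy⟩)
  simp only [Equiv.symm_apply_apply] at this
  rw [this]
  exact Subtype.coe_prop _

/-- The product of two transpositions. -/
def sw (a b c d : Fin r) (h₁ : a ≠ b) (h₂ : c ≠ d) : Alt r :=
  ⟨swap a b * swap c d, by rw [Perm.mem_alternatingGroup, map_mul, Perm.sign_swap h₁, Perm.sign_swap h₂]; rfl⟩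

theorem sw_apply (a b c d : Fin r) (h₁ : a ≠ b) (h₂ : c ≠ d) (x : Fin r) :
    (sw a b c d h₁ h₂).1 x = swap a b (swap c d x) := rfl

theorem sw_mem {S : Finset (Fin r)} {a b c d : Fin r} (h₁ : a ≠ b) (h₂ : c ≠ d) (ha : a ∈ S) (hb : b ∈ S)
    (hc : c ∈ S) (hd : d ∈ S) : sw a b c d h₁ h₂ ∈ fixOut S := fun x hx => by
  rw [sw_apply, swap_apply_of_ne_of_ne (fun e : x = c => hx (e ▸ hc)) (fun e : x = d => hx (e ▸ hd)),
    swap_apply_of_ne_of_ne (fun e : x = a => hx (e ▸ ha)) (fun e : x = b => hx (e ▸ hb))]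

/-- Adding one point to a supported subgroup. -/
theorem insert_le {K : Subgroup (Alt r)} {S : Finset (Fin r)} (hS3 : 3 ≤ S.card) {t : Fin r} (ht : t ∉ S)
    (hK : fixOut S ≤ K) {k₀ : Alt r} (hk : k₀ ∈ K) (hk' : k₀ ∈ fixOut (insert t S)) {a : Fin r} (ha : a ∈ S)
    (hat : k₀.1 a = t) : fixOut (insert t S) ≤ K := by
  intro g hg
  have key : ∀ q : Alt r, q ∈ fixOut (insert t S) → q.1 t = t → q ∈ K := fun q hq hqt =>
    hK fun x hx => by
      by_cases e : x = t
      · rw [e, hqt]
      · exact hq x (by simp [e, hx])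
  by_cases hgt : g.1 t = t
  · exact key g hg hgt
  have hb : g.1 t ∈ S := (Finset.mem_insert.mp (fixOut_apply_mem hg (Finset.mem_insert_self _ _))).resolve_left hgt
  obtain ⟨q, hq, hqb⟩ : ∃ q ∈ fixOut S, q.1 (g.1 t) = a := by
    by_cases e : g.1 t = a
    · exact ⟨1, one_mem _, e⟩
    obtain ⟨c, hc, hca, hcb⟩ : ∃ c ∈ S, c ≠ a ∧ c ≠ g.1 t := by
      obtain ⟨c, hc⟩ : ((S.erase a).erase (g.1 t)).Nonempty := by
        rw [← Finset.card_pos, Finset.card_erase_of_mem (Finset.mem_erase.mpr ⟨e, hb⟩),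
          Finset.card_erase_of_mem ha]
        omega
      simp only [Finset.mem_erase] at hc
      exact ⟨c, hc.2.2, hc.2.1, hc.1⟩
    refine ⟨sw (g.1 t) c (g.1 t) a (Ne.symm hcb) e, sw_mem _ _ hb hc hb ha, ?_⟩
    rw [sw_apply, swap_apply_left, swap_apply_of_ne_of_ne (Ne.symm e) (Ne.symm hca)]
  have hm : k₀ * q * g ∈ K := key _ (mul_mem (mul_mem hk' (fixOut_mono (Finset.subset_insert _ _) hq)) hg) (by
    show k₀.1 (q.1 (g.1 t)) = t
    rw [hqb, hat])
  exact (Subgroup.mul_mem_cancel_left K (mul_mem hk (hK hq))).mp hm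

/-- The commutator of two three-cycles with one common point. -/
theorem comm_cycles {o a b t t' : Fin r} (oa : o ≠ a) (ob : o ≠ b) (ot : o ≠ t) (ot' : o ≠ t') (ab : a ≠ b)
    (at_ : a ≠ t) (at' : a ≠ t') (bt : b ≠ t) (bt' : b ≠ t') (tt' : t ≠ t') :
    let f : Fin r → Fin r := fun z =>
      swap o b (swap o a (swap o t' (swap o t (swap o a (swap o b (swap o t (swap o t' z)))))))
    f a = t ∧ ∀ z, z ≠ o → z ≠ a → z ≠ t → f z = z := by
  intro f
  refine ⟨?_, fun z zo za zt => ?_⟩
  · show swap o b (swap o a (swap o t' (swap o t (swap o a (swap o b (swap o t (swap o t' a))))))) = t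
    rw [swap_apply_of_ne_of_ne oa.symm at', swap_apply_of_ne_of_ne oa.symm at_, swap_apply_of_ne_of_ne oa.symm ab,
      swap_apply_right, swap_apply_left, swap_apply_of_ne_of_ne ot.symm tt', swap_apply_of_ne_of_ne ot.symm at_.symm,
      swap_apply_of_ne_of_ne ot.symm bt.symm]
  · show swap o b (swap o a (swap o t' (swap o t (swap o a (swap o b (swap o t (swap o t' z))))))) = z
    by_cases zb : z = b
    · subst zb
      rw [swap_apply_of_ne_of_ne zo bt', swap_apply_of_ne_of_ne zo bt, swap_apply_right, swap_apply_left,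
        swap_apply_of_ne_of_ne oa.symm at_, swap_apply_of_ne_of_ne oa.symm at', swap_apply_right, swap_apply_left]
    by_cases zt' : z = t'
    · subst zt'
      rw [swap_apply_right, swap_apply_left, swap_apply_of_ne_of_ne ot.symm bt.symm,
        swap_apply_of_ne_of_ne ot.symm at_.symm, swap_apply_right, swap_apply_left,
        swap_apply_of_ne_of_ne zo at'.symm, swap_apply_of_ne_of_ne zo bt'.symm]
    rw [swap_apply_of_ne_of_ne zo zt', swap_apply_of_ne_of_ne zo zt, swap_apply_of_ne_of_ne zo zb,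
      swap_apply_of_ne_of_ne zo za, swap_apply_of_ne_of_ne zo zt, swap_apply_of_ne_of_ne zo zt',
      swap_apply_of_ne_of_ne zo za, swap_apply_of_ne_of_ne zo zb]

/-- Supported subgroups on overlapping sets generate the one on the union. -/
theorem join_le {K : Subgroup (Alt r)} {S T : Finset (Fin r)} (hS3 : 3 ≤ S.card) (hT3 : 3 ≤ T.card) {o : Fin r}
    (hoS : o ∈ S) (hoT : o ∈ T) (hS : fixOut S ≤ K) (hT : fixOut T ≤ K) : fixOut (S ∪ T) ≤ K := by
  suffices h : ∀ U, U ⊆ T → fixOut (S ∪ U) ≤ K from h T le_rfl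
  intro U
  induction U using Finset.induction_on with
  | empty => intro _; rwa [Finset.union_empty]
  | @insert t U _ ih =>
    intro hU
    have htT : t ∈ T := hU (Finset.mem_insert_self _ _)
    have hV := ih fun x hx => hU (Finset.mem_insert_of_mem hx)
    rw [Finset.union_insert]
    by_cases ht : t ∈ S ∪ U
    · rwa [Finset.insert_eq_of_mem ht]
    have hV3 : 3 ≤ (S ∪ U).card := hS3.trans (Finset.card_le_card Finset.subset_union_left)
    have hoV : o ∈ S ∪ U := Finset.mem_union_left _ hoS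
    have hto : t ≠ o := fun e => ht (e ▸ hoV)
    obtain ⟨t', ht'⟩ : ((T.erase o).erase t).Nonempty := by
      rw [← Finset.card_pos, Finset.card_erase_of_mem (Finset.mem_erase.mpr ⟨hto, htT⟩),
        Finset.card_erase_of_mem hoT]
      omega
    simp only [Finset.mem_erase] at ht'
    obtain ⟨ht't, ht'o, ht'T⟩ := ht'
    by_cases h' : t' ∈ S ∪ U
    · refine insert_le hV3 ht hV (hT (sw_mem (Ne.symm hto) (Ne.symm ht'o) hoT htT hoT ht'T))
        (sw_mem _ _ ?_ (Finset.mem_insert_self _ _) ?_ ?_) h' ?_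
      · exact Finset.mem_insert_of_mem hoV
      · exact Finset.mem_insert_of_mem hoV
      · exact Finset.mem_insert_of_mem h'
      · rw [sw_apply, swap_apply_right, swap_apply_left]
    obtain ⟨a, ha, b, hb, hab⟩ : ∃ a ∈ S.erase o, ∃ b ∈ S.erase o, a ≠ b := by
      refine Finset.one_lt_card.mp ?_
      rw [Finset.card_erase_of_mem hoS]; omega
    simp only [Finset.mem_erase] at ha hb
    have haV : a ∈ S ∪ U := Finset.mem_union_left _ ha.2
    have hbV : b ∈ S ∪ U := Finset.mem_union_left _ hb.2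
    have hat : a ≠ t := fun e => ht (e ▸ haV)
    have hbt : b ≠ t := fun e => ht (e ▸ hbV)
    have hat' : a ≠ t' := fun e => h' (e ▸ haV)
    have hbt' : b ≠ t' := fun e => h' (e ▸ hbV)
    let x : Alt r := sw o b o a (Ne.symm hb.1) (Ne.symm ha.1)
    let y : Alt r := sw o t' o t (Ne.symm ht'o) (Ne.symm hto)
    have hx : x ∈ K := hV (sw_mem _ _ hoV hbV hoV haV)
    have hy : y ∈ K := hT (sw_mem _ _ hoT ht'T hoT htT)
    have hval : ∀ z, (x * y * x⁻¹ * y⁻¹).1 z =
        swap o b (swap o a (swap o t' (swap o t (swap o a (swap o b (swap o t (swap o t' z))))))) := by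
      intro z
      simp only [Subgroup.coe_mul, Subgroup.coe_inv, x, y, sw, mul_inv_rev, swap_inv, Perm.mul_apply]
    obtain ⟨hca, hcz⟩ := comm_cycles (Ne.symm ha.1) (Ne.symm hb.1) (Ne.symm hto) (Ne.symm ht'o) hab hat hat' hbt hbt'
      (Ne.symm ht't)
    refine insert_le hV3 ht hV (mul_mem (mul_mem (mul_mem hx hy) (inv_mem hx)) (inv_mem hy)) ?_ haV ?_
    · intro z hz
      rw [hval]
      simp only [Finset.mem_insert, not_or] at hz
      exact hcz z (fun e => hz.2 (e ▸ hoV)) (fun e => hz.2 (e ▸ haV)) hz.1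
    · rw [hval]
      exact hca

theorem top_le_of_join {K : Subgroup (Alt r)} {S T : Finset (Fin r)} (hS3 : 3 ≤ S.card) (hT3 : 3 ≤ T.card)
    {o : Fin r} (hoS : o ∈ S) (hoT : o ∈ T) (hU : ∀ x, x ∈ S ∨ x ∈ T) (hS : fixOut S ≤ K) (hT : fixOut T ≤ K)
    (g : Alt r) : g ∈ K :=
  join_le hS3 hT3 hoS hoT hS hT fun x hx => absurd (Finset.mem_union.mpr (hU x)) hx

/-- The supported subgroup as an alternating group. -/
theorem exists_emb (S : Finset (Fin r)) {k : ℕ} (hk : S.card = k) :
    ∃ φ : Alt k →* Alt r, Function.Injective φ ∧ φ.range = fixOut S := by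
  classical
  let e : Fin k ≃ {x // x ∈ S} := (S.equivFin.trans (finCongr hk)).symm
  let ψ : Perm (Fin k) →* Perm (Fin r) := Perm.ofSubtype.comp e.permCongrHom.toMonoidHom
  have hs : ∀ σ, Perm.sign (ψ σ) = Perm.sign σ := fun σ => by
    show Perm.sign (Perm.ofSubtype (e.permCongr σ)) = _
    rw [Perm.sign_ofSubtype, Perm.sign_permCongr]
  let φ : Alt k →* Alt r := (ψ.comp (alternatingGroup (Fin k)).subtype).codRestrict _ fun σ => by
    rw [Perm.mem_alternatingGroup]
    exact (hs σ.1).trans σ.2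
  refine ⟨φ, fun a b h => Subtype.ext ((Perm.ofSubtype_injective.comp e.permCongrHom.injective) (congrArg Subtype.val h)), ?_⟩
  ext g
  constructor
  · rintro ⟨σ, rfl⟩ x hx
    exact Perm.ofSubtype_apply_of_not_mem _ hx
  · intro hg
    have hinv : ∀ x, g.1 x ∈ S ↔ x ∈ S := fun x => by
      refine ⟨fun h => ?_, fixOut_apply_mem hg⟩
      by_contra hx
      exact hx (hg x hx ▸ h)
    have hgf : Perm.ofSubtype (g.1.subtypePerm hinv) = g.1 :=
      Perm.ofSubtype_subtypePerm hinv fun x hx => by_contra fun h => hx (hg x h)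
    let σ : Perm (Fin k) := e.symm.permCongr (g.1.subtypePerm hinv)
    have hσ : ψ σ = g.1 := by
      show Perm.ofSubtype (e.permCongr (e.symm.permCongr (g.1.subtypePerm hinv))) = _
      rw [show e.permCongr (e.symm.permCongr (g.1.subtypePerm hinv)) = g.1.subtypePerm hinv from Equiv.ext fun x => by simp, hgf]
    refine ⟨⟨σ, ?_⟩, Subtype.ext hσ⟩
    rw [Perm.mem_alternatingGroup, ← hs σ, hσ]
    exact g.2

theorem alt_simple (hr : 5 ≤ r) : IsSimpleGroup (Alt r) :=
  alternatingGroup.isSimpleGroup (by rw [Nat.card_fin]; exact hr)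

theorem injective_of_ne_one {M : Type*} [Monoid M] (hr : 5 ≤ r) (f : Alt r →* M) {g : Alt r} (hg : f g ≠ 1) :
    Function.Injective f := by
  haveI := alt_simple hr
  let f' := f.toHomUnits
  have hker : f'.ker = ⊥ := (IsSimpleGroup.eq_bot_or_eq_top_of_normal f'.ker inferInstance).resolve_right fun h =>
    hg (by
      have : g ∈ f'.ker := h ▸ Subgroup.mem_top g
      exact congrArg Units.val (MonoidHom.mem_ker.mp this))
  exact fun a b e => (MonoidHom.ker_eq_bot_iff f').mp hker (Units.ext e)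

end CfsgLib.AltLinear
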