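import Cfsg.Agent.Lib.AltLinear.SpinTen
import Cfsg.Agent.Lib.AltLinear.Perm

/-!
The degrees of the faithful modules of a perfect double cover of an alternating group in which the central
involution is `-1`.
-/

set_option autoImplicit false
set_option linter.unusedSectionVars false

namespace CfsgLib.AltLinear.Spin

open Module Equiv CfsgAltCover.Anti

variable {r : ℕ} {F : Type} [Field F] {V : Type} [AddCommGroup V] [Module F V] [FiniteDimensional F V]
  {G : Type} [Group G] [Finite G] {π : G →* Perm (Fin r)} {ρ : G →* Module.End F V}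

/-- The bound for spin modules, granted the bound for smaller groups and dimensions. -/
theorem spin_bound [IsAlgClosed F] (h : IsSpin π ρ) (hfaith : ∀ g, (∀ v, ρ g v = v) → π g = 1)
    (h2 : (2 : F) ≠ 0) (hr : 9 ≤ r)
    (ih : 18 ≤ r → ∀ (H : Type) [Group H] [Finite H] (π' : H →* Alt (r - 8)), Function.Surjective π' →
      ∀ (W : Type) [AddCommGroup W] [Module F W] [FiniteDimensional F W] (σ : H →* Module.End F W),
        (∀ g, (∀ v, σ g v = v) → π' g = 1) → finrank F W < finrank F V → r - 8 ≤ finrank F W + 2) :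
    r ≤ finrank F V + 2 ∧ ((r : F) ≠ 0 → r ≤ finrank F V + 1) := by
  classical
  have hcov := h.cover
  obtain ⟨A₁, A₂, A₃, g₁, g₂, g₃, σ, σ', e⟩ := exists_eight h (by omega)
  set E := wt3 ρ A₁ A₂ A₃ σ 1 1 with hE
  have hn : finrank F V = 8 * finrank F E := by
    have := e.finrank_eq h2 ⊤ fun _ _ _ _ => Submodule.mem_top
    rwa [finrank_top, top_inf_eq] at this
  have hpos : 0 < finrank F E := by
    by_contra h0
    haveI : Subsingleton V := Module.finrank_zero_iff.mp (by omega : finrank F V = 0)
    have h4 : 4 ≤ r := by omega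
    let p : Fin 4 → Fin r := Fin.castLE h4
    obtain ⟨x, hx⟩ := hcov.onto (swap (p 0) (p 1) * swap (p 2) (p 3))
      (by rw [map_mul, Perm.sign_swap ((Fin.castLE_injective h4).ne (by decide)),
        Perm.sign_swap ((Fin.castLE_injective h4).ne (by decide))]; rfl)
    have h1 := hfaith x fun v => Subsingleton.elim _ _
    rw [hx] at h1
    have := congrArg (fun q : Perm (Fin r) => q (p 0)) h1
    simp only [Perm.mul_apply, Perm.one_apply, p] at this
    rw [(Fin.castLE_injective h4).swap_apply, (Fin.castLE_injective h4).swap_apply] at this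
    exact absurd (Fin.castLE_injective h4 this) (by decide)
  have six : ∀ {x : G}, x ∈ ([A₁, A₂, A₃, g₁, g₂, g₃] : List G) → ∀ {y : G}, (∀ z : Fin r, z.1 < 8 → π y z = z) →
      Commute x y := fun {x} hx {y} hy => commute_apart hcov (hcov.even y) fun z hz => e.supp x hx z (by
    by_contra hlt
    exact hz (hy z (by omega)))
  have stableE : ∀ y : G, (∀ z : Fin r, z.1 < 8 → π y z = z) → ∀ v ∈ E, ρ y v ∈ E := fun y hy v hv => by
    obtain ⟨a1, a2, a3⟩ := mem_wt3.mp hv
    refine mem_wt3.mpr ⟨?_, ?_, ?_⟩
    · rw [comm_apply (six (by simp) hy), a1, map_smul]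
    · rw [comm_apply (six (by simp) hy), a2, map_smul]
    · rw [comm_apply (six (by simp) hy), a3, map_smul]
  by_cases h9 : r = 9
  · exact ⟨by omega, fun _ => by omega⟩
  by_cases h10 : r = 10
  · subst h10
    refine ⟨by omega, fun hr0 => ?_⟩
    have h5 : (5 : F) ≠ 0 := fun h5 => hr0 (by rw [show ((10 : ℕ) : F) = 2 * 5 by norm_num, h5, mul_zero])
    have := ten_bound h hfaith h2 h5
    omega
  have ha2 : 2 ≤ finrank F E := by
    by_contra hlt
    have h1 : finrank F E = 1 := by omega
    let p : Fin 11 → Fin r := Fin.castLE (by omega)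
    have hp : Function.Injective p := Fin.castLE_injective _
    obtain ⟨c, hc⟩ := hcov.onto (swap (p 8) (p 9) * swap (p 9) (p 10))
      (by rw [map_mul, Perm.sign_swap (hp.ne (by decide)), Perm.sign_swap (hp.ne (by decide))]; rfl)
    have hcfix : ∀ z : Fin r, z.1 < 8 → π c z = z := fun z hz => by
      have ne : ∀ i : Fin 11, 8 ≤ i.1 → z ≠ p i := fun i hi e => by
        have := congrArg Fin.val e
        simp [p] at this
        omega
      rw [hc, Perm.mul_apply, swap_apply_of_ne_of_ne (ne 9 (by decide)) (ne 10 (by decide)),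
        swap_apply_of_ne_of_ne (ne 8 (by decide)) (ne 9 (by decide))]
    obtain ⟨u, hu, hu0⟩ : ∃ u ∈ E, u ≠ 0 := by
      refine Submodule.exists_mem_ne_zero_of_ne_bot fun hb => ?_
      rw [hb, finrank_bot] at h1
      omega
    have hline : E = Submodule.span F {u} :=
      (Submodule.eq_of_le_of_finrank_le (Submodule.span_le.mpr (by simpa using hu))
        (by rw [finrank_span_singleton hu0, h1])).symm
    obtain ⟨l, hl⟩ : ∃ l : F, ρ c u = l • u := by
      have hm := stableE c hcfix u hu
      rw [hline, Submodule.mem_span_singleton] at hm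
      obtain ⟨l, hl⟩ := hm
      exact ⟨l, hl.symm⟩
    let N : Submodule F V := (ρ c).eigenspace l
    have hN := e.finrank_eq h2 N fun x hx v hv => by
      simp only [N, Module.End.mem_eigenspace_iff] at hv ⊢
      rw [← comm_apply (six hx hcfix), hv, map_smul]
    have hNE : N ⊓ E = E := le_antisymm inf_le_right (le_inf (by
      rw [hline, Submodule.span_le, Set.singleton_subset_iff]
      exact Module.End.mem_eigenspace_iff.mpr hl) le_rfl)
    rw [← hE, hNE] at hN
    have hNtop : N = ⊤ := Submodule.eq_top_of_finrank_eq (by omega)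
    have hsc : ∀ v, ρ c v = l • v := fun v =>
      Module.End.mem_eigenspace_iff.mp (show v ∈ N from hNtop ▸ Submodule.mem_top)
    obtain ⟨d, hd⟩ := hcov.onto (swap (p 8) (p 0) * swap (p 1) (p 2))
      (by rw [map_mul, Perm.sign_swap (hp.ne (by decide)), Perm.sign_swap (hp.ne (by decide))]; rfl)
    have hk := hfaith (c * d * c⁻¹ * d⁻¹) fun v => by
      rw [rho_mul_apply, rho_mul_apply, rho_mul_apply, hsc, ← map_smul, ← hsc, rho_apply_inv, rho_apply_inv]
    rw [map_mul, map_mul, map_mul, map_inv, map_inv, mul_inv_eq_one, mul_inv_eq_iff_eq_mul, hc, hd] at hk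
    have := congrArg (fun q : Perm (Fin r) => q (p 0)) hk
    simp only [Perm.mul_apply] at this
    rw [hp.swap_apply, hp.swap_apply, hp.swap_apply, hp.swap_apply, hp.swap_apply, hp.swap_apply, hp.swap_apply,
      hp.swap_apply] at this
    exact absurd (hp this) (by decide)
  by_cases h17 : r ≤ 17
  · exact ⟨by omega, fun _ => by omega⟩
  -- the smaller cover on the weight space
  let S : Finset (Fin r) := Finset.univ.filter fun z => 8 ≤ z.1
  have hS : S.card = r - 8 := by
    let j : Fin (r - 8) → Fin r := fun i => ⟨i.1 + 8, by omega⟩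
    have hj : Function.Injective j := fun a b e => by simp [j] at e; exact Fin.ext e
    rw [show S = Finset.univ.image j from ?_, Finset.card_image_of_injective _ hj, Finset.card_univ, Fintype.card_fin]
    ext z
    simp only [S, Finset.mem_filter, Finset.mem_univ, true_and, Finset.mem_image]
    exact ⟨fun hz => ⟨⟨z.1 - 8, by omega⟩, Fin.ext (by simp [j]; omega)⟩, fun ⟨i, hi⟩ => by rw [← hi]; simp [j]⟩
  obtain ⟨φ, hφi, hφr⟩ := exists_emb S hS
  let q : Alt (r - 8) →* Perm (Fin r) := (alternatingGroup (Fin r)).subtype.comp φ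
  have hq : Function.Injective q := Subtype.val_injective.comp hφi
  let H : Subgroup G := q.range.comap π
  let π' : H →* Alt (r - 8) :=
    (MonoidHom.ofInjective hq).symm.toMonoidHom.comp ((π.comp H.subtype).codRestrict q.range fun x => x.2)
  have hπ' : ∀ x : H, q (π' x) = π x := fun x => by
    show q ((MonoidHom.ofInjective hq).symm ⟨π x, x.2⟩) = π x
    exact MonoidHom.apply_ofInjective_symm hq ⟨π x, x.2⟩
  have hsurj : Function.Surjective π' := fun a => by
    obtain ⟨x, hx⟩ := hcov.onto (q a) (φ a).2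
    exact ⟨⟨x, ⟨a, hx.symm⟩⟩, hq (by rw [hπ']; exact hx)⟩
  have hfix : ∀ x : H, ∀ z : Fin r, z.1 < 8 → π x z = z := fun x z hz => by
    rw [← hπ']
    have hm : φ (π' x) ∈ fixOut S := hφr ▸ ⟨_, rfl⟩
    exact hm z (by simp [S]; omega)
  let τ : H →* Module.End F E :=
    { toFun := fun x => (ρ x.1).restrict (stableE x.1 (hfix x))
      map_one' := LinearMap.ext fun v => Subtype.ext (by simp)
      map_mul' := fun a b => LinearMap.ext fun v => Subtype.ext (by simp) }
  have hτ : ∀ (x : H) (v : E), ((τ x v : E) : V) = ρ x.1 v := fun _ _ => rfl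
  haveI : IsSimpleGroup (Alt (r - 8)) := alt_simple (by omega)
  have htf : ∀ g : H, (∀ v, τ g v = v) → π' g = 1 := by
    let K : Subgroup H :=
      { carrier := {g | ∀ v, τ g v = v}
        one_mem' := fun v => by rw [map_one]; rfl
        mul_mem' := fun {a b} ha hb v => by rw [rho_mul_apply, hb, ha]
        inv_mem' := fun {a} ha v => by
          have := rho_inv_apply τ a v
          rwa [ha v] at this }
    haveI : K.Normal := ⟨fun k hk g v => by
      rw [rho_mul_apply, rho_mul_apply, hk, rho_apply_inv]⟩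
    haveI := Subgroup.Normal.map (inferInstance : K.Normal) π' hsurj
    rcases IsSimpleGroup.eq_bot_or_eq_top_of_normal (K.map π') inferInstance with hb | ht
    · intro g hg
      have : π' g ∈ K.map π' := Subgroup.mem_map_of_mem π' (show g ∈ K from hg)
      rwa [hb, Subgroup.mem_bot] at this
    exfalso
    let p : Fin 12 → Fin r := Fin.castLE (by omega)
    have hp : Function.Injective p := Fin.castLE_injective _
    have hin : ∀ a b c d : Fin 12, a ≠ b → c ≠ d → 8 ≤ a.1 → 8 ≤ b.1 → 8 ≤ c.1 → 8 ≤ d.1 →
        ∃ x : H, x ∈ K ∧ π x = swap (p a) (p b) * swap (p c) (p d) := fun a b c d h1 h2 ha hb hc hd => by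
      have hm : sw (p a) (p b) (p c) (p d) (hp.ne h1) (hp.ne h2) ∈ φ.range := by
        rw [hφr]
        exact sw_mem _ _ (by simp [S, p, ha]) (by simp [S, p, hb]) (by simp [S, p, hc]) (by simp [S, p, hd])
      obtain ⟨t, ht'⟩ := hm
      obtain ⟨x, hx, hxt⟩ : t ∈ K.map π' := ht ▸ Subgroup.mem_top t
      refine ⟨x, hx, ?_⟩
      rw [← hπ', hxt]
      exact congrArg Subtype.val ht'
    obtain ⟨x, hxK, hx⟩ := hin 8 9 10 11 (by decide) (by decide) (by decide) (by decide) (by decide) (by decide)
    obtain ⟨y, hyK, hy⟩ := hin 8 10 9 11 (by decide) (by decide) (by decide) (by decide) (by decide) (by decide)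
    have hnc : ¬ Commute (x : G) (y : G) := hcov.not_commute (by omega) (a := p 8) (b := p 9) (c := p 10) (d := p 11)
      (by simpa using (show ([8, 9, 10, 11] : List (Fin 12)).Nodup by decide).map hp) hx hy
    obtain ⟨u, hu, hu0⟩ : ∃ u ∈ E, u ≠ 0 := by
      refine Submodule.exists_mem_ne_zero_of_ne_bot fun hb => ?_
      rw [hb, finrank_bot] at hpos
      omega
    have hcomm : π (x : G) * π y = π y * π x := by
      rw [hx, hy]
      have h4 : ([8, 9, 10, 11] : List (Fin 12)).Nodup := by decide
      ext z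
      simp only [Perm.mul_apply]
      by_cases hz : ∃ i, p i = z
      · obtain ⟨i, rfl⟩ := hz
        rw [hp.swap_apply, hp.swap_apply, hp.swap_apply, hp.swap_apply, hp.swap_apply, hp.swap_apply,
          hp.swap_apply, hp.swap_apply]
        congr 2
        revert i
        decide
      · simp only [not_exists] at hz
        rw [swap_apply_of_ne_of_ne (a := p 9) (b := p 11) (Ne.symm (hz _)) (Ne.symm (hz _)),
          swap_apply_of_ne_of_ne (a := p 8) (b := p 10) (Ne.symm (hz _)) (Ne.symm (hz _)),
          swap_apply_of_ne_of_ne (a := p 10) (b := p 11) (Ne.symm (hz _)) (Ne.symm (hz _)),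
          swap_apply_of_ne_of_ne (a := p 8) (b := p 9) (Ne.symm (hz _)) (Ne.symm (hz _)),
          swap_apply_of_ne_of_ne (a := p 9) (b := p 11) (Ne.symm (hz _)) (Ne.symm (hz _)),
          swap_apply_of_ne_of_ne (a := p 8) (b := p 10) (Ne.symm (hz _)) (Ne.symm (hz _))]
    have hxu : ρ (x : G) u = u := by rw [← hτ x ⟨u, hu⟩, hxK]
    have hyu : ρ (y : G) u = u := by rw [← hτ y ⟨u, hu⟩, hyK]
    have ha := h.anti hcomm hnc u
    rw [hyu, hxu, hyu, eq_neg_iff_add_eq_zero, ← two_smul F] at ha
    exact hu0 ((smul_eq_zero.mp ha).resolve_left h2)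
  have := ih (by omega) H π' hsurj E τ htf (by omega)
  exact ⟨by omega, fun _ => by omega⟩

end CfsgLib.AltLinear.Spin
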