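import Cfsg.Agent.Lib.AltLinear.EvenChar
import Cfsg.Agent.Lib.AltLinear.Spin
import Cfsg.Agent.S0892

/-!
Sections of linear groups isomorphic to alternating groups: reduction to the alternating group and its double cover.
-/

set_option autoImplicit false
set_option linter.unusedSectionVars false

namespace CfsgLib.AltLinear

open Module Equiv
open scoped commutatorElement

/-- The bound for groups having an alternating quotient. -/
def AltBound (n : ℕ) : Prop :=
  ∀ (F : Type) [Field F] [IsAlgClosed F] (p : ℕ) [Fact p.Prime] [CharP F p] (r : ℕ), 9 ≤ r →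
    ∀ (G : Type) [Group G] [Finite G] (π : G →* Alt r), Function.Surjective π →
      ∀ (V : Type) [AddCommGroup V] [Module F V] [FiniteDimensional F V] (ρ : G →* Module.End F V),
        (∀ g, (∀ v, ρ g v = v) → π g = 1) → finrank F V = n → r ≤ n + 2 ∧ ((r : F) ≠ 0 → r ≤ n + 1)

/-- Joint eigenvectors with distinct systems of eigenvalues are independent. -/
theorem joint_independent {F : Type} [Field F] {M : Type} [AddCommGroup M] [Module F M] {ι J : Type}
    (T : J → Module.End F M) (x : ι → M) (χ : ι → J → F) (hx : ∀ i, x i ≠ 0) (h : ∀ i j, T j (x i) = χ i j • x i)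
    (hχ : Function.Injective χ) : LinearIndependent F x := by
  classical
  rw [linearIndependent_iff']
  intro s
  induction s using Finset.induction_on with
  | empty => intro _ _ i hi; simp at hi
  | @insert a t ha ih =>
    intro c hc
    have ht : ∀ i ∈ t, c i = 0 := by
      intro i hi
      obtain ⟨j, hj⟩ : ∃ j, χ i j ≠ χ a j := by
        by_contra hall
        simp only [not_exists, not_not] at hall
        exact ha (hχ (funext hall) ▸ hi)
      have e : ∑ k ∈ t, ((χ k j - χ a j) * c k) • x k = 0 := by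
        have h1 : ∑ k ∈ insert a t, (χ k j * c k) • x k = 0 := by
          have := congrArg (T j) hc
          rw [map_sum, map_zero] at this
          rw [← this]
          exact Finset.sum_congr rfl fun k _ => by rw [map_smul, h, smul_smul, mul_comm]
        have h2 : ∑ k ∈ insert a t, (χ a j * c k) • x k = 0 := by
          simp only [mul_smul, ← Finset.smul_sum, hc, smul_zero]
        have h3 : ∑ k ∈ insert a t, ((χ k j - χ a j) * c k) • x k = 0 := by
          simp only [sub_mul, sub_smul, Finset.sum_sub_distrib, h1, h2, sub_zero]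
        rwa [Finset.sum_insert ha, sub_self, zero_mul, zero_smul, zero_add] at h3
      exact (mul_eq_zero.mp (ih _ e i hi)).resolve_left (sub_ne_zero.mpr hj)
    intro i hi
    rcases Finset.mem_insert.mp hi with rfl | hi
    · rw [Finset.sum_insert ha, Finset.sum_eq_zero fun k hk => by rw [ht k hk, zero_smul], add_zero] at hc
      exact (smul_eq_zero.mp hc).resolve_right (hx i)
    · exact ht i hi

variable {F : Type} [Field F] {V : Type} [AddCommGroup V] [Module F V] {G : Type} [Group G]
  {r : ℕ} {π : G →* Alt r} {ρ : G →* Module.End F V}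

/-- The kernel of a representation. -/
def kerRep (τ : G →* Module.End F V) : Subgroup G := τ.toHomUnits.ker

theorem mem_kerRep {τ : G →* Module.End F V} {g : G} : g ∈ kerRep τ ↔ ∀ v, τ g v = v := by
  show τ.toHomUnits g = 1 ↔ _
  rw [Units.ext_iff]
  exact LinearMap.ext_iff

theorem kerRep_normal (τ : G →* Module.End F V) : (kerRep τ).Normal := MonoidHom.normal_ker _

/-- A normal subgroup of a group minimal over an alternating quotient is in the kernel or everything. -/
theorem le_ker_or_top (hr : 5 ≤ r) (hπ : Function.Surjective π) (hmin : ∀ M : Subgroup G, M.map π = ⊤ → M = ⊤)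
    (N : Subgroup G) [hN : N.Normal] : N ≤ π.ker ∨ N = ⊤ := by
  haveI := alt_simple hr
  haveI := Subgroup.Normal.map hN π hπ
  rcases IsSimpleGroup.eq_bot_or_eq_top_of_normal (N.map π) inferInstance with h | h
  · exact Or.inl fun g hg => MonoidHom.mem_ker.mpr ((Subgroup.mem_bot).mp (h ▸ Subgroup.mem_map_of_mem π hg))
  · exact Or.inr (hmin N h)

theorem alt_two_prime {p : ℕ} (hr : 4 ≤ r) (h : ∀ x : Alt r, x ^ p = 1) (hp : p.Prime) : False := by
  let a : Fin 4 → Fin r := Fin.castLE hr
  have ha : Function.Injective a := Fin.castLE_injective hr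
  have key : ∀ x : Alt r, x ≠ 1 → ∀ q : ℕ, q.Prime → x ^ q = 1 → q = p := by
    intro x hx q hq hxq
    by_contra hne
    have h1 := Nat.dvd_gcd (orderOf_dvd_of_pow_eq_one hxq) (orderOf_dvd_of_pow_eq_one (h x))
    rw [(Nat.coprime_primes hq hp).mpr hne, Nat.dvd_one, orderOf_eq_one_iff] at h1
    exact hx h1
  let c : Alt r := sw (a 0) (a 1) (a 1) (a 2) (ha.ne (by decide)) (ha.ne (by decide))
  let d : Alt r := sw (a 0) (a 1) (a 2) (a 3) (ha.ne (by decide)) (ha.ne (by decide))
  let T : Finset (Fin r) := {a 0, a 1, a 2}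
  have hT : T.card = 3 := Finset.card_eq_three.mpr
    ⟨_, _, _, ha.ne (by decide), ha.ne (by decide), ha.ne (by decide), rfl⟩
  have hc1 : c ≠ 1 := fun e => by
    have := congrArg (fun q : Alt r => q.1 (a 0)) e
    simp only [c, sw_apply, ha.swap_apply] at this
    exact absurd (ha this) (by decide)
  have hd1 : d ≠ 1 := fun e => by
    have := congrArg (fun q : Alt r => q.1 (a 0)) e
    simp only [d, sw_apply, ha.swap_apply] at this
    exact absurd (ha this) (by decide)
  obtain ⟨-, hc3⟩ := fixOut_three hT (c := c) (sw_mem _ _ (by simp [T]) (by simp [T]) (by simp [T]) (by simp [T])) hc1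
  have hd2 : d * d = 1 := by
    refine Subtype.ext ?_
    show swap (a 0) (a 1) * swap (a 2) (a 3) * (swap (a 0) (a 1) * swap (a 2) (a 3)) = 1
    have hdis : Perm.Disjoint (swap (a 0) (a 1)) (swap (a 2) (a 3)) := fun z => by
      by_cases h0 : z = a 0
      · right; subst h0; exact swap_apply_of_ne_of_ne (ha.ne (by decide)) (ha.ne (by decide))
      by_cases h1 : z = a 1
      · right; subst h1; exact swap_apply_of_ne_of_ne (ha.ne (by decide)) (ha.ne (by decide))
      left; exact swap_apply_of_ne_of_ne h0 h1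
    rw [hdis.commute.symm.mul_mul_mul_comm, swap_mul_self, swap_mul_self, one_mul]
  have := key c hc1 3 Nat.prime_three (by rw [pow_three']; exact hc3)
  have := key d hd1 2 Nat.prime_two (by rw [pow_two]; exact hd2)
  omega

theorem alt_ne_bot (hr : 5 ≤ r) : ∃ x : Alt r, x ≠ 1 := by
  haveI := alt_simple hr
  exact exists_ne 1

/-- An irreducible minimal group in small dimension has only scalar abelian normal subgroups. -/
theorem scalar_of_abelian [IsAlgClosed F] [FiniteDimensional F V] [Finite G] (hr : 9 ≤ r) (hπ : Function.Surjective π)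
    (hmin : ∀ M : Subgroup G, M.map π = ⊤ → M = ⊤) (hn : finrank F V + 2 ≤ r)
    (hirr : ∀ W : Submodule F V, (∀ g, ∀ v ∈ W, ρ g v ∈ W) → W = ⊥ ∨ W = ⊤) (hV : 0 < finrank F V)
    (A : Subgroup G) [hA : A.Normal] (hcomm : ∀ a ∈ A, ∀ b ∈ A, a * b = b * a) :
    ∀ a ∈ A, ∃ s : F, ∀ v, ρ a v = s • v := by
  classical
  haveI := Fintype.ofFinite A
  -- a common eigenvector
  obtain ⟨N, hN, -, hsc⟩ : ∃ N : Submodule F V, N ≠ ⊥ ∧ (∀ b ∈ A, ∀ v ∈ N, ρ b v ∈ N) ∧
      ∀ a : A, ∃ s : F, ∀ v ∈ N, ρ a.1 v = s • v := by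
    suffices h : ∀ S : Finset A, ∃ N : Submodule F V, N ≠ ⊥ ∧ (∀ b ∈ A, ∀ v ∈ N, ρ b v ∈ N) ∧
        ∀ a ∈ S, ∃ s : F, ∀ v ∈ N, ρ a.1 v = s • v by
      obtain ⟨N, h1, h2, h3⟩ := h Finset.univ
      exact ⟨N, h1, h2, fun a => h3 a (Finset.mem_univ a)⟩
    intro S
    induction S using Finset.induction_on with
    | empty =>
      refine ⟨⊤, fun h => ?_, fun _ _ _ _ => Submodule.mem_top, fun a ha => absurd ha (Finset.notMem_empty a)⟩
      have := congrArg (fun M : Submodule F V => finrank F M) h
      simp only [finrank_top, finrank_bot] at this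
      omega
    | @insert a S _ ih =>
      obtain ⟨N, hN, hst, hsc⟩ := ih
      haveI : Nontrivial N := Submodule.nontrivial_iff_ne_bot.mpr hN
      obtain ⟨s, hs⟩ := Module.End.exists_eigenvalue ((ρ a.1).restrict (hst a.1 a.2))
      obtain ⟨⟨v, hv⟩, hev, hne⟩ := hs.exists_hasEigenvector
      rw [Module.End.mem_eigenspace_iff] at hev
      refine ⟨N ⊓ (ρ a.1).eigenspace s, fun h => ?_, fun b hb w hw => ⟨hst b hb w hw.1, ?_⟩, fun c hc => ?_⟩
      · have : v ∈ N ⊓ (ρ a.1).eigenspace s := ⟨hv, Module.End.mem_eigenspace_iff.mpr (congrArg Subtype.val hev)⟩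
        rw [h, Submodule.mem_bot] at this
        exact hne (Subtype.ext this)
      · have hw2 := Module.End.mem_eigenspace_iff.mp hw.2
        rw [SetLike.mem_coe, Module.End.mem_eigenspace_iff, ← rho_mul_apply, hcomm a.1 a.2 b hb, rho_mul_apply, hw2,
          map_smul]
      · rcases Finset.mem_insert.mp hc with rfl | hc
        · exact ⟨s, fun w hw => Module.End.mem_eigenspace_iff.mp hw.2⟩
        · obtain ⟨t, ht⟩ := hsc c hc
          exact ⟨t, fun w hw => ht w hw.1⟩
  let L : Type := {χ : A → F // ∃ v : V, v ≠ 0 ∧ ∀ a : A, ρ a.1 v = χ a • v}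
  choose s hs using hsc
  obtain ⟨v₀, hv₀, hv₀0⟩ := Submodule.exists_mem_ne_zero_of_ne_bot hN
  let χ₀ : L := ⟨s, v₀, hv₀0, fun a => hs a v₀ hv₀⟩
  have hvec : ∀ χ : L, ∃ v : V, v ≠ 0 ∧ ∀ a : A, ρ a.1 v = χ.1 a • v := fun χ => χ.2
  choose w hw0 hw using hvec
  have hli : LinearIndependent F w := joint_independent (fun a : A => ρ a.1) w (fun χ => χ.1) hw0 hw Subtype.val_injective
  haveI : Finite L := hli.finite
  haveI := Fintype.ofFinite L
  have hcardL : Fintype.card L ≤ finrank F V := hli.fintype_card_le_finrank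
  let cj : G → A → A := fun g a => ⟨g⁻¹ * a.1 * g, by simpa using hA.conj_mem a.1 a.2 g⁻¹⟩
  have hcj : ∀ g h a, cj h (cj g a) = cj (g * h) a := fun g h a => Subtype.ext (by simp [cj]; group)
  have hcj1 : ∀ a, cj 1 a = a := fun a => Subtype.ext (by simp [cj])
  have hshift : ∀ (g : G) (v : V) (c : A → F), (∀ a : A, ρ a.1 v = c a • v) →
      ∀ a : A, ρ a.1 (ρ g v) = c (cj g a) • ρ g v := fun g v c hc a => by
    rw [← map_smul (ρ g), ← hc, ← rho_mul_apply, ← rho_mul_apply]
    simp [cj, mul_assoc]
  let act : G → L → L := fun g χ => ⟨fun a => χ.1 (cj g a), ρ g (w χ),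
    fun e => hw0 χ (rho_injective ρ g (e.trans (map_zero _).symm)), hshift g _ _ (hw χ)⟩
  have hact : ∀ g h χ, act g (act h χ) = act (g * h) χ := fun g h χ => Subtype.ext (funext fun a => by
    show χ.1 (cj h (cj g a)) = χ.1 (cj (g * h) a)
    rw [hcj])
  have hact1 : ∀ χ, act 1 χ = χ := fun χ => Subtype.ext (funext fun a => by
    show χ.1 (cj 1 a) = χ.1 a
    rw [hcj1])
  let φ : G →* Perm L :=
    { toFun := fun g => ⟨act g, act g⁻¹, fun χ => by rw [hact, inv_mul_cancel, hact1],
        fun χ => by rw [hact, mul_inv_cancel, hact1]⟩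
      map_one' := Equiv.ext hact1
      map_mul' := fun g h => Equiv.ext fun χ => (hact g h χ).symm }
  rcases le_ker_or_top (by omega) hπ hmin φ.ker with hk | hk
  · exfalso
    have e : Nat.card (Alt r) ≤ Nat.card φ.range := by
      refine Nat.card_le_card_of_surjective (φ.rangeRestrict.liftOfSurjective φ.rangeRestrict_surjective
        ⟨π, by rw [MonoidHom.ker_rangeRestrict]; exact hk⟩) fun a => ?_
      obtain ⟨g, rfl⟩ := hπ a
      exact ⟨φ.rangeRestrict g, MonoidHom.liftOfRightInverse_comp_apply _ _ _ _ g⟩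
    have hle : Nat.card φ.range ≤ (finrank F V).factorial := by
      refine (Nat.le_of_dvd Nat.card_pos (Subgroup.card_subgroup_dvd_card φ.range)).trans ?_
      rw [Nat.card_perm, Nat.card_eq_fintype_card]
      exact Nat.factorial_le hcardL
    haveI : Nontrivial (Fin r) := Fin.nontrivial_iff_two_le.mpr (by omega)
    have h2 : 2 * Nat.card (Alt r) = r.factorial := by
      rw [two_mul_nat_card_alternatingGroup, Nat.card_perm, Nat.card_fin]
    have hf : (finrank F V).factorial ≤ (r - 2).factorial := Nat.factorial_le (by omega)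
    obtain ⟨m, rfl⟩ : ∃ m, r = m + 2 := ⟨r - 2, by omega⟩
    rw [Nat.factorial_succ, Nat.factorial_succ, ← mul_assoc] at h2
    simp only [Nat.add_sub_cancel] at hf
    have hpos := Nat.factorial_pos m
    have : 3 ≤ (m + 1 + 1) * (m + 1) := by nlinarith
    nlinarith
  intro a ha
  let N' : Submodule F V :=
    { carrier := {v | ∀ b : A, ρ b.1 v = χ₀.1 b • v}
      zero_mem' := fun b => by simp
      add_mem' := fun {x y} hx hy b => by rw [map_add, hx b, hy b, smul_add]
      smul_mem' := fun t x hx b => by rw [map_smul, hx b, smul_comm] }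
  rcases hirr N' fun g v hv b => by
    have e : act g χ₀ = χ₀ := Equiv.ext_iff.mp (show φ g = 1 from MonoidHom.mem_ker.mp (hk ▸ Subgroup.mem_top g)) χ₀
    rw [hshift g v χ₀.1 hv b]
    exact congrArg (fun c : F => c • ρ g v) (congrFun (congrArg Subtype.val e) b) with h | h
  · have : v₀ ∈ N' := fun b => hs b v₀ hv₀
    rw [h, Submodule.mem_bot] at this
    exact absurd this hv₀0
  · exact ⟨χ₀.1 ⟨a, ha⟩, fun v => (show v ∈ N' from h ▸ Submodule.mem_top) ⟨a, ha⟩⟩

/-- A normal subgroup with scalar action is central. -/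
theorem central_of_scalar (hinj : Function.Injective ρ) {A : Subgroup G} (h : ∀ a ∈ A, ∃ s : F, ∀ v, ρ a v = s • v) :
    A ≤ Subgroup.center G := fun a ha => Subgroup.mem_center_iff.mpr fun g => hinj (by
  obtain ⟨s, hs⟩ := h a ha
  refine LinearMap.ext fun v => ?_
  rw [rho_mul_apply, rho_mul_apply, hs, hs, map_smul])

/-- The kernel is central. -/
theorem ker_central [IsAlgClosed F] {p : ℕ} [Fact p.Prime] [CharP F p] [FiniteDimensional F V] [Finite G]
    (hr : 9 ≤ r) (hπ : Function.Surjective π) (hmin : ∀ M : Subgroup G, M.map π = ⊤ → M = ⊤)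
    (hinj : Function.Injective ρ) (hn : finrank F V + 2 ≤ r)
    (hscal : ∀ A : Subgroup G, A.Normal → (∀ a ∈ A, ∀ b ∈ A, a * b = b * a) → A ≤ Subgroup.center G ∧
      ∀ a ∈ A, ∃ s : F, ∀ v, ρ a v = s • v)
    (hperf : commutator G = ⊤) (ih : ∀ m, m < finrank F V → AltBound m) : π.ker ≤ Subgroup.center G := by
  classical
  set K := π.ker with hK
  suffices key : ∀ q : ℕ, q.Prime → ∀ Q : Sylow q K, (Q : Subgroup K).map K.subtype ≤ Subgroup.center G by
    have h : (⊤ : Subgroup K) ≤ (Subgroup.center G).subgroupOf K := by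
      refine top_le_iff.mpr ?_
      refine Subgroup.eq_top_of_card_eq _ ?_
      refine Nat.dvd_antisymm (Subgroup.card_subgroup_dvd_card _) ?_
      rw [← Nat.factorization_le_iff_dvd Nat.card_pos.ne' Nat.card_pos.ne']
      intro q
      by_cases hq : q.Prime
      · haveI := Fact.mk hq
        obtain ⟨Q⟩ : Nonempty (Sylow q K) := inferInstance
        have hle : (Q : Subgroup K) ≤ (Subgroup.center G).subgroupOf K := fun x hx =>
          key q hq Q (Subgroup.mem_map_of_mem K.subtype hx)
        have hd := Subgroup.card_dvd_of_le hle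
        rw [Q.card_eq_multiplicity] at hd
        exact (hq.pow_dvd_iff_le_factorization Nat.card_pos.ne').mp hd
      · rw [Nat.factorization_eq_zero_of_not_prime _ hq]
        exact Nat.zero_le _
    exact fun x hx => h (Subgroup.mem_top (⟨x, hx⟩ : K))
  intro q hq Q
  haveI := Fact.mk hq
  set P := (Q : Subgroup K).map K.subtype with hP
  haveI hKn : K.Normal := MonoidHom.normal_ker π
  haveI hPn : P.Normal := by
    rw [← Subgroup.normalizer_eq_top_iff]
    refine hmin _ (eq_top_iff.mpr fun a _ => ?_)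
    obtain ⟨g, rfl⟩ := hπ a
    have hm : g ∈ Subgroup.normalizer (((Q : Subgroup K).map K.subtype : Subgroup G) : Set G) ⊔ K := by
      rw [Sylow.normalizer_sup_eq_top Q]; exact Subgroup.mem_top g
    obtain ⟨x, hx, k, hk, rfl⟩ := Subgroup.mem_sup_of_normal_right.mp hm
    exact ⟨x, hx, by rw [map_mul, (MonoidHom.mem_ker.mp hk : π k = 1), mul_one]⟩
  have hPq : IsPGroup q P := Q.isPGroup'.map _
  by_contra hnc
  -- the centre of `P`
  let C : Subgroup G := P ⊓ Subgroup.centralizer (P : Set G)
  haveI hCn : C.Normal := inferInstance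
  have hCc := hscal C hCn fun a ha b hb => Subgroup.mem_centralizer_iff.mp hb.2 a ha.1
  let Z : Subgroup G := P ⊓ Subgroup.center G
  haveI hZn : Z.Normal := inferInstance
  haveI : Nontrivial P := (Subgroup.nontrivial_iff_ne_bot P).mpr fun h => hnc (h ▸ bot_le)
  obtain ⟨z, hz, hz1⟩ : ∃ z ∈ Z, z ≠ 1 := by
    haveI := hPq.center_nontrivial
    obtain ⟨⟨z, hz⟩, hz1⟩ := exists_ne (1 : Subgroup.center P)
    refine ⟨z, ⟨z.2, hCc.1 ⟨z.2, Subgroup.mem_centralizer_iff.mpr fun y hy => ?_⟩⟩, fun e => hz1 (Subtype.ext (Subtype.ext e))⟩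
    exact congrArg Subtype.val (Subgroup.mem_center_iff.mp hz ⟨y, hy⟩)
  have hscalZ : ∀ a ∈ Z, ∃ s : F, ∀ v, ρ a v = s • v :=
    (hscal Z hZn fun a _ b hb => Subgroup.mem_center_iff.mp hb.2 a).2
  have hqp : q ≠ p := by
    rintro rfl
    obtain ⟨k, hk⟩ := hPq ⟨z, hz.1⟩
    have hk' : z ^ q ^ k = 1 := congrArg Subtype.val hk
    obtain ⟨s, hs⟩ := hscalZ z hz
    refine hz1 (hinj (LinearMap.ext fun v => ?_))
    rw [rho_one_apply, hs]
    have hsk : ∀ m, ρ (z ^ m) v = s ^ m • v := fun m => Spin.pow_apply_eigen ρ z (hs v) m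
    have e := hsk (q ^ k)
    rw [hk', rho_one_apply] at e
    by_cases hv : v = 0
    · rw [hv, smul_zero]
    have e' : s ^ q ^ k = 1 := by
      by_contra hne
      exact hv ((smul_eq_zero.mp (show (s ^ q ^ k - 1) • v = 0 by rw [sub_smul, one_smul, ← e, sub_self])).resolve_left
        (sub_ne_zero.mpr hne))
    have hs1 : s = 1 := sub_eq_zero.mp (eq_zero_of_pow_eq_zero (n := q ^ k) (by
      rw [sub_pow_char_pow (p := q), e', one_pow, sub_self]))
    rw [hs1, one_smul]
  -- the elementary abelian section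
  let mk := QuotientGroup.mk' Z
  have hmk : ∀ {x : G}, mk x = 1 ↔ x ∈ Z := fun {x} => by
    rw [QuotientGroup.mk'_apply, QuotientGroup.eq_one_iff]
  have hmc : ∀ {a b : G}, a * b * a⁻¹ * b⁻¹ ∈ Z → mk a * mk b = mk b * mk a := fun {a b} h => by
    have := hmk.mpr h
    simp only [map_mul, map_inv] at this
    exact (mul_inv_eq_iff_eq_mul.mp (mul_inv_eq_one.mp this))
  let U : Subgroup G :=
    { carrier := {x | x ∈ P ∧ (∀ y ∈ P, mk x * mk y = mk y * mk x) ∧ mk x ^ q = 1}
      one_mem' := ⟨one_mem _, fun y _ => by simp, by simp⟩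
      mul_mem' := fun {a b} ha hb => ⟨mul_mem ha.1 hb.1, fun y hy => by
          rw [map_mul, mul_assoc, hb.2.1 y hy, ← mul_assoc, ha.2.1 y hy, mul_assoc], by
          rw [map_mul, (show Commute (mk a) (mk b) from ha.2.1 b hb.1).mul_pow, ha.2.2, hb.2.2, one_mul]⟩
      inv_mem' := fun {a} ha => ⟨inv_mem ha.1, fun y hy => by
          rw [map_inv]; exact (show Commute (mk a) (mk y) from ha.2.1 y hy).inv_left.eq, by
          rw [map_inv, inv_pow, ha.2.2, inv_one]⟩ }
  have hUP : U ≤ P := fun x hx => hx.1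
  haveI hUn : U.Normal := ⟨fun x hx g => ⟨hPn.conj_mem x hx.1 g, fun y hy => by
      have e := congrArg (fun t => mk g * t * (mk g)⁻¹) (hx.2.1 (g⁻¹ * y * g) (by simpa using hPn.conj_mem y hy g⁻¹))
      simp only [map_mul, map_inv] at e ⊢
      calc mk g * mk x * (mk g)⁻¹ * mk y = mk g * (mk x * ((mk g)⁻¹ * mk y * mk g)) * (mk g)⁻¹ := by group
        _ = mk g * ((mk g)⁻¹ * mk y * mk g * mk x) * (mk g)⁻¹ := e
        _ = mk y * (mk g * mk x * (mk g)⁻¹) := by group, by
      rw [map_mul, map_mul, map_inv, conj_pow, hx.2.2, mul_one, mul_inv_cancel]⟩⟩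
  obtain ⟨u, hu, huZ⟩ : ∃ u ∈ U, u ∉ Z := by
    let P' := P.map mk
    haveI : Nontrivial P' := (Subgroup.nontrivial_iff_ne_bot P').mpr fun h => hnc fun x hx =>
      (hmk.mp ((Subgroup.mem_bot).mp (h ▸ Subgroup.mem_map_of_mem mk hx))).2
    have hP' : IsPGroup q P' := hPq.map mk
    haveI := hP'.center_nontrivial
    obtain ⟨k, hk⟩ := (hP'.to_subgroup (Subgroup.center P')).exists_card_eq
    have hk0 : k ≠ 0 := fun h0 => by
      rw [h0, pow_zero, Nat.card_eq_one_iff_unique] at hk
      exact not_subsingleton _ hk.1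
    obtain ⟨c, hc⟩ := exists_prime_orderOf_dvd_card' q (hk ▸ dvd_pow_self q hk0)
    obtain ⟨x, hxP, hx⟩ := Subgroup.mem_map.mp (c.1).2
    refine ⟨x, ⟨hxP, fun y hy => ?_, ?_⟩, fun hxZ => ?_⟩
    · rw [hx]
      exact (congrArg Subtype.val (Subgroup.mem_center_iff.mp c.2 ⟨mk y, Subgroup.mem_map_of_mem mk hy⟩)).symm
    · rw [hx]
      exact congrArg (fun t : Subgroup.center P' => ((t : P') : G ⧸ Z)) (hc ▸ pow_orderOf_eq_one c : c ^ q = 1)
    · have : c = 1 := Subtype.ext (Subtype.ext (hx ▸ hmk.mpr hxZ))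
      rw [this, orderOf_one] at hc
      exact hq.ne_one hc.symm
  let M := U.map mk
  have hMcomm : ∀ a b : M, a * b = b * a := by
    rintro ⟨_, a, ha, rfl⟩ ⟨_, b, hb, rfl⟩
    exact Subtype.ext (ha.2.1 b hb.1)
  have hMq : ∀ a : M, a ^ q = 1 := by
    rintro ⟨_, a, ha, rfl⟩
    exact Subtype.ext ha.2.2
  have hrep : ∀ m : M, ∃ x ∈ U, mk x = m.1 := fun m => Subgroup.mem_map.mp m.2
  choose x hxU hxm using hrep
  have hcz : ∀ (y : U) (m : M), ∃ s : F, ∀ v, ρ (y.1 * x m * y.1⁻¹ * (x m)⁻¹) v = s • v := fun y m => by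
    refine hscalZ _ (hmk.mp ?_)
    rw [map_mul, map_mul, map_mul, map_inv, map_inv, y.2.2.1 (x m) (hxU m).1]
    group
  choose s hs using fun m y => hcz y m
  let T : U → Module.End F (Module.End F V) := fun y =>
    (LinearMap.mulLeft F (ρ y.1)).comp (LinearMap.mulRight F (ρ y.1⁻¹))
  have hVpos : 0 < finrank F V := by
    by_contra h0
    haveI : Subsingleton V := Module.finrank_zero_iff.mp (by omega : finrank F V = 0)
    exact hz1 (hinj (LinearMap.ext fun v => Subsingleton.elim _ _))
  haveI : Nontrivial V := Module.nontrivial_of_finrank_pos hVpos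
  have hli : LinearIndependent F (fun m : M => ρ (x m)) := by
    refine joint_independent T _ s (fun m h => ?_) (fun m y => LinearMap.ext fun v => ?_) fun m m' e => ?_
    · obtain ⟨v, hv⟩ := exists_ne (0 : V)
      exact hv (rho_injective ρ (x m) (by rw [h]; simp))
    · show ρ y.1 (ρ (x m) (ρ y.1⁻¹ v)) = s m y • ρ (x m) v
      rw [← hs m y (ρ (x m) v)]
      simp only [← rho_mul_apply]
      congr 2
      group
    · have hA : ∀ y : U, y.1 * ((x m')⁻¹ * x m) * y.1⁻¹ = (x m')⁻¹ * x m := fun y => by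
        have e2 : y.1 * x m * y.1⁻¹ * (x m)⁻¹ = y.1 * x m' * y.1⁻¹ * (x m')⁻¹ :=
          hinj (LinearMap.ext fun v => by rw [hs m y, hs m' y, e])
        calc y.1 * ((x m')⁻¹ * x m) * y.1⁻¹
            = (y.1 * x m' * y.1⁻¹)⁻¹ * ((y.1 * x m * y.1⁻¹ * (x m)⁻¹) * x m) := by group
          _ = (x m')⁻¹ * x m := by rw [e2]; group
      let A : Subgroup G := U ⊓ Subgroup.centralizer (U : Set G)
      have hAc := (hscal A inferInstance fun a ha b hb => Subgroup.mem_centralizer_iff.mp hb.2 a ha.1).1
      have hd : (x m')⁻¹ * x m ∈ A := ⟨U.mul_mem (U.inv_mem (hxU m')) (hxU m), Subgroup.mem_centralizer_iff.mpr fun y hy =>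
        mul_inv_eq_iff_eq_mul.mp (hA ⟨y, hy⟩)⟩
      have hdZ : (x m')⁻¹ * x m ∈ Z := ⟨hUP hd.1, hAc hd⟩
      refine Subtype.ext ?_
      rw [← hxm, ← hxm]
      have := hmk.mpr hdZ
      rw [map_mul, map_inv, inv_mul_eq_one] at this
      exact this.symm
  haveI := Fintype.ofFinite M
  have hMn : Fintype.card M ≤ finrank F V * finrank F V := by
    refine hli.fintype_card_le_finrank.trans ?_
    exact le_of_eq (Module.finrank_linearMap F F V V)
  -- the action
  letI : CommGroup M := { (inferInstance : Group M) with mul_comm := hMcomm }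
  letI : Module (ZMod q) (Additive M) := AddCommGroup.zmodModule (n := q) fun a => hMq (Additive.toMul a)
  have hcm : ∀ (g : G) (a : M), mk g * a.1 * (mk g)⁻¹ ∈ M := by
    rintro g ⟨_, a, ha, rfl⟩
    exact ⟨g * a * g⁻¹, hUn.conj_mem a ha g, by simp⟩
  let cjg : G → Module.End (ZMod q) (Additive M) := fun g => AddMonoidHom.toZModLinearMap q
    { toFun := fun a => Additive.ofMul (⟨mk g * (Additive.toMul a).1 * (mk g)⁻¹, hcm g _⟩ : M)
      map_zero' := congrArg Additive.ofMul (Subtype.ext (by simp))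
      map_add' := fun a b => congrArg Additive.ofMul (Subtype.ext (by simp [mul_assoc])) }
  have hcjg : ∀ g (a : Additive M), (Additive.toMul (cjg g a)).1 = mk g * (Additive.toMul a).1 * (mk g)⁻¹ :=
    fun _ _ => rfl
  let ψ : G →* Module.End (ZMod q) (Additive M) :=
    { toFun := cjg
      map_one' := LinearMap.ext fun a => Additive.toMul.injective (Subtype.ext (by rw [hcjg]; simp))
      map_mul' := fun g h => LinearMap.ext fun a => Additive.toMul.injective (Subtype.ext (by
        show (Additive.toMul (cjg (g * h) a)).1 = (Additive.toMul (cjg g (cjg h a))).1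
        rw [hcjg, hcjg, hcjg, map_mul, mul_inv_rev]; group)) }
  haveI : Module.Finite (ZMod q) (Additive M) := Module.Finite.of_finite
  set t := finrank (ZMod q) (Additive M) with ht
  have hMcard : Fintype.card M = q ^ t := by
    have e := Module.natCard_eq_pow_finrank (K := ZMod q) (V := Additive M)
    rw [Nat.card_zmod] at e
    rw [← Nat.card_eq_fintype_card, ht, ← e]
    exact Nat.card_congr Additive.ofMul
  let b : Basis (Fin t) (ZMod q) (Additive M) := Module.finBasis _ _
  let ψM : G →* Matrix (Fin t) (Fin t) (ZMod q) := (LinearMap.toMatrixAlgEquiv b).toMonoidHom.comp ψ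
  have hψM : ∀ g, ψM g = 1 → ψ g = 1 := fun g h => (LinearMap.toMatrixAlgEquiv b).injective (h.trans (map_one _).symm)
  have hker : ∀ g, ψM g = 1 → π g = 1 := by
    let N : Subgroup G := ψM.toHomUnits.ker
    rcases le_ker_or_top (by omega) hπ hmin N with hN | hN
    · exact fun g hg => MonoidHom.mem_ker.mp (hN (Units.ext hg : ψM.toHomUnits g = 1))
    exfalso
    have htriv : ∀ g, mk g * mk u * (mk g)⁻¹ = mk u := fun g => by
      have h1 : ψM g = 1 := congrArg Units.val (show ψM.toHomUnits g = 1 from MonoidHom.mem_ker.mp (show g ∈ N by rw [hN]; exact Subgroup.mem_top g))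
      have h2 := congrArg (fun f : Module.End (ZMod q) (Additive M) =>
        (Additive.toMul (f (Additive.ofMul (⟨mk u, Subgroup.mem_map_of_mem mk hu⟩ : M)))).1) (hψM g h1)
      exact h2
    let d : G → G := fun g => g * u * g⁻¹ * u⁻¹
    have hd : ∀ g, d g ∈ Z := fun g => hmk.mp (by simp only [d, map_mul, map_inv, htriv, mul_inv_cancel])
    have hdm : ∀ g h, d (g * h) = d h * d g := fun g h => by
      have hc : ∀ y, d h * y = y * d h := fun y => (Subgroup.mem_center_iff.mp (hd h).2 y).symm
      calc d (g * h) = g * (d h * u) * g⁻¹ * u⁻¹ := by simp only [d]; group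
        _ = (g * d h) * (u * g⁻¹ * u⁻¹) := by group
        _ = d h * d g := by rw [← hc g]; simp only [d]; group
    let δ : G →* Subgroup.center G :=
      { toFun := fun g => ⟨d g, (hd g).2⟩
        map_one' := Subtype.ext (by simp [d])
        map_mul' := fun g h => Subtype.ext (by
          show d (g * h) = d g * d h
          rw [hdm, (Subgroup.mem_center_iff.mp (hd h).2 (d g))]) }
    have hd1 : ∀ g, d g = 1 := fun g => by
      have : commutator G ≤ δ.ker := by
        rw [commutator_def, Subgroup.commutator_le]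
        intro a _ b _
        rw [MonoidHom.mem_ker, map_commutatorElement, commutatorElement_eq_one_iff_mul_comm]
        exact Subtype.ext (Subgroup.mem_center_iff.mp (δ b).2 _)
      rw [hperf] at this
      exact congrArg Subtype.val (MonoidHom.mem_ker.mp (this (Subgroup.mem_top g)))
    exact huZ ⟨hUP hu, Subgroup.mem_center_iff.mpr fun g => mul_inv_eq_iff_eq_mul.mp (mul_inv_eq_one.mp (hd1 g))⟩
  have ht2 : 2 ^ t ≤ q ^ t := Nat.pow_le_pow_left hq.two_le t
  by_cases htn : t < finrank F V
  · let E := AlgebraicClosure (ZMod q)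
    haveI : CharP E q := charP_of_injective_algebraMap' (ZMod q) q
    let χ : G →* Module.End E (Fin t → E) :=
      (Matrix.toLinAlgEquiv' (R := E)).toMonoidHom.comp
        ((algebraMap (ZMod q) E).mapMatrix.toMonoidHom.comp ψM)
    have := ih t htn E q r hr G π hπ (Fin t → E) χ (fun g hg => hker g ?_) (by simp)
    · obtain ⟨h1, -⟩ := this
      obtain ⟨m, rfl⟩ : ∃ m, r = m + 2 := ⟨r - 2, by omega⟩
      have h3 : 2 ^ m ≤ (finrank F V) * (finrank F V) :=
        (Nat.pow_le_pow_right (by omega) (by omega)).trans (ht2.trans (hMcard ▸ hMn))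
      have h4 : finrank F V * finrank F V ≤ m * m := Nat.mul_le_mul (by omega) (by omega)
      have h5 : ∀ k, 5 ≤ k → k * k < 2 ^ k := fun k hk => by
        induction k, hk using Nat.le_induction with
        | base => norm_num
        | succ k hk ih => rw [pow_succ]; nlinarith
      have := h5 m (by omega)
      omega
    · have h1 : χ g = 1 := LinearMap.ext hg
      have h2 : (algebraMap (ZMod q) E).mapMatrix (ψM g) = 1 := (Matrix.toLinAlgEquiv' (R := E)).injective (h1.trans (map_one _).symm)
      have h2' := h2.trans (map_one (algebraMap (ZMod q) E).mapMatrix).symm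
      exact Matrix.map_injective (algebraMap (ZMod q) E).injective h2'
  · have hbig : q ^ t ≤ finrank F V * finrank F V := hMcard ▸ hMn
    have hn4 : finrank F V ≤ 4 := by
      by_contra h5n
      have h5 : ∀ k, 5 ≤ k → k * k < 2 ^ k := fun k hk => by
        induction k, hk using Nat.le_induction with
        | base => norm_num
        | succ k hk ih => rw [pow_succ]; nlinarith
      have := h5 _ (show 5 ≤ finrank F V by omega)
      have := Nat.pow_le_pow_right (show 0 < 2 by omega) (show finrank F V ≤ t by omega)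
      omega
    have h16 : q ^ t ≤ 16 := hbig.trans (Nat.mul_le_mul hn4 hn4)
    have ht4 : t ≤ 4 := by
      by_contra h5t
      have := Nat.pow_le_pow_right (show 0 < 2 by omega) (show 5 ≤ t by omega)
      omega
    haveI : Fintype (Matrix (Fin t) (Fin t) (ZMod q)) := Fintype.ofFinite _
    have e : Nat.card (Alt r) ≤ Nat.card ψM.toHomUnits.range := by
      refine Nat.card_le_card_of_surjective (ψM.toHomUnits.rangeRestrict.liftOfSurjective
        ψM.toHomUnits.rangeRestrict_surjective ⟨π, ?_⟩) fun a => ?_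
      · rw [MonoidHom.ker_rangeRestrict]
        exact fun g hg => MonoidHom.mem_ker.mpr (hker g (congrArg Units.val (MonoidHom.mem_ker.mp hg)))
      obtain ⟨g, rfl⟩ := hπ a
      exact ⟨ψM.toHomUnits.rangeRestrict g, MonoidHom.liftOfRightInverse_comp_apply _ _ _ _ g⟩
    have hle : Nat.card ψM.toHomUnits.range ≤ Nat.card (Matrix (Fin t) (Fin t) (ZMod q)) :=
      Nat.card_le_card_of_injective (fun a => ((a.1 : (Matrix (Fin t) (Fin t) (ZMod q))ˣ) : Matrix (Fin t) (Fin t) (ZMod q)))
        fun a b h => Subtype.ext (Units.ext h)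
    have hmat : Nat.card (Matrix (Fin t) (Fin t) (ZMod q)) = (q ^ t) ^ t := by
      show Nat.card (Fin t → Fin t → ZMod q) = _
      rw [Nat.card_fun, Nat.card_fun, Nat.card_zmod, Nat.card_fin]
    have hbd : (q ^ t) ^ t ≤ 65536 :=
      calc (q ^ t) ^ t ≤ 16 ^ t := Nat.pow_le_pow_left h16 t
        _ ≤ 16 ^ 4 := Nat.pow_le_pow_right (by omega) ht4
        _ = 65536 := by norm_num
    haveI : Nontrivial (Fin r) := Fin.nontrivial_iff_two_le.mpr (by omega)
    have h2 : 2 * Nat.card (Alt r) = r.factorial := by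
      rw [two_mul_nat_card_alternatingGroup, Nat.card_perm, Nat.card_fin]
    have h9 := Nat.factorial_le hr
    rw [show Nat.factorial 9 = 362880 by decide] at h9
    omega

/-- The theorem, by induction on the dimension. -/
theorem alt_bound : ∀ n, AltBound n := by
  intro n
  induction n using Nat.strong_induction_on with
  | _ n ih =>
  intro F _ _ p _ _ r hr G₀ _ _ π₀ hπ₀ V _ _ _ ρ₀ hfaith₀ hnV
  classical
  by_contra hconcl
  have hlt : n + 2 ≤ r := by
    by_contra hc
    exact hconcl ⟨by omega, fun _ => by omega⟩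
  -- replace the group by its image
  let R := ρ₀.toHomUnits.range
  have hker₀ : (ρ₀.toHomUnits.rangeRestrict).ker ≤ π₀.ker := by
    rw [MonoidHom.ker_rangeRestrict]
    exact fun g hg => MonoidHom.mem_ker.mpr (hfaith₀ g (mem_kerRep.mp hg))
  let π₁ : R →* Alt r := ρ₀.toHomUnits.rangeRestrict.liftOfSurjective ρ₀.toHomUnits.rangeRestrict_surjective ⟨π₀, hker₀⟩
  have hπ₁ : Function.Surjective π₁ := fun a => by
    obtain ⟨g, rfl⟩ := hπ₀ a
    exact ⟨_, MonoidHom.liftOfRightInverse_comp_apply _ _ _ _ g⟩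
  haveI : Finite R := Finite.of_surjective _ ρ₀.toHomUnits.rangeRestrict_surjective
  -- a minimal subgroup over the quotient
  have hexm : ∃ m, ∃ M : Subgroup R, M.map π₁ = ⊤ ∧ Nat.card M = m :=
    ⟨_, ⊤, Subgroup.map_top_of_surjective π₁ hπ₁, rfl⟩
  obtain ⟨M, hM, hMc⟩ := Nat.find_spec hexm
  let π : M →* Alt r := π₁.comp M.subtype
  have hπ : Function.Surjective π := fun a => by
    obtain ⟨x, hx, hxa⟩ := Subgroup.mem_map.mp (hM ▸ Subgroup.mem_top a)
    exact ⟨⟨x, hx⟩, hxa⟩
  have hmin : ∀ N : Subgroup M, N.map π = ⊤ → N = ⊤ := fun N hN => by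
    have h1 : Nat.find hexm ≤ Nat.card (N.map M.subtype) :=
      Nat.find_min' hexm ⟨N.map M.subtype, by rw [Subgroup.map_map]; exact hN, rfl⟩
    rw [← hMc, ← Nat.card_congr (N.equivMapOfInjective M.subtype M.subtype_injective).toEquiv] at h1
    exact Subgroup.eq_top_of_card_eq N (le_antisymm (Nat.le_of_dvd Nat.card_pos (Subgroup.card_subgroup_dvd_card N)) h1)
  let ρ : M →* Module.End F V := (Units.coeHom (Module.End F V)).comp (R.subtype.comp M.subtype)
  have hinj : Function.Injective ρ := fun a b h => Subtype.ext (Subtype.ext (Units.ext h))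
  have hpos : 0 < n := by
    by_contra h0
    haveI : Subsingleton V := Module.finrank_zero_iff.mp (by omega : finrank F V = 0)
    obtain ⟨x, hx⟩ := alt_ne_bot (r := r) (by omega)
    obtain ⟨g, rfl⟩ := hπ x
    exact hx (by rw [hinj (a₁ := g) (a₂ := 1) (LinearMap.ext fun v => Subsingleton.elim _ _), map_one])
  haveI := alt_simple (r := r) (by omega)
  have hperf : commutator M = ⊤ := by
    refine hmin _ ?_
    rw [commutator_def, Subgroup.map_commutator, Subgroup.map_top_of_surjective π hπ, ← commutator_def]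
    refine (IsSimpleGroup.eq_bot_or_eq_top_of_normal _ inferInstance).resolve_left fun h => ?_
    obtain ⟨x, hx⟩ := alt_ne_bot (r := r) (by omega)
    have hcen : x ∈ Subgroup.center (Alt r) := Subgroup.mem_center_iff.mpr fun y => by
      have : ⁅y, x⁆ ∈ commutator (Alt r) := Subgroup.commutator_mem_commutator (Subgroup.mem_top _) (Subgroup.mem_top _)
      rw [h, Subgroup.mem_bot, commutatorElement_eq_one_iff_mul_comm] at this
      exact this
    rcases IsSimpleGroup.eq_bot_or_eq_top_of_normal (Subgroup.center (Alt r)) inferInstance with hb | ht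
    · exact hx (Subgroup.mem_bot.mp (hb ▸ hcen))
    · obtain ⟨g, hg⟩ := exists_not_commute (r := r) (by omega) (S := {⟨0, by omega⟩, ⟨1, by omega⟩, ⟨2, by omega⟩})
        (x := sw (⟨0, by omega⟩ : Fin r) ⟨1, by omega⟩ ⟨1, by omega⟩ ⟨2, by omega⟩ (by simp) (by simp))
        (by rw [Finset.card_compl, Fintype.card_fin]
            have := Finset.card_le_three (a := (⟨0, by omega⟩ : Fin r)) (b := ⟨1, by omega⟩) (c := ⟨2, by omega⟩)
            omega)
        (sw_mem _ _ (by simp) (by simp) (by simp) (by simp)) (fun e => by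
          have := congrArg (fun q : Alt r => q.1 (⟨1, by omega⟩ : Fin r)) e
          simp [sw_apply, swap_apply_of_ne_of_ne] at this)
      exact hg (Subgroup.mem_center_iff.mp (ht ▸ Subgroup.mem_top _) g)
  -- irreducibility
  have hirr : ∀ W : Submodule F V, (∀ g, ∀ v ∈ W, ρ g v ∈ W) → W = ⊥ ∨ W = ⊤ := by
    intro W hW
    by_contra hne
    simp only [not_or] at hne
    have hW1 : finrank F W < n := hnV ▸ Submodule.finrank_lt hne.2
    have hW2 : finrank F (V ⧸ W) < n := by
      have := W.finrank_quotient_add_finrank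
      have : finrank F W ≠ 0 := fun h => hne.1 (Submodule.finrank_eq_zero.mp h)
      omega
    let τ₁ : M →* Module.End F W :=
      { toFun := fun g => (ρ g).restrict (hW g)
        map_one' := LinearMap.ext fun v => Subtype.ext (by simp)
        map_mul' := fun a b => LinearMap.ext fun v => Subtype.ext (by simp) }
    let τ₂ : M →* Module.End F (V ⧸ W) :=
      { toFun := fun g => W.mapQ W (ρ g) fun v hv => hW g v hv
        map_one' := Submodule.linearMap_qext _ (LinearMap.ext fun v => by simp)
        map_mul' := fun a b => Submodule.linearMap_qext _ (LinearMap.ext fun v => by simp) }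
    haveI := kerRep_normal τ₁
    haveI := kerRep_normal τ₂
    have k1 : kerRep τ₁ = ⊤ := (le_ker_or_top (by omega) hπ hmin _).resolve_left fun h => by
      have := ih _ hW1 F p r hr M π hπ W τ₁ (fun g hg => MonoidHom.mem_ker.mp (h (mem_kerRep.mpr hg))) rfl
      omega
    have k2 : kerRep τ₂ = ⊤ := (le_ker_or_top (by omega) hπ hmin _).resolve_left fun h => by
      have := ih _ hW2 F p r hr M π hπ (V ⧸ W) τ₂ (fun g hg => MonoidHom.mem_ker.mp (h (mem_kerRep.mpr hg))) rfl
      omega
    refine alt_two_prime (r := r) (p := p) (by omega) (fun a => ?_) (Fact.out)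
    obtain ⟨g, rfl⟩ := hπ a
    rw [← map_pow, show g ^ p = 1 from hinj ?_, map_one]
    rw [map_one]
    refine LinearMap.ext fun v => ?_
    have hd : ρ g v - v ∈ W := (Submodule.Quotient.eq W).mp
      (mem_kerRep.mp (k2 ▸ Subgroup.mem_top g) (Submodule.Quotient.mk v))
    have hfix : ρ g (ρ g v - v) = ρ g v - v :=
      congrArg Subtype.val (mem_kerRep.mp (k1 ▸ Subgroup.mem_top g) ⟨_, hd⟩)
    have hpow : ∀ m : ℕ, ρ (g ^ m) v = v + (m : F) • (ρ g v - v) := by
      intro m
      induction m with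
      | zero => simp
      | succ m ihm =>
        rw [pow_succ', rho_mul_apply, ihm, map_add, map_smul, hfix]
        push_cast
        module
    rw [hpow, CharP.cast_eq_zero, zero_smul, add_zero]
    rfl
  have hscal : ∀ A : Subgroup M, A.Normal → (∀ a ∈ A, ∀ b ∈ A, a * b = b * a) → A ≤ Subgroup.center M ∧
      ∀ a ∈ A, ∃ s : F, ∀ v, ρ a v = s • v := fun A hA hc => by
    have h := @scalar_of_abelian F _ V _ _ M _ r π ρ _ _ _ hr hπ hmin (by omega) hirr (by omega) A hA hc
    exact ⟨central_of_scalar hinj h, h⟩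
  have hKc : π.ker ≤ Subgroup.center M :=
    ker_central (p := p) hr hπ hmin hinj (by omega) hscal hperf fun m hm => ih m (by omega)
  haveI : π.ker.Normal := MonoidHom.normal_ker π
  have hK2 : Nat.card π.ker ≤ 2 := Cfsg.Agent.S0892.result r (by omega) (by omega) (by omega) π.ker hKc
    (by rw [hperf]; exact le_top) (QuotientGroup.quotientKerEquivOfSurjective π hπ)
  have hK0 : 0 < Nat.card π.ker := Nat.card_pos
  rcases (by omega : Nat.card π.ker = 1 ∨ Nat.card π.ker = 2) with h1 | h2
  · have hπinj : Function.Injective π := (MonoidHom.ker_eq_bot_iff π).mp (Subgroup.card_eq_one.mp h1)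
    let e : M ≃* Alt r := MulEquiv.ofBijective π ⟨hπinj, hπ⟩
    obtain ⟨x, hx⟩ := alt_ne_bot (r := r) (by omega)
    have := linear_bound F r hr V (ρ.comp e.symm.toMonoidHom) ⟨x, fun h => hx (e.symm.injective
      ((hinj (h.trans (map_one ρ).symm)).trans (map_one e.symm).symm))⟩
    exact hconcl (by rw [← hnV]; exact this)
  let πp : M →* Perm (Fin r) := (alternatingGroup (Fin r)).subtype.comp π
  have hkp : πp.ker = π.ker := by
    ext g
    simp [πp]
  have hspin : ∀ c : M, π c = 1 → c ≠ 1 → ∀ v, ρ c v = -v := by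
    intro c hc hc1
    obtain ⟨s, hs⟩ := (hscal π.ker inferInstance fun a _ b hb => Subgroup.mem_center_iff.mp (hKc hb) a).2 c hc
    haveI : Nontrivial V := Module.nontrivial_of_finrank_pos (R := F) (by omega)
    have hcc : c * c = 1 := by
      have := pow_card_eq_one' (x := (⟨c, hc⟩ : π.ker))
      rw [h2, pow_two] at this
      exact congrArg Subtype.val this
    obtain ⟨v, hv⟩ := exists_ne (0 : V)
    have e : s * s = 1 := by
      have e1 : ρ (c * c) v = (s * s) • v := by rw [rho_mul_apply, hs, hs, smul_smul]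
      rw [hcc, rho_one_apply] at e1
      by_contra hne
      exact hv ((smul_eq_zero.mp (show (s * s - 1) • v = 0 by rw [sub_smul, one_smul, ← e1, sub_self])).resolve_left
        (sub_ne_zero.mpr hne))
    rcases mul_self_eq_one_iff.mp e with rfl | rfl
    · exact absurd (hinj (a₁ := c) (a₂ := 1) (LinearMap.ext fun w => by rw [hs, one_smul, rho_one_apply])) hc1
    · intro w
      rw [hs, neg_one_smul]
  have hcover : CfsgAltCover.Anti.IsCover πp :=
    { perfect := hperf
      central := hkp ▸ hKc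
      card := hkp ▸ h2
      even := fun g => (π g).2
      onto := fun σ hσ => (hπ ⟨σ, hσ⟩).imp fun g hg => congrArg Subtype.val hg }
  have hpi : ∀ c, πp c = 1 ↔ π c = 1 := fun c => by simp [πp]
  have h2F : (2 : F) ≠ 0 := fun h2F => by
    obtain ⟨⟨c, hc⟩, hc1⟩ : ∃ c : π.ker, c ≠ 1 := by
      haveI : Nontrivial π.ker := Finite.one_lt_card_iff_nontrivial.mp (by omega)
      exact exists_ne 1
    refine hc1 (Subtype.ext (hinj (LinearMap.ext fun w => ?_)))
    show ρ c w = ρ (1 : M) w
    by_cases h1 : c = 1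
    · rw [h1]
    rw [hspin c hc h1 w]
    rw [rho_one_apply, neg_eq_iff_add_eq_zero, ← two_smul F, h2F, zero_smul]
  have := Spin.spin_bound (π := πp) (ρ := ρ) ⟨hcover, fun c hc => hspin c ((hpi c).mp hc)⟩
    (fun g hg => by
      rw [hinj (a₁ := g) (a₂ := 1) (LinearMap.ext fun v => by rw [hg, rho_one_apply]), map_one]) h2F hr
    fun _ H _ _ π' hπ' W _ _ _ σ hσ hlt' => (ih _ (by omega) F p (r - 8) (by omega) H π' hπ' W σ hσ rfl).1
  exact hconcl (by rw [← hnV]; exact this)

end CfsgLib.AltLinear
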