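import Cfsg.Agent.Lib.AltLinear.Eigen
import Cfsg.Agent.Lib.AltCover.Anti

/-!
Faithful modules for a perfect double cover of an alternating group, in which the central involution is `-1`: the
dimension is eight times that of a weight space for three commuting involutions over eight points.
-/

set_option autoImplicit false
set_option linter.unusedSectionVars false

namespace CfsgLib.AltLinear.Spin

open Module Equiv CfsgAltCover.Anti

variable {r : ℕ} {F : Type} [Field F] {V : Type} [AddCommGroup V] [Module F V] [FiniteDimensional F V]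
  {G : Type} [Group G] [Finite G] {π : G →* Perm (Fin r)}

/-- A module in which the nontrivial kernel element acts as `-1`. -/
structure IsSpin (π : G →* Perm (Fin r)) (ρ : G →* Module.End F V) : Prop where
  cover : IsCover π
  neg : ∀ c : G, π c = 1 → c ≠ 1 → ∀ v, ρ c v = -v

variable {ρ : G →* Module.End F V}

theorem ker_unique (h : IsCover π) {u v : G} (hu : π u = 1) (hv : π v = 1) (hu1 : u ≠ 1) (hv1 : v ≠ 1) : u = v := by
  classical
  by_contra hne
  haveI := Fintype.ofFinite π.ker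
  have hc := h.card
  rw [Nat.card_eq_fintype_card] at hc
  have : ({1, ⟨u, hu⟩, ⟨v, hv⟩} : Finset π.ker).card = 3 := Finset.card_eq_three.mpr
    ⟨_, _, _, fun e => hu1 (congrArg Subtype.val e).symm, fun e => hv1 (congrArg Subtype.val e).symm,
      fun e => hne (congrArg Subtype.val e), rfl⟩
  have := ({1, ⟨u, hu⟩, ⟨v, hv⟩} : Finset π.ker).card_le_univ
  omega

theorem IsSpin.scalar (h : IsSpin π ρ) {c : G} (hc : π c = 1) : ∃ s : F, (s = 1 ∨ s = -1) ∧ ∀ v, ρ c v = s • v := by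
  by_cases h1 : c = 1
  · exact ⟨1, Or.inl rfl, fun v => by rw [h1, rho_one_apply, one_smul]⟩
  · exact ⟨-1, Or.inr rfl, fun v => by rw [h.neg c hc h1, neg_one_smul]⟩

theorem IsSpin.same (h : IsSpin π ρ) {x y : G} (e : π x = π y) :
    ∃ s : F, (s = 1 ∨ s = -1) ∧ ∀ v, ρ x v = s • ρ y v := by
  obtain ⟨c, hc, rfl⟩ := h.cover.lifts e
  obtain ⟨s, hs, hv⟩ := h.scalar hc
  exact ⟨s, hs, fun v => by rw [rho_mul_apply, hv, map_smul]⟩

theorem IsSpin.anti (h : IsSpin π ρ) {x y : G} (e : π x * π y = π y * π x) (hne : ¬ Commute x y) (v : V) :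
    ρ x (ρ y v) = -ρ y (ρ x v) := by
  obtain ⟨c, hc, hxy⟩ := h.cover.lifts (x := x * y) (y := y * x) (by rw [map_mul, map_mul, e])
  have hc1 : c ≠ 1 := fun e1 => hne (by rw [commute_iff_eq, hxy, e1, mul_one])
  rw [← rho_mul_apply, hxy, rho_mul_apply, h.neg c hc hc1, map_neg, rho_mul_apply]

theorem comm_apply {x y : G} (h : Commute x y) (v : V) : ρ x (ρ y v) = ρ y (ρ x v) := by
  rw [← rho_mul_apply, h.eq, rho_mul_apply]

theorem commute_pairs (h : IsCover π) {X X' Y Y' : G} (h1 : π X * π Y = π Y * π X) (h2 : π X' * π Y' = π Y' * π X')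
    (n1 : ¬ Commute X Y) (n2 : ¬ Commute X' Y') (c1 : Commute X Y') (c2 : Commute X' Y) :
    Commute (X * X') (Y * Y') := by
  obtain ⟨c, hc, e⟩ := h.lifts (x := X * Y) (y := Y * X) (by rw [map_mul, map_mul, h1])
  obtain ⟨d, hd, e'⟩ := h.lifts (x := X' * Y') (y := Y' * X') (by rw [map_mul, map_mul, h2])
  have hc1 : c ≠ 1 := fun e1 => n1 (by rw [commute_iff_eq, e, e1, mul_one])
  have hd1 : d ≠ 1 := fun e1 => n2 (by rw [commute_iff_eq, e', e1, mul_one])
  obtain rfl := ker_unique h hc hd hc1 hd1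
  have k := h.cen hc
  show X * X' * (Y * Y') = Y * Y' * (X * X')
  calc X * X' * (Y * Y') = X * (X' * Y) * Y' := by group
    _ = (X * Y) * (X' * Y') := by rw [c2.eq]; group
    _ = Y * X * c * (Y' * X' * c) := by rw [e, e']
    _ = Y * X * ((c * Y') * X') * c := by group
    _ = Y * X * (Y' * (c * X')) * c := by rw [← k Y']; group
    _ = Y * (X * Y') * X' * (c * c) := by rw [← k X']; group
    _ = Y * Y' * (X * X') := by rw [h.sq hc, c1.eq]; group

theorem commute_apart (h : IsCover π) {X Y : G} (hY : Perm.sign (π Y) = 1)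
    (hd : ∀ z, π Y z ≠ z → π X z = z) : Commute X Y :=
  h.commute_disjoint X (π Y) hY hd Y rfl

/-- The action on the first eight points. -/
noncomputable def eight (hr : 8 ≤ r) : Perm (Fin 8) →* Perm (Fin r) :=
  Perm.viaEmbeddingHom (Fin.castLEEmb hr)

theorem eight_sign (hr : 8 ≤ r) (σ : Perm (Fin 8)) : Perm.sign (eight hr σ) = Perm.sign σ := by
  show Perm.sign (Perm.viaEmbedding σ (Fin.castLEEmb hr)) = _
  simp only [Perm.viaEmbedding]
  convert Perm.sign_extendDomain σ (Equiv.ofInjective (Fin.castLEEmb hr).1 (Fin.castLEEmb hr).2)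

theorem eight_apply (hr : 8 ≤ r) (σ : Perm (Fin 8)) (i : Fin 8) :
    eight hr σ (Fin.castLE hr i) = Fin.castLE hr (σ i) :=
  Perm.viaEmbedding_apply σ (Fin.castLEEmb hr) i

theorem eight_fix (hr : 8 ≤ r) (σ : Perm (Fin 8)) {z : Fin r} (hz : 8 ≤ z.1) : eight hr σ z = z :=
  Perm.viaEmbedding_apply_of_notMem σ (Fin.castLEEmb hr) z (by
    rintro ⟨i, rfl⟩
    exact absurd hz (not_le.mpr i.2))

theorem eight_pair (hr : 8 ≤ r) (a b c d : Fin 8) :
    eight hr (swap a b * swap c d) =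
      swap (Fin.castLE hr a) (Fin.castLE hr b) * swap (Fin.castLE hr c) (Fin.castLE hr d) := by
  have key : ∀ x y : Fin 8, eight hr (swap x y) = swap (Fin.castLE hr x) (Fin.castLE hr y) := by
    intro x y
    ext z
    by_cases hz : z.1 < 8
    · obtain ⟨i, rfl⟩ : ∃ i, Fin.castLE hr i = z := ⟨⟨z.1, hz⟩, rfl⟩
      rw [eight_apply, (Fin.castLE_injective hr).swap_apply]
    · rw [eight_fix hr _ (by omega), swap_apply_of_ne_of_ne]
      · exact fun e => hz (e ▸ x.2)
      · exact fun e => hz (e ▸ y.2)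
  rw [map_mul, key, key]

/-- The chosen lifts over eight points and their relations in the module. -/
structure Eight (π : G →* Perm (Fin r)) (ρ : G →* Module.End F V) (A₁ A₂ A₃ g₁ g₂ g₃ : G) (σ σ' : F) : Prop where
  sq₁ : ∀ v, ρ A₁ (ρ A₁ v) = v
  sq₂ : ∀ v, ρ A₂ (ρ A₂ v) = v
  sq₃ : ∀ v, ρ A₃ (ρ A₃ v) = v
  c₁₂ : Commute A₁ A₂
  c₁₃ : Commute A₁ A₃
  c₂₃ : Commute A₂ A₃
  g₂₁ : ∀ v, ρ A₁ (ρ g₂ v) = -ρ g₂ (ρ A₁ v)
  g₁₁ : ∀ v, ρ A₁ (ρ g₁ v) = ρ g₁ (ρ A₁ v)
  g₁₂ : ∀ v, ρ A₂ (ρ g₁ v) = -ρ g₁ (ρ A₂ v)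
  g₁₃ : ∀ v, ρ A₃ (ρ g₁ v) = σ • ρ g₁ (ρ A₁ (ρ A₃ v))
  g₃₁ : ∀ v, ρ A₁ (ρ g₃ v) = ρ g₃ (ρ A₁ v)
  g₃₃ : ∀ v, ρ A₃ (ρ g₃ v) = -ρ g₃ (ρ A₃ v)
  g₃₂ : ∀ v, ρ A₂ (ρ g₃ v) = σ' • ρ g₃ (ρ A₁ (ρ A₂ v))
  sgn : (σ = 1 ∨ σ = -1) ∧ (σ' = 1 ∨ σ' = -1)
  supp : ∀ x ∈ ([A₁, A₂, A₃, g₁, g₂, g₃] : List G), ∀ z : Fin r, 8 ≤ z.1 → π x z = z

theorem eight_facts :
    let u : Perm (Fin 8) := swap 0 1 * swap 2 3
    let u' : Perm (Fin 8) := swap 4 5 * swap 6 7
    let v : Perm (Fin 8) := swap 0 2 * swap 1 3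
    let v' : Perm (Fin 8) := swap 4 6 * swap 5 7
    let p : Perm (Fin 8) := swap 0 1 * swap 4 5
    let p' : Perm (Fin 8) := swap 2 3 * swap 6 7
    let q : Perm (Fin 8) := swap 0 4 * swap 1 5
    let q' : Perm (Fin 8) := swap 2 6 * swap 3 7
    let w : Perm (Fin 8) := swap 0 2 * swap 4 6
    let w' : Perm (Fin 8) := swap 1 3 * swap 5 7
    let x : Perm (Fin 8) := swap 0 4 * swap 2 6
    let x' : Perm (Fin 8) := swap 1 5 * swap 3 7
    let k : Perm (Fin 8) := swap 1 2 * swap 2 4 * (swap 3 6 * swap 6 5)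
    let c : Perm (Fin 8) := swap 0 1 * swap 1 2
    u * v = v * u ∧ u' * v' = v' * u' ∧ p * q = q * p ∧ p' * q' = q' * p' ∧ w * x = x * w ∧ w' * x' = x' * w' ∧
      p * p' = u * u' ∧ w * w' = v * v' ∧ x * x' = q * q' ∧ u * u = 1 ∧ v * v = 1 ∧
      c * u * c⁻¹ = u * v ∧ c * c * u * (c * c)⁻¹ = v ∧ q * q' * u * (q * q')⁻¹ = u' ∧
      k * (u * u') * k⁻¹ = v * v' ∧ k * (v * v') * k⁻¹ = q * q' ∧
      u * (q * q') = u * u' * (q * q') * u ∧ p * (v * v') = u * u' * (v * v') * p ∧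
      Perm.sign k = 1 ∧ Perm.sign c = 1 := by
  decide +kernel

/-- The lifts exist. -/
theorem exists_eight (h : IsSpin π ρ) (hr : 8 ≤ r) :
    ∃ A₁ A₂ A₃ g₁ g₂ g₃ σ σ', Eight π ρ A₁ A₂ A₃ g₁ g₂ g₃ σ σ' := by
  have hcov := h.cover
  let E := eight hr
  have lift : ∀ a b c d : Fin 8, a ≠ b → c ≠ d → ∃ X : G, π X = E (swap a b * swap c d) := fun a b c d h1 h2 =>
    hcov.onto _ (by rw [eight_sign, map_mul, Perm.sign_swap h1, Perm.sign_swap h2]; rfl)
  have nc : ∀ a b c d : Fin 8, [a, b, c, d].Nodup → ∀ X Y : G, π X = E (swap a b * swap c d) →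
      π Y = E (swap a c * swap b d) → ¬ Commute X Y := fun a b c d hnd X Y hX hY =>
    hcov.not_commute (by omega) (a := Fin.castLE hr a) (b := Fin.castLE hr b) (c := Fin.castLE hr c)
      (d := Fin.castLE hr d) (by simpa using hnd.map (Fin.castLE_injective hr))
      (hX.trans (eight_pair hr a b c d)) (hY.trans (eight_pair hr a c b d))
  have apart : ∀ (s t : Perm (Fin 8)) (X Y : G), π X = E s → π Y = E t → (∀ i, t i = i ∨ s i = i) →
      Commute X Y := fun s t X Y hX hY hd => commute_apart hcov (hcov.even Y) fun z hz => by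
    rw [hX]
    by_cases hz8 : z.1 < 8
    · obtain ⟨i, rfl⟩ : ∃ i, Fin.castLE hr i = z := ⟨⟨z.1, hz8⟩, rfl⟩
      rcases hd i with e | e
      · exact absurd (by rw [hY, eight_apply, e]) hz
      · rw [eight_apply, e]
    · exact eight_fix hr s (by omega)
  obtain ⟨U, hU⟩ := lift 0 1 2 3 (by decide) (by decide)
  obtain ⟨U', hU'⟩ := lift 4 5 6 7 (by decide) (by decide)
  obtain ⟨W, hW⟩ := lift 0 2 1 3 (by decide) (by decide)
  obtain ⟨W', hW'⟩ := lift 4 6 5 7 (by decide) (by decide)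
  obtain ⟨P, hP⟩ := lift 0 1 4 5 (by decide) (by decide)
  obtain ⟨P', hP'⟩ := lift 2 3 6 7 (by decide) (by decide)
  obtain ⟨Q, hQ⟩ := lift 0 4 1 5 (by decide) (by decide)
  obtain ⟨Q', hQ'⟩ := lift 2 6 3 7 (by decide) (by decide)
  obtain ⟨R, hR⟩ := lift 0 2 4 6 (by decide) (by decide)
  obtain ⟨R', hR'⟩ := lift 1 3 5 7 (by decide) (by decide)
  obtain ⟨S, hS⟩ := lift 0 4 2 6 (by decide) (by decide)
  obtain ⟨S', hS'⟩ := lift 1 5 3 7 (by decide) (by decide)
  obtain ⟨e1, e2, e3, e4, e5, e6, e7, e8, e9, e10, e11, e12, e13, e14, e15, e16, e17, e18, e19, e20⟩ := eight_facts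
  have heq : ∀ {s t : Perm (Fin 8)}, s = t → E s = E t := fun e => congrArg E e
  have n1 := nc 0 1 2 3 (by decide) U W hU hW
  have n2 := nc 4 5 6 7 (by decide) U' W' hU' hW'
  have n3 := nc 0 1 4 5 (by decide) P Q hP hQ
  have n4 := nc 2 3 6 7 (by decide) P' Q' hP' hQ'
  have n5 := nc 0 2 4 6 (by decide) R S hR hS
  have n6 := nc 1 3 5 7 (by decide) R' S' hR' hS'
  have p1 : π U * π W = π W * π U := by simp only [hU, hW, ← map_mul, e1]
  have p2 : π U' * π W' = π W' * π U' := by simp only [hU', hW', ← map_mul, e2]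
  have p3 : π P * π Q = π Q * π P := by simp only [hP, hQ, ← map_mul, e3]
  have p4 : π P' * π Q' = π Q' * π P' := by simp only [hP', hQ', ← map_mul, e4]
  have p5 : π R * π S = π S * π R := by simp only [hR, hS, ← map_mul, e5]
  have p6 : π R' * π S' = π S' * π R' := by simp only [hR', hS', ← map_mul, e6]
  have cUU' : Commute U U' := apart _ _ U U' hU hU' (by decide)
  have cWW' : Commute W W' := apart _ _ W W' hW hW' (by decide)
  have cUW' : Commute U W' := apart _ _ U W' hU hW' (by decide)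
  have cU'W : Commute U' W := apart _ _ U' W hU' hW (by decide)
  have cPP' : Commute P P' := apart _ _ P P' hP hP' (by decide)
  have cPQ' : Commute P Q' := apart _ _ P Q' hP hQ' (by decide)
  have cP'Q : Commute P' Q := apart _ _ P' Q hP' hQ (by decide)
  have cQQ' : Commute Q Q' := apart _ _ Q Q' hQ hQ' (by decide)
  have cRS' : Commute R S' := apart _ _ R S' hR hS' (by decide)
  have cR'S : Commute R' S := apart _ _ R' S hR' hS (by decide)
  have t1 : π (P * P') = π (U * U') := by simp only [map_mul, hP, hP', hU, hU']; simp only [← map_mul]; exact heq (by decide +kernel)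
  have t2 : π (R * R') = π (W * W') := by simp only [map_mul, hR, hR', hW, hW']; simp only [← map_mul]; exact heq (by decide +kernel)
  have t3 : π (S * S') = π (Q * Q') := by simp only [map_mul, hS, hS', hQ, hQ']; simp only [← map_mul]; exact heq (by decide +kernel)
  have c12 : Commute (U * U') (W * W') := commute_pairs hcov p1 p2 n1 n2 cUW' cU'W
  have c13 : Commute (U * U') (Q * Q') :=
    hcov.commute_congr t1.symm rfl (commute_pairs hcov p3 p4 n3 n4 cPQ' cP'Q)
  have c23 : Commute (W * W') (Q * Q') :=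
    hcov.commute_congr t2.symm t3.symm (commute_pairs hcov p5 p6 n5 n6 cRS' cR'S)
  -- the squares
  obtain ⟨K, hK⟩ := hcov.onto (E (swap 1 2 * swap 2 4 * (swap 3 6 * swap 6 5)))
    (by rw [eight_sign]; exact e19)
  obtain ⟨C, hC⟩ := hcov.onto (E (swap 0 1 * swap 1 2)) (by rw [eight_sign]; exact e20)
  have sqK : ∀ {K X Y : G}, π Y = π K * π X * (π K)⁻¹ → π (X * X) = 1 → Y * Y = X * X := fun {K X Y} e e1 => by
    rw [hcov.sq_congr (x := Y) (y := K * X * K⁻¹) (by rw [map_mul, map_mul, map_inv, e]), conj_mul,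
      hcov.cen e1 K, mul_inv_cancel_right]
  have hUU : π (U * U) = 1 := by rw [map_mul, hU, ← map_mul, e10, map_one]
  have hUne : U * U ≠ 1 := fun e => by
    have a1 : W * W = U * U := sqK (K := C * C) (by
      simp only [map_mul, hC, hU, hW]; simp only [← map_mul, ← map_inv]; exact heq (by decide +kernel)) hUU
    have a2 : (U * W) * (U * W) = U * U := sqK (K := C) (by
      simp only [map_mul, hC, hU, hW]; simp only [← map_mul, ← map_inv]; exact heq (by decide +kernel)) hUU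
    rw [e] at a1 a2
    refine n1 ?_
    have hi : ∀ g : G, g * g = 1 → g⁻¹ = g := fun g hg => inv_eq_of_mul_eq_one_left hg
    calc U * W = (U * W)⁻¹ := (hi _ a2).symm
      _ = W * U := by rw [mul_inv_rev, hi U e, hi W a1]
  have hU'U : U' * U' = U * U := sqK (K := Q * Q') (by
    simp only [map_mul, hQ, hQ', hU, hU']; simp only [← map_mul, ← map_inv]; exact heq (by decide +kernel)) hUU
  have s1 : (U * U') * (U * U') = 1 := by
    rw [cUU'.symm.mul_mul_mul_comm, hU'U]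
    exact hcov.sq hUU
  have s2 : (W * W') * (W * W') = 1 := by
    rw [sqK (K := K) (X := U * U') (by
      simp only [map_mul, hK, hU, hU', hW, hW']
      simp only [← map_mul, ← map_inv]; exact heq (by decide +kernel)) (by rw [s1, map_one]), s1]
  have s3 : (Q * Q') * (Q * Q') = 1 := by
    rw [sqK (K := K) (X := W * W') (by
      simp only [map_mul, hK, hQ, hQ', hW, hW']
      simp only [← map_mul, ← map_inv]; exact heq (by decide +kernel)) (by rw [s2, map_one]), s2]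
  obtain ⟨σ, hσ, hg13⟩ := h.same (x := (Q * Q') * U) (y := U * ((U * U') * (Q * Q'))) (by
    simp only [map_mul, hQ, hQ', hU, hU']
    simp only [← map_mul]
    refine heq ?_
    decide +kernel)
  obtain ⟨σ', hσ', hg32⟩ := h.same (x := (W * W') * P) (y := P * ((U * U') * (W * W'))) (by
    simp only [map_mul, hW, hW', hU, hU', hP]
    simp only [← map_mul]
    refine heq ?_
    decide +kernel)
  refine ⟨U * U', W * W', Q * Q', U, W, P, σ, σ', ?_, ?_, ?_, c12, c13, c23, ?_, ?_, ?_, ?_, ?_, ?_, ?_, ⟨hσ, hσ'⟩, ?_⟩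
  · exact fun v => by rw [← rho_mul_apply, s1, rho_one_apply]
  · exact fun v => by rw [← rho_mul_apply, s2, rho_one_apply]
  · exact fun v => by rw [← rho_mul_apply, s3, rho_one_apply]
  · intro v
    rw [rho_mul_apply, comm_apply cU'W v, h.anti p1 n1, rho_mul_apply]
  · intro v
    exact comm_apply ((Commute.refl U).mul_left cUU'.symm) v
  · intro v
    rw [rho_mul_apply, comm_apply cUW'.symm v, h.anti p1.symm (fun e => n1 e.symm), rho_mul_apply]
  · intro v
    rw [← rho_mul_apply, hg13, rho_mul_apply, rho_mul_apply]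
  · intro v
    exact comm_apply (hcov.commute_congr t1.symm rfl ((Commute.refl P).mul_left cPP'.symm)) v
  · intro v
    rw [rho_mul_apply, comm_apply cPQ'.symm v, h.anti p3.symm (fun e => n3 e.symm), rho_mul_apply]
  · intro v
    rw [← rho_mul_apply, hg32, rho_mul_apply, rho_mul_apply]
  · intro x hx z hz
    simp only [List.mem_cons, List.not_mem_nil, or_false] at hx
    rcases hx with rfl | rfl | rfl | rfl | rfl | rfl <;>
      simp only [map_mul, hU, hU', hW, hW', hQ, hQ', hP, Perm.mul_apply, E, eight_fix hr _ hz]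

/-- An involution splits a stable subspace. -/
theorem split (h2 : (2 : F) ≠ 0) (A : G) (hA : ∀ v, ρ A (ρ A v) = v) (N : Submodule F V)
    (hN : ∀ v ∈ N, ρ A v ∈ N) :
    finrank F N = finrank F ↥(N ⊓ (ρ A).eigenspace 1) + finrank F ↥(N ⊓ (ρ A).eigenspace (-1)) := by
  rw [← finrank_sup_of_inf]
  · refine congrArg (fun M : Submodule F V => finrank F M) ?_
    refine le_antisymm (show N ≤ _ from fun v hv => ?_) (sup_le inf_le_left inf_le_left)
    have e : v = (2 : F)⁻¹ • ((v + ρ A v) + (v - ρ A v)) := by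
      rw [show (v + ρ A v) + (v - ρ A v) = (2 : F) • v by module, inv_smul_smul₀ h2]
    rw [e]
    refine Submodule.smul_mem _ _ (add_mem (Submodule.mem_sup_left ⟨add_mem hv (hN v hv), ?_⟩)
      (Submodule.mem_sup_right ⟨sub_mem hv (hN v hv), ?_⟩))
    · show v + ρ A v ∈ (ρ A).eigenspace 1
      rw [Module.End.mem_eigenspace_iff, map_add, hA, one_smul, add_comm]
    · show v - ρ A v ∈ (ρ A).eigenspace (-1)
      rw [Module.End.mem_eigenspace_iff, map_sub, hA, neg_one_smul, neg_sub]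
  · refine eq_bot_iff.mpr fun v ⟨⟨_, h1⟩, ⟨_, h1'⟩⟩ => ?_
    rw [SetLike.mem_coe, Module.End.mem_eigenspace_iff] at h1 h1'
    refine (Submodule.mem_bot F).mpr ((smul_eq_zero.mp (show (2 : F) • v = 0 from ?_)).resolve_left h2)
    linear_combination (norm := module) h1' - h1

/-- The weight space. -/
def wt3 (ρ : G →* Module.End F V) (A₁ A₂ A₃ : G) (x y z : F) : Submodule F V :=
  (ρ A₁).eigenspace x ⊓ (ρ A₂).eigenspace y ⊓ (ρ A₃).eigenspace z

theorem mem_wt3 {A₁ A₂ A₃ : G} {x y z : F} {v : V} :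
    v ∈ wt3 ρ A₁ A₂ A₃ x y z ↔ ρ A₁ v = x • v ∧ ρ A₂ v = y • v ∧ ρ A₃ v = z • v := by
  simp [wt3, Module.End.mem_eigenspace_iff, and_assoc]

/-- A subspace stable under the chosen lifts has eight times the dimension of one of its weight spaces. -/
theorem Eight.finrank_eq (h2 : (2 : F) ≠ 0) {A₁ A₂ A₃ g₁ g₂ g₃ : G} {σ σ' : F}
    (e : Eight π ρ A₁ A₂ A₃ g₁ g₂ g₃ σ σ') (N : Submodule F V)
    (hN : ∀ x ∈ ([A₁, A₂, A₃, g₁, g₂, g₃] : List G), ∀ v ∈ N, ρ x v ∈ N) :
    finrank F N = 8 * finrank F ↥(N ⊓ wt3 ρ A₁ A₂ A₃ σ 1 1) := by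
  have hσ2 : σ * σ = 1 := by rcases e.sgn.1 with rfl | rfl <;> simp
  have hσ'2 : σ' * σ' = 1 := by rcases e.sgn.2 with rfl | rfl <;> simp
  have half : finrank F N = 2 * finrank F ↥(N ⊓ (ρ A₁).eigenspace σ) := by
    have hs := split h2 A₁ e.sq₁ N (hN A₁ (by simp))
    have hm : ∀ t : F, ∀ v ∈ N ⊓ (ρ A₁).eigenspace t, ρ g₂ v ∈ N ⊓ (ρ A₁).eigenspace (-t) := fun t v hv => by
      refine ⟨hN g₂ (by simp) v hv.1, ?_⟩
      have := Module.End.mem_eigenspace_iff.mp hv.2
      rw [SetLike.mem_coe, Module.End.mem_eigenspace_iff, e.g₂₁, this, map_smul, neg_smul]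
    have d1 := finrank_le_of_mapsTo ρ g₂ (hm 1)
    have d2 := finrank_le_of_mapsTo ρ g₂ (hm (-1))
    rw [neg_neg] at d2
    rcases e.sgn.1 with rfl | rfl <;> omega
  let M : F → F → Submodule F V := fun y z => N ⊓ wt3 ρ A₁ A₂ A₃ σ y z
  have m1 : ∀ y z : F, finrank F (M y z) ≤ finrank F (M (-y) z) := fun y z =>
    finrank_le_of_mapsTo ρ g₁ fun v hv => by
      obtain ⟨a1, a2, a3⟩ := mem_wt3.mp hv.2
      refine ⟨hN g₁ (by simp) v hv.1, mem_wt3.mpr ⟨?_, ?_, ?_⟩⟩
      · rw [e.g₁₁, a1, map_smul]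
      · rw [e.g₁₂, a2, map_smul, neg_smul]
      · rw [e.g₁₃, a3, map_smul, a1, map_smul, map_smul, smul_smul, smul_smul]
        congr 1
        linear_combination z * hσ2
  have m3 : ∀ y z : F, finrank F (M y z) ≤ finrank F (M (σ' * σ * y) (-z)) := fun y z =>
    finrank_le_of_mapsTo ρ g₃ fun v hv => by
      obtain ⟨a1, a2, a3⟩ := mem_wt3.mp hv.2
      refine ⟨hN g₃ (by simp) v hv.1, mem_wt3.mpr ⟨?_, ?_, ?_⟩⟩
      · rw [e.g₃₁, a1, map_smul]
      · rw [e.g₃₂, a2, map_smul, a1, map_smul, map_smul, smul_smul, smul_smul]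
        congr 1
        ring
      · rw [e.g₃₃, a3, map_smul, neg_smul]
  have hy : ∀ z : F, finrank F (M (-1) z) = finrank F (M 1 z) := fun z => by
    have := m1 1 z
    have := m1 (-1) z
    rw [neg_neg] at this
    omega
  have hs : ∀ t : F, (t = 1 ∨ t = -1) → ∀ z, finrank F (M t z) = finrank F (M 1 z) := by
    rintro t (rfl | rfl) z
    · rfl
    · exact hy z
  have hz : finrank F (M 1 (-1)) = finrank F (M 1 1) := by
    have ht : σ' * σ * 1 = 1 ∨ σ' * σ * 1 = -1 := by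
      rcases e.sgn.1 with rfl | rfl <;> rcases e.sgn.2 with rfl | rfl <;> simp
    have a := m3 1 1
    have b := m3 1 (-1)
    rw [hs _ ht] at a b
    rw [neg_neg] at b
    omega
  have cm : ∀ {X Y : G} {y : F} {v : V}, Commute X Y → ρ X v = y • v → ρ X (ρ Y v) = y • ρ Y v :=
    fun {X Y y v} hc hv => by rw [comm_apply hc, hv, map_smul]
  have l2 := split h2 A₂ e.sq₂ (N ⊓ (ρ A₁).eigenspace σ) fun v hv =>
    ⟨hN A₂ (by simp) v hv.1, Module.End.mem_eigenspace_iff.mpr (cm e.c₁₂ (Module.End.mem_eigenspace_iff.mp hv.2))⟩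
  have l3 : ∀ y : F, finrank F ↥(N ⊓ (ρ A₁).eigenspace σ ⊓ (ρ A₂).eigenspace y) =
      finrank F (M y 1) + finrank F (M y (-1)) := fun y => by
    have := split h2 A₃ e.sq₃ (N ⊓ (ρ A₁).eigenspace σ ⊓ (ρ A₂).eigenspace y) fun v hv =>
      ⟨⟨hN A₃ (by simp) v hv.1.1, Module.End.mem_eigenspace_iff.mpr (cm e.c₁₃ (Module.End.mem_eigenspace_iff.mp hv.1.2))⟩,
        Module.End.mem_eigenspace_iff.mpr (cm e.c₂₃ (Module.End.mem_eigenspace_iff.mp hv.2))⟩
    have hM : ∀ z : F, N ⊓ (ρ A₁).eigenspace σ ⊓ (ρ A₂).eigenspace y ⊓ (ρ A₃).eigenspace z = M y z := fun z => by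
      ext v; simp only [M, wt3, Submodule.mem_inf]; tauto
    rw [this, hM, hM]
  rw [l3, l3] at l2
  have := hy 1
  have := hy (-1)
  show finrank F N = 8 * finrank F (M 1 1)
  omega

end CfsgLib.AltLinear.Spin
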