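import Cfsg.Agent.Lib.AltLinear.SpinEight

/-!
A perfect double cover of the alternating group of degree ten has no faithful module of dimension at most eight,
the central involution acting as `-1`, unless the characteristic is two or five.
-/

set_option autoImplicit false
set_option linter.unusedSectionVars false

namespace CfsgLib.AltLinear.Spin

open Module Equiv CfsgAltCover.Anti

variable {F : Type} [Field F] {V : Type} [AddCommGroup V] [Module F V] [FiniteDimensional F V]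
  {G : Type} [Group G]

theorem pow_apply_eigen (ρ : G →* Module.End F V) (x : G) {μ : F} {v : V} (h : ρ x v = μ • v) (n : ℕ) :
    ρ (x ^ n) v = μ ^ n • v := by
  induction n with
  | zero => simp
  | succ n ih => rw [pow_succ, rho_mul_apply, h, map_smul, ih, smul_smul, pow_succ, mul_comm]

theorem sum_eigen_le (f : Module.End F V) (s : Finset F) :
    ∑ μ ∈ s, finrank F (f.eigenspace μ) ≤ finrank F V := by
  classical
  have key : ∑ μ ∈ s, finrank F (f.eigenspace μ) = finrank F ↥(⨆ μ ∈ s, f.eigenspace μ) := by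
    induction s using Finset.induction_on with
    | empty => rw [Finset.sum_empty, show (⨆ μ ∈ (∅ : Finset F), f.eigenspace μ) = ⊥ by simp, finrank_bot]
    | @insert a t ha ih =>
      rw [Finset.sum_insert ha, Finset.iSup_insert, ih, finrank_sup_of_inf]
      exact disjoint_iff.mp (((Module.End.eigenspaces_iSupIndep f).disjoint_biSup (y := (↑t : Set F)) (by simpa using ha)))
  rw [key]
  exact Submodule.finrank_le _

theorem exists_common (ρ : G →* Module.End F V) [IsAlgClosed F] (x : G) (N : Submodule F V) (hN : N ≠ ⊥)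
    (hst : ∀ v ∈ N, ρ x v ∈ N) : ∃ μ : F, ∃ v ∈ N, v ≠ 0 ∧ ρ x v = μ • v := by
  haveI : Nontrivial N := Submodule.nontrivial_iff_ne_bot.mpr hN
  obtain ⟨μ, hμ⟩ := Module.End.exists_eigenvalue ((ρ x).restrict hst)
  obtain ⟨⟨v, hv⟩, hev, hne⟩ := hμ.exists_hasEigenvector
  rw [Module.End.mem_eigenspace_iff] at hev
  exact ⟨μ, v, hv, fun h => hne (Subtype.ext h), congrArg Subtype.val hev⟩

theorem eigen_pow_five (ρ : G →* Module.End F V) {X : G} (hX : X ^ 5 = 1) {μ : F} {v : V} (hv0 : v ≠ 0)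
    (h : ρ X v = μ • v) : μ ^ 5 = 1 := by
  have e := pow_apply_eigen ρ X h 5
  rw [hX, rho_one_apply] at e
  by_contra hne
  exact hv0 ((smul_eq_zero.mp (show (μ ^ 5 - 1) • v = 0 by rw [sub_smul, one_smul, ← e, sub_self])).resolve_left
    (sub_ne_zero.mpr hne))

theorem conj_shift {S X : G} (h5 : X ^ 5 = 1) (h : S * X * S⁻¹ = X ^ 2) : X * S = S * X ^ 3 := by
  have e : S * X ^ 3 * S⁻¹ = X := by
    rw [← conj_pow, h, ← pow_mul, show 2 * 3 = 5 + 1 from rfl, pow_succ, h5, one_mul]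
  calc X * S = (S * X ^ 3 * S⁻¹) * S := by rw [e]
    _ = S * X ^ 3 := by group

/-- The eigenspaces of an element of order five normalised by a squaring element and centralised by two
anticommuting elements. -/
theorem five_spaces [IsAlgClosed F] (h2 : (2 : F) ≠ 0) (h5 : (5 : F) ≠ 0) (ρ : G →* Module.End F V) {X S U W : G}
    (hX : X ^ 5 = 1) (hX1 : ∃ v, ρ X v ≠ v) (hS : S * X * S⁻¹ = X ^ 2) (hU : Commute X U) (hW : Commute X W)
    (hUW : ∀ v, ρ U (ρ W v) = -ρ W (ρ U v)) (hn : finrank F V ≤ 8) :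
    (∀ v, ρ X v = v → v = 0) ∧ ∀ μ : F, μ ^ 5 = 1 → μ ≠ 1 → finrank F ((ρ X).eigenspace μ) = 2 := by
  classical
  obtain ⟨ζ, hζ1, hζ5, hpos⟩ : ∃ μ : F, μ ≠ 1 ∧ μ ^ 5 = 1 ∧ 0 < finrank F ((ρ X).eigenspace μ) := by
    let L : V →ₗ[F] V := (ρ X : V →ₗ[F] V) - LinearMap.id
    have hL : ∀ v, L v = ρ X v - v := fun v => rfl
    have hne : LinearMap.range L ≠ ⊥ := fun h => by
      obtain ⟨v, hv⟩ := hX1
      refine hv (sub_eq_zero.mp ?_)
      have : ρ X v - v ∈ LinearMap.range L := ⟨v, hL v⟩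
      rwa [h, Submodule.mem_bot] at this
    obtain ⟨μ, v, hv, hv0, hev⟩ := exists_common ρ X _ hne (by
      rintro _ ⟨u, rfl⟩
      exact ⟨ρ X u, by simp only [hL, map_sub]⟩)
    refine ⟨μ, fun h1 => ?_, eigen_pow_five ρ hX hv0 hev, ?_⟩
    · obtain ⟨u, hu⟩ := hv
      rw [h1, one_smul] at hev
      have hu' : ρ X u = u + v := by rw [← hu, hL]; abel
      have e : ρ (X ^ 5) u = u + (5 : F) • v := by
        simp only [pow_succ, pow_zero, one_mul, rho_mul_apply, hu', map_add, hev]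
        module
      rw [hX, rho_one_apply, left_eq_add] at e
      exact hv0 ((smul_eq_zero.mp e).resolve_left h5)
    · rw [pos_iff_ne_zero, ne_eq, Submodule.finrank_eq_zero]
      intro h
      exact hv0 ((Submodule.mem_bot F).mp (h ▸ (Module.End.mem_eigenspace_iff.mpr hev : v ∈ (ρ X).eigenspace μ)))
  have hprim : IsPrimitiveRoot ζ 5 := IsPrimitiveRoot.iff_orderOf.mpr (by
    haveI : Fact (Nat.Prime 5) := ⟨by norm_num⟩
    exact orderOf_eq_prime hζ5 hζ1)
  have hmap : ∀ μ : F, finrank F ((ρ X).eigenspace μ) ≤ finrank F ((ρ X).eigenspace (μ ^ 3)) := fun μ =>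
    finrank_le_of_mapsTo ρ S fun v hv => by
      rw [Module.End.mem_eigenspace_iff] at hv ⊢
      rw [← rho_mul_apply, conj_shift hX hS, rho_mul_apply, pow_apply_eigen ρ X hv 3, map_smul]
  let f : ℕ → ℕ := fun i => finrank F ((ρ X).eigenspace (ζ ^ i))
  have hstep : ∀ i j, 3 * i % 5 = j → f i ≤ f j := fun i j e => by
    show finrank F _ ≤ finrank F _
    rw [← e, ← pow_eq_pow_mod (3 * i) hζ5, mul_comm, pow_mul]
    exact hmap _
  have := hstep 1 3 rfl
  have := hstep 3 4 rfl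
  have := hstep 4 2 rfl
  have := hstep 2 1 rfl
  have hd2 : 2 ≤ f 1 := by
    by_contra hlt
    have h1 : finrank F ((ρ X).eigenspace ζ) = 1 := by
      have : f 1 = finrank F ((ρ X).eigenspace ζ) := congrArg (fun z => finrank F ((ρ X).eigenspace z)) (pow_one ζ)
      omega
    obtain ⟨u, hu, hu0⟩ : ∃ u ∈ (ρ X).eigenspace ζ, u ≠ 0 := by
      refine Submodule.exists_mem_ne_zero_of_ne_bot fun h => ?_
      rw [h, finrank_bot] at h1
      omega
    have hline : (ρ X).eigenspace ζ = Submodule.span F {u} :=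
      (Submodule.eq_of_le_of_finrank_le (Submodule.span_le.mpr (by simpa using hu))
        (by rw [finrank_span_singleton hu0, h1])).symm
    have hact : ∀ Y : G, Commute X Y → ∃ a : F, a ≠ 0 ∧ ρ Y u = a • u := fun Y hY => by
      have hm : ρ Y u ∈ (ρ X).eigenspace ζ := by
        rw [Module.End.mem_eigenspace_iff] at hu ⊢
        rw [← rho_mul_apply, hY.eq, rho_mul_apply, hu, map_smul]
      rw [hline, Submodule.mem_span_singleton] at hm
      obtain ⟨a, ha⟩ := hm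
      refine ⟨a, fun h0 => hu0 (rho_injective ρ Y ?_), ha.symm⟩
      rw [← ha, h0, zero_smul, map_zero]
    obtain ⟨a, ha0, ha⟩ := hact U hU
    obtain ⟨b, hb0, hb⟩ := hact W hW
    have e := hUW u
    rw [hb, map_smul, ha, map_smul, hb, smul_smul, smul_smul] at e
    have e' : (2 * (a * b)) • u = 0 := by linear_combination (norm := module) e
    exact mul_ne_zero h2 (mul_ne_zero ha0 hb0) ((smul_eq_zero.mp e').resolve_right hu0)
  have hsum : ∑ i ∈ Finset.range 5, f i ≤ finrank F V := by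
    refine le_of_eq_of_le ?_ (sum_eigen_le (ρ X) ((Finset.range 5).image fun i => ζ ^ i))
    rw [Finset.sum_image]
    intro i hi j hj e
    exact hprim.pow_inj (Finset.mem_range.mp hi) (Finset.mem_range.mp hj) e
  simp only [Finset.sum_range_succ, Finset.sum_range_zero] at hsum
  refine ⟨fun v hv => ?_, fun μ hμ hμ1 => ?_⟩
  · have h0 : f 0 = 0 := by omega
    have hb : (ρ X).eigenspace (ζ ^ 0) = ⊥ := Submodule.finrank_eq_zero.mp h0
    rw [← Submodule.mem_bot F, ← hb, pow_zero, Module.End.mem_eigenspace_iff, hv, one_smul]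
  · obtain ⟨i, hi, rfl⟩ := hprim.eq_pow_of_pow_eq_one hμ
    show f i = 2
    interval_cases i
    · exact absurd (pow_zero ζ) hμ1
    all_goals omega

variable [Finite G]

theorem lift_five {r : ℕ} {π : G →* Perm (Fin r)} (h : IsCover π) {p : Perm (Fin r)} (hs : Perm.sign p = 1)
    (h5 : p ^ 5 = 1) : ∃ X, π X = p ∧ X ^ 5 = 1 := by
  obtain ⟨Y, hY⟩ := h.onto p hs
  have hk : π (Y ^ 5) = 1 := by rw [map_pow, hY, h5]
  refine ⟨Y * Y ^ 5, by rw [map_mul, hk, mul_one, hY], ?_⟩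
  have hc : Commute Y (Y ^ 5) := Commute.self_pow Y 5
  rw [hc.mul_pow]
  calc Y ^ 5 * (Y ^ 5) ^ 5 = (Y ^ 5 * Y ^ 5) * (Y ^ 5 * Y ^ 5) * (Y ^ 5 * Y ^ 5) := by group
    _ = 1 := by rw [h.sq hk, one_mul, one_mul]

theorem eq_of_pow_five {r : ℕ} {π : G →* Perm (Fin r)} (h : IsCover π) {x y : G} (e : π x = π y) (hx : x ^ 5 = 1)
    (hy : y ^ 5 = 1) : x = y := by
  obtain ⟨c, hc, rfl⟩ := h.lifts e
  rw [(show Commute y c from h.cen hc y).mul_pow, hy, one_mul] at hx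
  have h2 := h.sq hc
  have : c = 1 := by
    calc c = c * (c * c) * (c * c) := by rw [h2, mul_one, mul_one]
      _ = c ^ 5 := by simp only [pow_succ, pow_zero, one_mul, mul_assoc]
      _ = 1 := hx
  rw [this, mul_one]

/-- The permutation exchanging the two blocks of five points, with multipliers. -/
def exchange (k : Fin 4) : Perm (Fin 10) where
  toFun x := if x.1 < 5 then ⟨5 + (2 * (k.1 + 1) * x.1) % 5, by omega⟩
    else ⟨(![1, 3, 2, 4] k * (x.1 - 5)) % 5, by omega⟩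
  invFun x := if x.1 < 5 then ⟨5 + ((k.1 + 1) * x.1) % 5, by omega⟩
    else ⟨(3 * ![1, 3, 2, 4] k * (x.1 - 5)) % 5, by omega⟩
  left_inv := by revert k; decide
  right_inv := by revert k; decide

theorem ten_facts :
    let c : Perm (Fin 10) := swap 0 1 * swap 1 2 * (swap 2 3 * swap 3 4)
    let d : Perm (Fin 10) := swap 5 6 * swap 6 7 * (swap 7 8 * swap 8 9)
    let s : Perm (Fin 10) := swap 1 2 * swap 2 4 * swap 4 3 * (swap 6 7 * swap 7 9 * swap 9 8)
    let i : Perm (Fin 10) := swap 6 9 * swap 7 8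
    Perm.sign c = 1 ∧ Perm.sign d = 1 ∧ Perm.sign s = 1 ∧ Perm.sign i = 1 ∧ c ^ 5 = 1 ∧ d ^ 5 = 1 ∧ c ≠ 1 ∧ d ≠ 1 ∧
      s * c * s⁻¹ = c ^ 2 ∧ s * d * s⁻¹ = d ^ 2 ∧ i * d * i⁻¹ = d ^ 4 ∧ i * c = c * i ∧ c * d = d * c ∧
      ∀ k : Fin 4, Perm.sign (exchange k) = 1 ∧ exchange k * c * (exchange k)⁻¹ = d ^ (2 * (k.1 + 1)) ∧
        exchange k * d * (exchange k)⁻¹ = c ^ (![1, 3, 2, 4] k) := by
  decide +kernel

/-- Degree ten. -/
theorem ten_bound [IsAlgClosed F] {π : G →* Perm (Fin 10)} {ρ : G →* Module.End F V} (h : IsSpin π ρ)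
    (hfaith : ∀ g, (∀ v, ρ g v = v) → π g = 1) (h2 : (2 : F) ≠ 0) (h5 : (5 : F) ≠ 0) : 9 ≤ finrank F V := by
  classical
  have hcov := h.cover
  by_contra hlt
  have hn : finrank F V ≤ 8 := by omega
  obtain ⟨fc, fd, fs, fi, c5, d5, c1, d1, sc, sd, id', ic, cd, fk⟩ := ten_facts
  obtain ⟨C, hC, hC5⟩ := lift_five hcov fc c5
  obtain ⟨D, hD, hD5⟩ := lift_five hcov fd d5
  obtain ⟨S, hS⟩ := hcov.onto _ fs
  obtain ⟨I, hI⟩ := hcov.onto _ fi
  have conj5 : ∀ (g x y : G), x ^ 5 = 1 → y ^ 5 = 1 → π g * π x * (π g)⁻¹ = π y → g * x * g⁻¹ = y := fun g x y hx hy e =>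
    eq_of_pow_five hcov (by rw [map_mul, map_mul, map_inv, e]) (by rw [conj_pow, hx, mul_one, mul_inv_cancel]) hy
  have pw : ∀ (x : G) (m : ℕ), x ^ 5 = 1 → (x ^ m) ^ 5 = 1 := fun x m hx => by
    rw [← pow_mul, mul_comm, pow_mul, hx, one_pow]
  have hSC : S * C * S⁻¹ = C ^ 2 := conj5 S C _ hC5 (pw C 2 hC5) (by rw [map_pow, hS, hC]; exact sc)
  have hSD : S * D * S⁻¹ = D ^ 2 := conj5 S D _ hD5 (pw D 2 hD5) (by rw [map_pow, hS, hD]; exact sd)
  have hID : I * D * I⁻¹ = D ^ 4 := conj5 I D _ hD5 (pw D 4 hD5) (by rw [map_pow, hI, hD]; exact id')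
  have hapart : ∀ {X Y : G}, (∀ z, π Y z = z ∨ π X z = z) → Commute X Y := fun {X Y} hd =>
    commute_apart hcov (hcov.even Y) fun z hz => (hd z).resolve_left hz
  have hCD : Commute C D := hapart (by rw [hC, hD]; decide +kernel)
  have hCI : Commute C I := hapart (by rw [hC, hI]; decide +kernel)
  have pair : ∀ p q s t : Fin 10, p ≠ q → s ≠ t → ∃ X, π X = swap p q * swap s t := fun p q s t h1 h2 =>
    hcov.onto _ (by rw [map_mul, Perm.sign_swap h1, Perm.sign_swap h2]; rfl)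
  obtain ⟨U, hU⟩ := pair 5 6 7 8 (by decide) (by decide)
  obtain ⟨W, hW⟩ := pair 5 7 6 8 (by decide) (by decide)
  obtain ⟨U', hU'⟩ := pair 0 1 2 3 (by decide) (by decide)
  obtain ⟨W', hW'⟩ := pair 0 2 1 3 (by decide) (by decide)
  have hne1 : ∀ {X : G}, π X ≠ 1 → ∃ v, ρ X v ≠ v := fun {X} hx => by
    by_contra hh
    simp only [not_exists, not_not] at hh
    exact hx (hfaith X hh)
  obtain ⟨fixC, dimC⟩ := five_spaces h2 h5 ρ hC5 (hne1 (hC ▸ c1)) hSC
    (hapart (X := C) (Y := U) (by rw [hC, hU]; decide +kernel)) (hapart (X := C) (Y := W) (by rw [hC, hW]; decide +kernel))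
    (fun v => h.anti (by rw [hU, hW]; decide +kernel) (hcov.not_commute (by omega) (by decide) hU hW) v) hn
  obtain ⟨fixD, -⟩ := five_spaces h2 h5 ρ hD5 (hne1 (hD ▸ d1)) hSD
    (hapart (X := D) (Y := U') (by rw [hD, hU']; decide +kernel)) (hapart (X := D) (Y := W') (by rw [hD, hW']; decide +kernel))
    (fun v => h.anti (by rw [hU', hW']; decide +kernel) (hcov.not_commute (by omega) (by decide) hU' hW') v) hn
  -- a primitive fifth root of unity
  have hVne : (⊤ : Submodule F V) ≠ ⊥ := fun hb => by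
    obtain ⟨v, hv⟩ := hne1 (hC ▸ c1)
    have hz : ∀ w : V, w = 0 := fun w => (Submodule.mem_bot F).mp (hb ▸ Submodule.mem_top)
    exact hv ((hz _).trans (hz v).symm)
  obtain ⟨ζ, v0, -, hv00, hev0⟩ := exists_common ρ C ⊤ hVne fun _ _ => Submodule.mem_top
  have hζ5 := eigen_pow_five ρ hC5 hv00 hev0
  have hζ1 : ζ ≠ 1 := fun e => hv00 (fixC v0 (by rw [hev0, e, one_smul]))
  have hprim : IsPrimitiveRoot ζ 5 := IsPrimitiveRoot.iff_orderOf.mpr (by
    haveI : Fact (Nat.Prime 5) := ⟨by norm_num⟩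
    exact orderOf_eq_prime hζ5 hζ1)
  have hmod : ∀ m : ℕ, ζ ^ m = ζ ^ (m % 5) := fun m => by
    conv_lhs => rw [← Nat.mod_add_div m 5, pow_add, pow_mul, hζ5, one_pow, mul_one]
  have hcC : ∀ {Y : G}, Commute C Y → ∀ v ∈ (ρ C).eigenspace ζ, ρ Y v ∈ (ρ C).eigenspace ζ := fun {Y} hY v hv => by
    rw [Module.End.mem_eigenspace_iff] at hv ⊢
    rw [← rho_mul_apply, hY.eq, rho_mul_apply, hv, map_smul]
  have hdim := dimC ζ hζ5 hζ1
  have hEne : (ρ C).eigenspace ζ ≠ ⊥ := fun hb => by rw [hb, finrank_bot] at hdim; omega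
  obtain ⟨η, v, hv, hv0, hev⟩ := exists_common ρ D _ hEne (hcC hCD)
  have hη1 : η ≠ 1 := fun e => hv0 (fixD v (by rw [hev, e, one_smul]))
  obtain ⟨j, hj, rfl⟩ := hprim.eq_pow_of_pow_eq_one (eigen_pow_five ρ hD5 hv0 hev)
  have hj0 : j ≠ 0 := fun e => hη1 (by rw [e, pow_zero])
  obtain ⟨k, hk⟩ : ∃ k : Fin 4, (1 + j * (k.1 + 1)) % 5 = 0 := by
    interval_cases j
    · omega
    all_goals decide
  obtain ⟨fks, fkc, fkd⟩ := fk k
  obtain ⟨g, hg⟩ := hcov.onto _ fks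
  have hgC : g * C * g⁻¹ = D ^ (2 * (k.1 + 1)) :=
    conj5 g C _ hC5 (pw D _ hD5) (by rw [map_pow, hg, hC, hD]; exact fkc)
  have hgD : g * D * g⁻¹ = C ^ (![1, 3, 2, 4] k) :=
    conj5 g D _ hD5 (pw C _ hC5) (by rw [map_pow, hg, hC, hD]; exact fkd)
  set X := C * D ^ (k.1 + 1) with hX
  set Y := C * D ^ (2 * (k.1 + 1)) with hY
  have hgX : g * X * g⁻¹ = Y := by
    have e : g * X * g⁻¹ = (g * C * g⁻¹) * (g * D * g⁻¹) ^ (k.1 + 1) := by rw [hX, conj_pow]; group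
    rw [e, hgC, hgD, ← pow_mul]
    have hm : C ^ (![1, 3, 2, 4] k * (k.1 + 1)) = C := by
      rw [pow_eq_pow_mod _ hC5, (show ∀ k : Fin 4, ![1, 3, 2, 4] k * (k.1 + 1) % 5 = 1 by decide) k, pow_one]
    rw [hm, hY]
    exact (hCD.pow_right _).symm.eq
  rw [Module.End.mem_eigenspace_iff] at hv
  have hDk : ρ (D ^ (k.1 + 1)) v = ζ ^ (j * (k.1 + 1)) • v := by
    rw [pow_apply_eigen ρ D hev, ← pow_mul]
  have hXv : ρ X v = v := by
    rw [hX, rho_mul_apply, hDk, map_smul, hv, smul_smul, mul_comm, ← pow_succ', hmod, show (j * (k.1 + 1) + 1) % 5 = 0 by omega,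
      pow_zero, one_smul]
  let M : Submodule F V := (ρ Y).eigenspace 1
  have hgv : ρ g v ∈ M := by
    rw [Module.End.mem_eigenspace_iff, one_smul, ← hgX, rho_mul_apply, rho_inv_apply, rho_mul_apply, hXv]
  have hMne : M ≠ ⊥ := fun hb => by
    rw [hb, Submodule.mem_bot] at hgv
    exact hv0 (rho_injective ρ g (hgv.trans (map_zero _).symm))
  have hCY : Commute C Y := (Commute.refl C).mul_right (hCD.pow_right _)
  obtain ⟨θ, w1, hw1, hw10, hev1⟩ := exists_common ρ C M hMne fun u hu => by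
    rw [Module.End.mem_eigenspace_iff, one_smul] at hu ⊢
    rw [← rho_mul_apply, ← hCY.eq, rho_mul_apply, hu]
  have hθ1 : θ ≠ 1 := fun e => hw10 (fixC w1 (by rw [hev1, e, one_smul]))
  obtain ⟨i, hi, rfl⟩ := hprim.eq_pow_of_pow_eq_one (eigen_pow_five ρ hC5 hw10 hev1)
  have hY5 : Y ^ 5 = 1 := by rw [hY, (hCD.pow_right _).mul_pow, hC5, pw D _ hD5, one_mul]
  have hSY : S * Y * S⁻¹ = Y ^ 2 := by
    have e : S * Y * S⁻¹ = (S * C * S⁻¹) * (S * D * S⁻¹) ^ (2 * (k.1 + 1)) := by rw [hY, conj_pow]; group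
    rw [e, hSC, hSD, hY, (hCD.pow_right _).mul_pow, ← pow_mul, ← pow_mul, mul_comm (2 * (k.1 + 1))]
  let P : ℕ → Prop := fun m => ∃ w ∈ M, w ≠ 0 ∧ ρ C w = ζ ^ m • w
  have hP3 : ∀ m, P m → P (3 * m % 5) := by
    rintro m ⟨w, hw, hw0, hCw⟩
    refine ⟨ρ S w, ?_, fun e => hw0 (rho_injective ρ S (e.trans (map_zero _).symm)), ?_⟩
    · rw [Module.End.mem_eigenspace_iff, one_smul] at hw ⊢
      rw [← rho_mul_apply, conj_shift hY5 hSY, rho_mul_apply, pow_apply_eigen ρ Y (μ := 1) (by rw [hw, one_smul]),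
        one_pow, one_smul]
    · rw [← rho_mul_apply, conj_shift hC5 hSC, rho_mul_apply, pow_apply_eigen ρ C hCw, map_smul, ← pow_mul,
        hmod, mul_comm]
  have hP1 : P 1 := by
    have h0 : P i := ⟨w1, hw1, hw10, hev1⟩
    interval_cases i
    · exact absurd (pow_zero ζ) hθ1
    · exact h0
    · exact hP3 _ h0
    · exact hP3 _ (hP3 _ (hP3 _ h0))
    · exact hP3 _ (hP3 _ h0)
  obtain ⟨w, hw, hw0, hCw⟩ := hP1
  rw [pow_one] at hCw
  rw [Module.End.mem_eigenspace_iff, one_smul] at hw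
  have hD2 : ρ (D ^ (2 * (k.1 + 1))) w = ζ ^ 4 • w := by
    have e : ρ (D ^ (2 * (k.1 + 1))) (ρ C w) = w := by rw [← rho_mul_apply, ← (hCD.pow_right _).eq, ← hY, hw]
    rw [hCw, map_smul] at e
    calc ρ (D ^ (2 * (k.1 + 1))) w = (ζ ^ 4 * ζ) • ρ (D ^ (2 * (k.1 + 1))) w := by
          rw [← pow_succ, hζ5, one_smul]
      _ = ζ ^ 4 • w := by rw [mul_smul, e]
  have hDw : ρ (D ^ (k.1 + 1)) w = ζ ^ 2 • w := by
    have e : D ^ (k.1 + 1) = (D ^ (2 * (k.1 + 1))) ^ 3 := by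
      rw [← pow_mul, pow_eq_pow_mod (k.1 + 1) hD5, pow_eq_pow_mod (2 * (k.1 + 1) * 3) hD5]
      congr 1
      omega
    rw [e, pow_apply_eigen ρ _ hD2, ← pow_mul, hmod]
  have hDv : ρ (D ^ (k.1 + 1)) v = ζ ^ 4 • v := by
    rw [hDk, hmod, show j * (k.1 + 1) % 5 = 4 by omega]
  have hDIv : ρ (D ^ (k.1 + 1)) (ρ I v) = ζ • ρ I v := by
    have e : D ^ (k.1 + 1) * I = I * (D ^ (k.1 + 1)) ^ 4 := by
      have e1 : I * (D ^ (k.1 + 1)) ^ 4 * I⁻¹ = D ^ (k.1 + 1) := by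
        rw [← pow_mul, ← conj_pow, hID, ← pow_mul, show 4 * ((k.1 + 1) * 4) = 5 * (3 * (k.1 + 1)) + (k.1 + 1) by ring,
          pow_add, pow_mul, hD5, one_pow, one_mul]
      calc D ^ (k.1 + 1) * I = (I * (D ^ (k.1 + 1)) ^ 4 * I⁻¹) * I := by rw [e1]
        _ = I * (D ^ (k.1 + 1)) ^ 4 := by group
    rw [← rho_mul_apply, e, rho_mul_apply, pow_apply_eigen ρ _ hDv, map_smul, ← pow_mul, hmod, pow_one]
  let E := (ρ C).eigenspace ζ
  have hvE : v ∈ E := Module.End.mem_eigenspace_iff.mpr hv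
  have hwE : w ∈ E := Module.End.mem_eigenspace_iff.mpr hCw
  have hIE : ρ I v ∈ E := hcC hCI v hvE
  let f : Module.End F E := (ρ (D ^ (k.1 + 1))).restrict (hcC (hCD.pow_right _))
  have hpos : ∀ (μ : F) (x : E), (x : V) ≠ 0 → ρ (D ^ (k.1 + 1)) (x : V) = μ • (x : V) → 1 ≤ finrank F (f.eigenspace μ) := by
    intro μ x hx0 hx
    rw [Nat.one_le_iff_ne_zero, ne_eq, Submodule.finrank_eq_zero]
    intro hb
    have hm : x ∈ f.eigenspace μ := Module.End.mem_eigenspace_iff.mpr (Subtype.ext hx)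
    rw [hb, Submodule.mem_bot] at hm
    exact hx0 (congrArg Subtype.val hm)
  have n14 : ζ ≠ ζ ^ 4 := fun e => absurd (hprim.pow_inj (i := 1) (j := 4) (by omega) (by omega) (by rw [pow_one]; exact e)) (by omega)
  have n12 : ζ ≠ ζ ^ 2 := fun e => absurd (hprim.pow_inj (i := 1) (j := 2) (by omega) (by omega) (by rw [pow_one]; exact e)) (by omega)
  have n42 : ζ ^ 4 ≠ ζ ^ 2 := fun e => absurd (hprim.pow_inj (i := 4) (j := 2) (by omega) (by omega) e) (by omega)
  have := three_eigen f n14 n12 n42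
  have := hpos _ ⟨_, hIE⟩ (fun e => hv0 (rho_injective ρ I (e.trans (map_zero _).symm))) hDIv
  have := hpos _ ⟨_, hvE⟩ hv0 hDv
  have := hpos _ ⟨_, hwE⟩ hw0 hDw
  have : finrank F E = 2 := hdim
  omega

end CfsgLib.AltLinear.Spin
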